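import Mathlib
import Cfsg.Prelude.Def_TwoFusion
import Cfsg.Agent.Lib.JankoTwo.Setup
import Cfsg.Agent.Lib.ZStar.Consequences

/-!
In a simple group with a centralizer `2^{1+4}.A₅` and two classes of involutions, the central involution
has a further conjugate in the extraspecial group.
-/

set_option autoImplicit false
set_option linter.all false

namespace Cfsg.Agent.J2Uniq

open Subgroup InvChar.JankoTwoCount

universe v

theorem exists_hyp_simple {G : Type v} [Group G] [Finite G] [IsSimpleGroup G] (z : G) (hz : orderOf z = 2)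
    (Q : Subgroup (Subgroup.centralizer ({z} : Set G))) [Q.Normal] (hQ : Cfsg.IsExtraspecial 2 Q)
    (hcard : Nat.card Q = 32)
    (h2c : Subgroup.centralizer (Q : Set (Subgroup.centralizer ({z} : Set G))) ≤ Q)
    (e : (Subgroup.centralizer ({z} : Set G)) ⧸ Q ≃* alternatingGroup (Fin 5))
    (hcl : ∃ x y : G, orderOf x = 2 ∧ orderOf y = 2 ∧ ¬ IsConj x y) :
    ∃ K, JankoTwo.Hyp z Q K := by
  classical
  haveI : _root_.Fact (Nat.Prime 2) := ⟨Nat.prime_two⟩
  have hzz : z * z = 1 := by rw [← pow_two, ← hz, pow_orderOf_eq_one]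
  have hz1 : z ≠ 1 := fun e0 => by rw [e0, orderOf_one] at hz; omega
  have hzc : ∀ c : (Subgroup.centralizer ({z} : Set G)), JankoTwo.zed z * c = c * JankoTwo.zed z := fun c =>
    Subtype.ext (mem_centralizer_singleton_iff.1 c.2).symm
  have hzQ : JankoTwo.zed z ∈ Q := h2c (mem_centralizer_iff.2 fun c _ => (hzc c).symm)
  -- the generalized Fitting subgroup
  have hQ2 : IsPGroup 2 Q := IsPGroup.of_card (n := 5) (by rw [hcard]; norm_num)
  have hcore : Cfsg.pCore 2 (Subgroup.centralizer ({z} : Set G)) = Q := by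
    refine le_antisymm ?_ (Cfsg.Agent.CharP.le_pCore inferInstance hQ2)
    haveI : ((Cfsg.pCore 2 (Subgroup.centralizer ({z} : Set G))).map (QuotientGroup.mk' Q)).Normal :=
      Subgroup.Normal.map inferInstance _ (QuotientGroup.mk'_surjective Q)
    haveI : IsSimpleGroup ((Subgroup.centralizer ({z} : Set G)) ⧸ Q) := by
      haveI := alternatingGroup.isSimpleGroup_five
      haveI : Nontrivial ((Subgroup.centralizer ({z} : Set G)) ⧸ Q) := e.toEquiv.nontrivial
      exact IsSimpleGroup.isSimpleGroup_of_surjective e.symm.toMonoidHom e.symm.surjective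
    rcases IsSimpleGroup.eq_bot_or_eq_top_of_normal ((Cfsg.pCore 2 (Subgroup.centralizer ({z} : Set G))).map (QuotientGroup.mk' Q)) inferInstance
      with h0 | h0
    · intro x hx
      have : QuotientGroup.mk' Q x ∈ (⊥ : Subgroup ((Subgroup.centralizer ({z} : Set G)) ⧸ Q)) := h0 ▸ mem_map_of_mem _ hx
      exact (QuotientGroup.eq_one_iff x).1 (mem_bot.1 this)
    · exfalso
      obtain ⟨k, hk⟩ := IsPGroup.iff_card.1
        ((Cfsg.Agent.CharP.isPGroup_pCore 2 (Subgroup.centralizer ({z} : Set G))).map (QuotientGroup.mk' Q))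
      rw [h0, card_top, Nat.card_congr e.toEquiv] at hk
      have h3 : 3 ∣ 2 ^ k := by
        rw [← hk, Nat.card_eq_fintype_card]
        decide +kernel
      have := Nat.prime_three.dvd_of_dvd_pow h3
      norm_num at this
  have hF : Cfsg.generalizedFittingSubgroup (Subgroup.centralizer ({z} : Set G)) = Q := by
    rw [← hcore]
    exact Cfsg.Agent.CharP.genFitting_eq_pCore_iff.2 (by rw [hcore]; exact h2c)
  obtain ⟨eA⟩ := JankoTwo.omega_equiv
  refine JankoTwo.exists_hyp z hz Q hF hQ (by rw [hcard]; norm_num) (e.trans eA.symm) ?_ hcl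
  -- a further conjugate in `Q`
  by_contra hno
  push Not at hno
  have hwc : ∀ v : (Subgroup.centralizer ({z} : Set G)), v ∈ Q → IsConj z (v : G) → (v : G) = z := by
    intro v hv hc
    obtain ⟨g, hg⟩ := isConj_iff.1 hc
    rw [← hg]
    exact hno g ⟨hg ▸ v.2, by convert hv using 1; exact Subtype.ext hg⟩
  -- an involution outside `Q` conjugate to `z`
  have hiso : ∃ v : (Subgroup.centralizer ({z} : Set G)), v * v = 1 ∧ IsConj z (v : G) ∧ v ∉ Q := by
    by_contra hh
    push Not at hh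
    have hI : Cfsg.IsIsolatedInvolution z := by
      refine ⟨hz, fun g hg => ?_⟩
      have hm : g * z * g⁻¹ ∈ (Subgroup.centralizer ({z} : Set G)) := mem_centralizer_singleton_iff.2 hg.eq.symm
      have hc : IsConj z (g * z * g⁻¹) := isConj_iff.2 ⟨g, rfl⟩
      have h2 : (⟨_, hm⟩ : (Subgroup.centralizer ({z} : Set G))) * ⟨_, hm⟩ = 1 := Subtype.ext (JankoTwo.sq_one_of_conj hc hzz)
      exact hwc ⟨_, hm⟩ (hh _ h2 hc) hc
    have h2G : 2 ∣ Nat.card G := hz ▸ orderOf_dvd_natCard z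
    have hO : Cfsg.oddCore G = ⊥ := ZStar.Consequences.oddCore_eq_bot fun N hN hodd => by
      rcases hN.eq_bot_or_eq_top with hb | htop
      · exact hb
      · exfalso
        rw [htop, card_top] at hodd
        exact (Nat.not_even_iff_odd.2 hodd) (even_iff_two_dvd.2 h2G)
    have hzcen := ZStar.Main.mem_center_of_isolated hO hI
    have hCtop : (Subgroup.centralizer ({z} : Set G)) = ⊤ := eq_top_iff.2 fun g _ =>
      mem_centralizer_singleton_iff.2 (mem_center_iff.1 hzcen g)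
    haveI hQn : (Q.map (Subgroup.centralizer ({z} : Set G)).subtype).Normal := ⟨fun a ha g => by
      obtain ⟨q, hq, rfl⟩ := ha
      exact ⟨(⟨g, hCtop ▸ mem_top g⟩ : (Subgroup.centralizer ({z} : Set G))) * q * (⟨g, hCtop ▸ mem_top g⟩ : (Subgroup.centralizer ({z} : Set G)))⁻¹,
        Subgroup.Normal.conj_mem inferInstance q hq _, rfl⟩⟩
    have hQc : Nat.card (Q.map (Subgroup.centralizer ({z} : Set G)).subtype) = 32 := by
      rw [card_map_of_injective (Subgroup.centralizer ({z} : Set G)).subtype_injective, hcard]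
    rcases hQn.eq_bot_or_eq_top with hb | ht
    · rw [hb, card_bot] at hQc; omega
    · rw [ht, card_top] at hQc
      have h1 := Q.card_mul_index
      rw [hcard, Subgroup.index_eq_card, Nat.card_congr e.toEquiv] at h1
      have h60 : Nat.card (alternatingGroup (Fin 5)) = 60 := by rw [Nat.card_eq_fintype_card]; decide +kernel
      rw [h60, hCtop, card_top, hQc] at h1
      omega
  obtain ⟨v, hv2, hvc, hvQ⟩ := hiso
  let π : (Subgroup.centralizer ({z} : Set G)) →* JankoTwo.AltFive.A5 := e.toMonoidHom.comp (QuotientGroup.mk' Q)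
  have hP : JankoTwo.Pre Q (JankoTwo.zed z) π := ⟨inferInstance, hQ, hcard, hzQ, Subtype.ext hzz,
    fun e0 => hz1 (congrArg Subtype.val e0), hzc, h2c, e.surjective.comp (QuotientGroup.mk'_surjective Q), by
      ext x
      rw [MonoidHom.mem_ker]
      show e (QuotientGroup.mk' Q x) = 1 ↔ x ∈ Q
      rw [MulEquiv.map_eq_one_iff]
      exact QuotientGroup.eq_one_iff x⟩
  obtain ⟨K, hK⟩ := hP.exists_setting hv2 hvQ
  have hout : ∀ w : (Subgroup.centralizer ({z} : Set G)), w * w = 1 → w ∉ Q → IsConj z (w : G) := fun w hw hwQ => by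
    obtain ⟨g, hg⟩ := JankoTwo.setting_outside_conj hK hv2 hvQ hw hwQ
    exact hvc.trans (isConj_iff.2 ⟨g, congrArg Subtype.val hg⟩)
  obtain ⟨eK⟩ := hK.iso
  obtain ⟨τ, hτ2, hτ1⟩ : ∃ τ : alternatingGroup (Fin 5), τ * τ = 1 ∧ τ ≠ 1 := by decide +kernel
  set s : (Subgroup.centralizer ({z} : Set G)) := ((eK.symm τ : K) : (Subgroup.centralizer ({z} : Set G))) with hsdef
  have hs2 : s * s = 1 := by rw [hsdef, ← Subgroup.coe_mul, ← map_mul, hτ2, map_one]; rfl
  have hs1 : s ≠ 1 := fun e0 => hτ1 (eK.symm.injective ((Subtype.ext e0 : eK.symm τ = 1).trans eK.symm.map_one.symm))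
  have hsQ : s ∉ Q := fun e0 => hs1 (by
    have : s ∈ Q ⊓ K := ⟨e0, (eK.symm τ).2⟩
    rwa [hK.cap, mem_bot] at this)
  obtain ⟨g, hg⟩ := isConj_iff.1 (hout s hs2 hsQ)
  obtain ⟨u, hu, hus, -⟩ := JankoTwo.setting_fix_involution hK (eK.symm τ).2 hs2 hs1
  have hpull : ∀ x : (Subgroup.centralizer ({z} : Set G)), x * s = s * x → g⁻¹ * (x : G) * g ∈ (Subgroup.centralizer ({z} : Set G)) := by
    intro x hx
    refine mem_centralizer_singleton_iff.2 ?_
    have hx' : (x : G) * (g * z * g⁻¹) = g * z * g⁻¹ * (x : G) := by rw [hg]; exact congrArg Subtype.val hx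
    calc g⁻¹ * (x : G) * g * z = g⁻¹ * ((x : G) * (g * z * g⁻¹)) * g := by group
      _ = _ := by rw [hx']; group
  have huz : u * JankoTwo.zed z * s = s * (u * JankoTwo.zed z) := by
    rw [mul_assoc, hzc, ← mul_assoc, hus, mul_assoc]
  have hmem : ∀ (w : (Subgroup.centralizer ({z} : Set G))) (hw : g⁻¹ * (w : G) * g ∈ (Subgroup.centralizer ({z} : Set G))), w ∈ Q → w * w = 1 → w ≠ JankoTwo.zed z → w ≠ 1 →
      (⟨_, hw⟩ : (Subgroup.centralizer ({z} : Set G))) ∈ Q := by
    intro w hw hwQ hw2 hwz hw1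
    by_contra hh
    have h2 : (⟨_, hw⟩ : (Subgroup.centralizer ({z} : Set G))) * ⟨_, hw⟩ = 1 := Subtype.ext (by
      show g⁻¹ * (w : G) * g * (g⁻¹ * (w : G) * g) = 1
      calc g⁻¹ * (w : G) * g * (g⁻¹ * (w : G) * g) = g⁻¹ * ((w : G) * w) * g := by group
        _ = 1 := by rw [show (w : G) * w = 1 from congrArg Subtype.val hw2]; group)
    have hc : IsConj z (w : G) := (hout _ h2 hh).trans (isConj_iff.2 ⟨g, by
      show g * (g⁻¹ * (w : G) * g) * g⁻¹ = (w : G)
      group⟩)
    exact hwz (Subtype.ext (hwc w hwQ hc))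
  have huz2 : u * JankoTwo.zed z * (u * JankoTwo.zed z) = 1 := by
    calc u * JankoTwo.zed z * (u * JankoTwo.zed z) = u * (JankoTwo.zed z * u) * JankoTwo.zed z := by group
      _ = u * u * (JankoTwo.zed z * JankoTwo.zed z) := by rw [hzc]; group
      _ = 1 := by rw [hu.2.1, hP.zz, one_mul]
  have h1 := hmem u (hpull u hus) hu.1 hu.2.1 hu.2.2.2 hu.2.2.1
  have h2 := hmem (u * JankoTwo.zed z) (hpull _ huz) (Q.mul_mem hu.1 hzQ) huz2 (fun e0 => hu.2.2.1 (mul_eq_right.1 e0))
    (fun e0 => hu.2.2.2 ((eq_inv_of_mul_eq_one_left e0).trans (inv_eq_of_mul_eq_one_right hP.zz)))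
  have h3 := hwc _ (Q.mul_mem h1 h2) (isConj_iff.2 ⟨g⁻¹, by
    show g⁻¹ * z * g⁻¹⁻¹ = g⁻¹ * (u : G) * g * (g⁻¹ * ((u : G) * z) * g)
    rw [show g⁻¹ * (u : G) * g * (g⁻¹ * ((u : G) * z) * g) = g⁻¹ * (((u : G) * u) * z) * g by group,
      show (u : G) * u = 1 from congrArg Subtype.val hu.2.1, one_mul, inv_inv]⟩)
  have h4 : g⁻¹ * z * g = z := by
    have e1 : g⁻¹ * (u : G) * g * (g⁻¹ * ((u : G) * z) * g) = z := h3
    rwa [show g⁻¹ * (u : G) * g * (g⁻¹ * ((u : G) * z) * g) = g⁻¹ * (((u : G) * u) * z) * g by group,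
      show (u : G) * u = 1 from congrArg Subtype.val hu.2.1, one_mul] at e1
  have h5 : (s : G) = z := by
    rw [← hg]
    calc g * z * g⁻¹ = g * (g⁻¹ * z * g) * g⁻¹ := by rw [h4]
      _ = z := by group
  have h6 : s = JankoTwo.zed z := Subtype.ext h5
  exact hsQ (h6 ▸ hzQ)

end Cfsg.Agent.J2Uniq
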