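import Mathlib
import Cfsg.Agent.Lib.J2Uniq.Data

/-!
Computations in a concrete group `2^{1+4}.A₅` of order 1920. An element is a code `32 * p + q`, where
`q = m + 16 * e` stands for the product of the involutions `u i` with `i` in `m`, times the central
involution to the power `e`, and `p` numbers an even permutation of the five involutions `u 0, …, u 4`.
-/

set_option autoImplicit false
set_option maxRecDepth 100000
set_option maxHeartbeats 4000000

namespace Cfsg.Agent.J2Uniq

/-- An entry of a packed table. -/
def pget (t w j : ℕ) : ℕ := (t >>> (w * j)) % 2 ^ w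

/-- The part in the extraspecial group. -/
def qp (a : ℕ) : ℕ := a % 32

/-- The permutation part. -/
def pp (a : ℕ) : ℕ := a / 32 % 60

/-- A product in the extraspecial group. -/
def qmul (a b : ℕ) : ℕ := pget Data.qtab 5 (a * 32 + b)

/-- The action of a permutation on the extraspecial group. -/
def act (p q : ℕ) : ℕ := pget Data.act 5 (p * 32 + q)

/-- A product of two permutations. -/
def pmul (p r : ℕ) : ℕ := pget Data.ptab 6 (p * 60 + r)

/-- The image of a point. -/
def img (p i : ℕ) : ℕ := pget Data.img 3 (p * 5 + i)

/-- The product of two codes. -/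
def mul (a b : ℕ) : ℕ := pmul (pp a) (pp b) * 32 + qmul (qp a) (act (pp a) (qp b))

/-- The inverse of a code. -/
def inv (a : ℕ) : ℕ := pget Data.pinv 6 (pp a) * 32 + act (pget Data.pinv 6 (pp a)) (pget Data.qinv 5 (qp a))

/-- A conjugate. -/
def cj (g a : ℕ) : ℕ := mul (mul g a) (inv g)

/-- The code of `u i`. -/
def uc : ℕ → ℕ
  | 0 => 1
  | 1 => 2
  | 2 => 4
  | 3 => 8
  | _ => 15

/-- The code of the central involution. -/
def zc : ℕ := 16

/-- The involution outside the extraspecial group, commuting with `u 0`. -/
def tc : ℕ := 96

/-- An element exchanging `u 0` and its product with the central involution. -/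
def ec : ℕ := 2

/-- The product of two reflections of the order three element. -/
def cc : ℕ := 33

/-- Membership in the centralizer of `u 0`. -/
def inCU (r : ℕ) : Bool := Nat.beq (mul r 1) (mul 1 r)

/-- The automorphism of the centralizer of `u 0`. -/
def phi (r : ℕ) : ℕ := pget Data.phi 11 (r % 1920)

/-- The inverse automorphism. -/
def phinv (r : ℕ) : ℕ := pget Data.phinv 11 (r % 1920)

/-- The five generators of the centralizer of `u 0`. -/
def sg (k : ℕ) : ℕ := Data.sgen.getD k 0

/-- A word at given images. -/
def ev (im : ℕ → ℕ) : List ℕ → ℕ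
  | [] => 0
  | k :: w => mul (im k) (ev im w)

/-- The word of an element of the centralizer of `u 0`. -/
def cuWord (r : ℕ) : List ℕ := ((Data.words.find? fun x => Nat.beq x.1 r).map Prod.snd).getD []

end Cfsg.Agent.J2Uniq
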