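import Mathlib
import Cfsg.Agent.Lib.J2Uniq.Model

/-!
Finite checks on the group of order 1920.
-/

set_option autoImplicit false
set_option maxRecDepth 100000
set_option maxHeartbeats 4000000

namespace Cfsg.Agent.J2Uniq

/-- The letters of an element of the extraspecial group; `4` is the central involution. -/
def qbits (q : ℕ) : List ℕ := ([4, 0, 1, 2, 3] : List ℕ).filter fun i => q.testBit i

/-- Right multiplication by a letter. -/
def rins (q i : ℕ) : ℕ :=
  (q ^^^ 2 ^ i) ^^^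
    (if i < 4 ∧ ((List.range 4).filter fun j => decide (i < j) && q.testBit j).length % 2 = 1 then 16 else 0)

theorem qmul_ok : ∀ a < 32, ∀ b < 32, qmul a b < 32 ∧ (qbits b).foldl rins a = qmul a b := by decide +kernel

/-- The image of a letter. -/
def imgLetter (p i : ℕ) : ℕ := if i = 4 then 16 else uc (img p i)

theorem act_ok : ∀ p < 60, ∀ q < 32, act p q < 32 ∧ ((qbits q).map (imgLetter p)).foldl qmul 0 = act p q := by
  decide +kernel

theorem pmul_ok : ∀ p < 60, ∀ r < 60, pmul p r < 60 ∧ ∀ i < 5, img (pmul p r) i = img p (img r i) := by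
  decide +kernel

theorem img_ok : ∀ p < 60, ∀ i < 5, img p i < 5 := by decide +kernel

theorem inv_ok : ∀ a < 1920, mul a (inv a) = 0 := by decide +kernel

theorem perm_exists : ∀ p < 60, ∃ π : alternatingGroup (Fin 5), ∀ i : Fin 5, ((π : Equiv.Perm (Fin 5)) i).val = img p i := by
  decide +kernel

theorem perm_surj : ∀ π : alternatingGroup (Fin 5), ∃ p < 60, ∀ i : Fin 5, ((π : Equiv.Perm (Fin 5)) i).val = img p i := by
  decide +kernel

theorem img_zero : ∀ i < 5, img 0 i = i := by decide +kernel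

theorem center_ok : ∀ q < 32, (∀ j < 4, qmul q (uc j) = qmul (uc j) q) → q = 0 ∨ q = 16 := by decide +kernel

theorem commutator_ok : ∀ q < 32, ∀ j < 4, qmul q (uc j) = qmul (uc j) q ∨ qmul q (uc j) = qmul 16 (qmul (uc j) q) := by
  decide +kernel

theorem fifteen_ok : ∀ a < 1920, (mul a)^[15] 0 = 0 → (mul a)^[3] 0 = 0 ∨ (mul a)^[5] 0 = 0 := by decide +kernel

theorem invs_ok : ∀ a < 1920, mul a a = 0 → a = 0 ∨ a ∈ Data.invs := by decide +kernel

theorem invs_lt : ∀ a ∈ Data.invs, a < 1920 := by decide +kernel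

/-- The images of the five generators. -/
def phiGen (k : ℕ) : ℕ := phi (sg k)

theorem cu_ok : ∀ r < 1920, inCU r = true → ev sg (cuWord r) = r ∧ ev phiGen (cuWord r) = phi r ∧
    (∀ k ∈ cuWord r, k < 5) ∧ inCU (phinv r) = true ∧ phi (phinv r) = r ∧ inCU (phi r) = true := by
  decide +kernel

theorem sg_ok : ∀ k < 5, sg k < 1920 ∧ inCU (sg k) = true ∧ inCU (cj ec (phi (sg k))) = true := by decide +kernel

theorem cuList_ok : ∀ r < 1920, inCU r = true → r ∈ Data.words.map Prod.fst := by decide +kernel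

/-- Prescribed images of the five generators. -/
def im5 (d e : ℕ) : ℕ → ℕ := fun k => [1, 17, tc, d, e].getD k 0

/-- The first relations. -/
def rel4 (d : ℕ) : Bool := Nat.beq (ev (im5 d 0) [0, 1, 2, 3, 3]) (ev (im5 d 0) [3, 2, 3, 2]) &&
  Nat.beq (ev (im5 d 0) [3, 3, 3]) 0

/-- The last relations. -/
def rel5 (d e : ℕ) : Bool := Nat.beq (ev (im5 d e) [4, 4]) (ev (im5 d e) [1]) &&
  Nat.beq (ev (im5 d e) [4, 3, 3, 4]) (ev (im5 d e) [3, 4, 3]) &&
  Nat.beq (ev (im5 d e) [4, 2, 4]) (ev (im5 d e) [2]) &&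
  Nat.beq (ev (im5 d e) [2, 3, 4, 2, 3]) (ev (im5 d e) [3, 4, 3, 2])

/-- The relations hold for the generators. -/
theorem rel_holds : ev sg [0, 1, 2, 3, 3] = ev sg [3, 2, 3, 2] ∧ ev sg [3, 3, 3] = ev sg [] ∧
    ev sg [4, 4] = ev sg [1] ∧ ev sg [4, 3, 3, 4] = ev sg [3, 4, 3] ∧ ev sg [4, 2, 4] = ev sg [2] ∧
    ev sg [2, 3, 4, 2, 3] = ev sg [3, 4, 3, 2] := by decide +kernel

/-- The applications of an automorphism with prescribed images. -/
def applyIm (d e x : ℕ) : ℕ := ev (im5 d e) (cuWord x)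

theorem uniq_ok : ∀ d ∈ Data.words.map Prod.fst, rel4 d = true → ∀ e ∈ Data.words.map Prod.fst, rel5 d e = true →
    (d = phiGen 3 ∧ e = phiGen 4) ∨ ∃ k < 5, inCU (applyIm d e (im5 d e k)) = true ∧
      inCU (im5 d e k) = true ∧ applyIm d e (applyIm d e (im5 d e k)) ≠ sg k := by
  decide +kernel

theorem phiGen_ok : phiGen 0 = 1 ∧ phiGen 1 = 17 ∧ phiGen 2 = tc := by decide +kernel

theorem twist_ok : ∀ r ∈ Data.words.map Prod.fst, (∀ k < 5, cj r (sg k) = cj ec (phi (cj ec (phi (sg k))))) →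
    phi r = cj ec r → r = 32 ∨ r = cc := by decide +kernel

theorem shift_ok : ∃ v ∈ [16, 1, 17], inCU v = true ∧ inCU (mul (cj ec v) v) = true ∧
    mul (mul (cj ec v) (mul 32 (phinv (mul (cj ec v) v)))) v = cc ∧
    (∀ k < 5, cj v (sg k) = sg k ∧ cj v (phiGen k) = phiGen k) ∧ cj v tc = tc ∧ mul v v = 0 ∧
    mul v (mul (phi v) (phi (phi v))) = 0 := by decide +kernel

end Cfsg.Agent.J2Uniq
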