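import Mathlib
import Cfsg.Agent.Lib.J2Uniq.Checks

/-!
Five involutions permuted by `A₅` and anticommuting up to a central involution give a homomorphism
from the group of order 1920.
-/

set_option autoImplicit false
set_option linter.all false
set_option maxRecDepth 100000
set_option maxHeartbeats 1000000

namespace Cfsg.Agent.J2Uniq

universe v

variable {G : Type v} [Group G]

/-- The generators of a group `2^{1+4}.A₅` inside `G`. -/
structure Coord (z : G) (uu : Fin 5 → G) (kk : alternatingGroup (Fin 5) →* G) : Prop where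
  zz : z * z = 1
  z1 : z ≠ 1
  zu : ∀ i, z * uu i = uu i * z
  zk : ∀ π, z * kk π = kk π * z
  sq : ∀ i, uu i * uu i = 1
  anti : ∀ i j : Fin 5, i < j → j ≠ 4 → uu j * uu i = z * (uu i * uu j)
  last : uu 4 = uu 0 * uu 1 * uu 2 * uu 3
  conj : ∀ (π : alternatingGroup (Fin 5)) (i : Fin 5), kk π * uu i * (kk π)⁻¹ = uu ((π : Equiv.Perm (Fin 5)) i)

/-- The permutation of a number. -/
noncomputable def permOf (p : ℕ) : alternatingGroup (Fin 5) :=
  if h : p < 60 then (perm_exists p h).choose else 1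

theorem permOf_apply {p : ℕ} (h : p < 60) (i : Fin 5) : ((permOf p : Equiv.Perm (Fin 5)) i).val = img p i := by
  rw [permOf, dif_pos h]
  exact (perm_exists p h).choose_spec i

theorem permOf_mul {p r : ℕ} (hp : p < 60) (hr : r < 60) : permOf (pmul p r) = permOf p * permOf r := by
  refine Subtype.ext (Equiv.ext fun i => Fin.ext ?_)
  rw [permOf_apply (pmul_ok p hp r hr).1, (pmul_ok p hp r hr).2 i i.2, Subgroup.coe_mul, Equiv.Perm.mul_apply,
    permOf_apply hp, permOf_apply hr]

theorem permOf_zero : permOf 0 = 1 := by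
  refine Subtype.ext (Equiv.ext fun i => Fin.ext ?_)
  rw [permOf_apply (by norm_num), img_zero i i.2]
  rfl

theorem exists_permOf (π : alternatingGroup (Fin 5)) : ∃ p < 60, permOf p = π := by
  obtain ⟨p, hp, h⟩ := perm_surj π
  exact ⟨p, hp, Subtype.ext (Equiv.ext fun i => Fin.ext (by rw [permOf_apply hp, h i]))⟩

theorem pp_lt (a : ℕ) : pp a < 60 := Nat.mod_lt _ (by norm_num)

theorem qp_lt (a : ℕ) : qp a < 32 := Nat.mod_lt _ (by norm_num)

theorem mul_lt (a b : ℕ) : mul a b < 1920 := by
  have h1 := (pmul_ok _ (pp_lt a) _ (pp_lt b)).1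
  have h2 := (qmul_ok _ (qp_lt a) _ (act_ok _ (pp_lt a) _ (qp_lt b)).1).1
  unfold mul
  omega

theorem pp_code {p q : ℕ} (hp : p < 60) (hq : q < 32) : pp (p * 32 + q) = p := by unfold pp; omega

theorem qp_code {p q : ℕ} (hq : q < 32) : qp (p * 32 + q) = q := by unfold qp; omega

theorem pp_mul (a b : ℕ) : pp (mul a b) = pmul (pp a) (pp b) :=
  pp_code (pmul_ok _ (pp_lt a) _ (pp_lt b)).1 (qmul_ok _ (qp_lt a) _ (act_ok _ (pp_lt a) _ (qp_lt b)).1).1

theorem qp_mul (a b : ℕ) : qp (mul a b) = qmul (qp a) (act (pp a) (qp b)) :=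
  qp_code (qmul_ok _ (qp_lt a) _ (act_ok _ (pp_lt a) _ (qp_lt b)).1).1

/-- The letters as elements. -/
def letterVal (z : G) (uu : Fin 5 → G) : ℕ → G
  | 0 => uu 0
  | 1 => uu 1
  | 2 => uu 2
  | 3 => uu 3
  | _ => z

theorem letterVal_eq (z : G) (uu : Fin 5 → G) : ∀ (i : ℕ) (hi : i < 5), i ≠ 4 → letterVal z uu i = uu ⟨i, hi⟩
  | 0, _, _ => rfl
  | 1, _, _ => rfl
  | 2, _, _ => rfl
  | 3, _, _ => rfl
  | 4, _, h => absurd rfl h
  | n + 5, hi, _ => absurd hi (by omega)

/-- The element of the extraspecial group of a number. -/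
def qval (z : G) (uu : Fin 5 → G) (q : ℕ) : G := ((qbits q).map (letterVal z uu)).prod

/-- The element of a code. -/
noncomputable def val (z : G) (uu : Fin 5 → G) (kk : alternatingGroup (Fin 5) →* G) (a : ℕ) : G :=
  qval z uu (qp a) * kk (permOf (pp a))

theorem qbits_lt {q i : ℕ} (h : i ∈ qbits q) : i < 5 := by
  have := (List.mem_filter.1 h).1
  simp at this
  omega

theorem rins_lt : ∀ a < 32, ∀ i < 5, rins a i < 32 := by decide +kernel

theorem foldl_rins_lt : ∀ (L : List ℕ), (∀ i ∈ L, i < 5) → ∀ {a : ℕ}, a < 32 → L.foldl rins a < 32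
  | [], _, _, ha => ha
  | i :: L, hL, _, ha => foldl_rins_lt L (fun j hj => hL j (List.mem_cons_of_mem _ hj))
      (rins_lt _ ha i (hL i List.mem_cons_self))

namespace Coord

variable {z : G} {uu : Fin 5 → G} {kk : alternatingGroup (Fin 5) →* G} (h : Coord z uu kk)

include h

theorem zero_eq : qval z uu 0 = 1 := by simp [qval, qbits, List.filter]

theorem qval_rins : ∀ a < 32, ∀ i < 5, qval z uu a * letterVal z uu i = qval z uu (rins a i) := by
  have s0 := h.sq 0
  have s1 := h.sq 1
  have s2 := h.sq 2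
  have s3 := h.sq 3
  have a01 := h.anti 0 1 (by decide) (by decide)
  have a02 := h.anti 0 2 (by decide) (by decide)
  have a03 := h.anti 0 3 (by decide) (by decide)
  have a12 := h.anti 1 2 (by decide) (by decide)
  have a13 := h.anti 1 3 (by decide) (by decide)
  have a23 := h.anti 2 3 (by decide) (by decide)
  have t0 : ∀ x, uu 0 * (uu 0 * x) = x := fun x => by rw [← mul_assoc, s0, one_mul]
  have t1 : ∀ x, uu 1 * (uu 1 * x) = x := fun x => by rw [← mul_assoc, s1, one_mul]
  have t2 : ∀ x, uu 2 * (uu 2 * x) = x := fun x => by rw [← mul_assoc, s2, one_mul]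
  have t3 : ∀ x, uu 3 * (uu 3 * x) = x := fun x => by rw [← mul_assoc, s3, one_mul]
  have b01 : ∀ x, uu 1 * (uu 0 * x) = z * (uu 0 * (uu 1 * x)) := fun x => by simp [← mul_assoc, a01]
  have b02 : ∀ x, uu 2 * (uu 0 * x) = z * (uu 0 * (uu 2 * x)) := fun x => by simp [← mul_assoc, a02]
  have b03 : ∀ x, uu 3 * (uu 0 * x) = z * (uu 0 * (uu 3 * x)) := fun x => by simp [← mul_assoc, a03]
  have b12 : ∀ x, uu 2 * (uu 1 * x) = z * (uu 1 * (uu 2 * x)) := fun x => by simp [← mul_assoc, a12]
  have b13 : ∀ x, uu 3 * (uu 1 * x) = z * (uu 1 * (uu 3 * x)) := fun x => by simp [← mul_assoc, a13]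
  have b23 : ∀ x, uu 3 * (uu 2 * x) = z * (uu 2 * (uu 3 * x)) := fun x => by simp [← mul_assoc, a23]
  have zu : ∀ i, uu i * z = z * uu i := fun i => (h.zu i).symm
  have zu' : ∀ i x, uu i * (z * x) = z * (uu i * x) := fun i x => by rw [← mul_assoc, zu, mul_assoc]
  have zz' : ∀ x, z * (z * x) = x := fun x => by rw [← mul_assoc, h.zz, one_mul]
  intro a ha i hi
  interval_cases a <;> interval_cases i <;>
    simp [qval, qbits, rins, letterVal, Nat.testBit, List.range, List.range.loop, List.filter, mul_assoc, s0, s1, s2,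
      s3, t0, t1, t2, t3, a01, a02, a03, a12, a13, a23, b01, b02, b03, b12, b13, b23, zu, zu', zz', h.zz]

theorem qval_foldl : ∀ (L : List ℕ), (∀ i ∈ L, i < 5) → ∀ {a : ℕ}, a < 32 →
    qval z uu a * (L.map (letterVal z uu)).prod = qval z uu (L.foldl rins a)
  | [], _, _, _ => by simp
  | i :: L, hL, a, ha => by
    have hi := hL i List.mem_cons_self
    rw [List.map_cons, List.prod_cons, ← mul_assoc, h.qval_rins a ha i hi, List.foldl_cons]
    exact qval_foldl L (fun j hj => hL j (List.mem_cons_of_mem _ hj)) (rins_lt a ha i hi)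

theorem qval_mul {a b : ℕ} (ha : a < 32) (hb : b < 32) : qval z uu a * qval z uu b = qval z uu (qmul a b) := by
  rw [← (qmul_ok a ha b hb).2]
  exact h.qval_foldl _ (fun i hi => qbits_lt hi) ha

theorem qval_uc : ∀ i : Fin 5, qval z uu (uc i) = uu i := by
  intro i
  fin_cases i <;> simp [qval, qbits, letterVal, uc, Nat.testBit, List.filter, h.last, mul_assoc] <;> rfl

theorem qval_z : qval z uu 16 = z := by simp [qval, qbits, letterVal, Nat.testBit, List.filter]

theorem act_eq {p q : ℕ} (hp : p < 60) (hq : q < 32) :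
    kk (permOf p) * qval z uu q * (kk (permOf p))⁻¹ = qval z uu (act p q) := by
  rw [← (act_ok p hp q hq).2]
  have key : ∀ L : List ℕ, (∀ i ∈ L, i < 5) → ∀ a < 32,
      qval z uu a * (kk (permOf p) * (L.map (letterVal z uu)).prod * (kk (permOf p))⁻¹) =
        qval z uu ((L.map (imgLetter p)).foldl qmul a) := by
    intro L
    induction L with
    | nil => intro _ a _; simp
    | cons i L ih =>
      intro hL a ha
      have hi := hL i List.mem_cons_self
      have hl : kk (permOf p) * letterVal z uu i * (kk (permOf p))⁻¹ = qval z uu (imgLetter p i) ∧ imgLetter p i < 32 := by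
        by_cases h4 : i = 4
        · subst h4
          exact ⟨by rw [show letterVal z uu 4 = z from rfl, ← h.zk, mul_inv_cancel_right, imgLetter, if_pos rfl, h.qval_z],
            by rw [imgLetter, if_pos rfl]; norm_num⟩
        · have him := img_ok p hp i hi
          refine ⟨?_, ?_⟩
          · rw [letterVal_eq z uu i hi h4, h.conj, imgLetter, if_neg h4, ← h.qval_uc]
            congr 2
            rw [permOf_apply hp]
          · rw [imgLetter, if_neg h4]
            interval_cases (img p i) <;> simp [uc]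
      rw [List.map_cons, List.prod_cons, List.map_cons, List.foldl_cons,
        ← ih (fun j hj => hL j (List.mem_cons_of_mem _ hj)) _ (qmul_ok a ha _ hl.2).1, ← h.qval_mul ha hl.2, ← hl.1]
      group
  have := key (qbits q) (fun i hi => qbits_lt hi) 0 (by norm_num)
  rwa [h.zero_eq, one_mul] at this

theorem val_mul (a b : ℕ) : val z uu kk (mul a b) = val z uu kk a * val z uu kk b := by
  unfold val
  rw [pp_mul, qp_mul, permOf_mul (pp_lt a) (pp_lt b), map_mul, ← h.qval_mul (qp_lt a) (act_ok _ (pp_lt a) _ (qp_lt b)).1,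
    ← h.act_eq (pp_lt a) (qp_lt b)]
  group

theorem val_zero : val z uu kk 0 = 1 := by
  rw [val, show qp 0 = 0 from rfl, show pp 0 = 0 from rfl, h.zero_eq, permOf_zero, map_one, one_mul]

theorem val_zc : val z uu kk zc = z := by
  rw [val, show qp zc = 16 from rfl, show pp zc = 0 from rfl, h.qval_z, permOf_zero, map_one, mul_one]

theorem val_uc (i : Fin 5) : val z uu kk (uc i) = uu i := by
  have : uc i < 32 := by fin_cases i <;> simp [uc]
  rw [val, show qp (uc i) = uc i from Nat.mod_eq_of_lt this, show pp (uc i) = 0 by unfold pp; omega, h.qval_uc,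
    permOf_zero, map_one, mul_one]

theorem ne_mul : ∀ i j : Fin 5, i ≠ j → uu i ≠ uu j ∧ uu i ≠ z * uu j := by
  intro i j hij
  have hb : ∀ k : Fin 5, uc k < 32 := fun k => by fin_cases k <;> simp [uc]
  have hf : ∀ i j : Fin 5, i ≠ j → qmul (uc i) (uc j) = qmul 16 (qmul (uc j) (uc i)) := by decide +kernel
  have e : uu i * uu j = z * (uu j * uu i) := by
    rw [← h.qval_uc i, ← h.qval_uc j, h.qval_mul (hb i) (hb j), hf i j hij, h.qval_mul (hb j) (hb i),
      ← h.qval_mul (by norm_num) (qmul_ok _ (hb j) _ (hb i)).1, h.qval_z]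
  refine ⟨fun h1 => h.z1 ?_, fun h1 => h.z1 ?_⟩
  · rw [h1] at e
    exact mul_eq_right.1 e.symm
  · rw [h1, mul_assoc, ← mul_assoc (uu j) z, ← h.zu, mul_assoc z (uu j)] at e
    exact mul_eq_right.1 e.symm

theorem ker {a : ℕ} (ha : a < 1920) (e : val z uu kk a = 1) : a = 0 := by
  have hperm : permOf (pp a) = 1 := by
    refine Subtype.ext (Equiv.ext fun i => ?_)
    by_contra hne
    have hk : kk (permOf (pp a)) = (qval z uu (qp a))⁻¹ := (inv_eq_of_mul_eq_one_right e).symm
    have hc := h.conj (permOf (pp a)) i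
    rw [hk, inv_inv] at hc
    rw [Subgroup.coe_one, Equiv.Perm.one_apply] at hne
    have hb : uc i < 32 := by fin_cases i <;> simp [uc]
    have hc' : qval z uu (uc i) * qval z uu (qp a) =
        qval z uu (qp a) * uu ((permOf (pp a) : Equiv.Perm (Fin 5)) i) := by
      rw [← hc, h.qval_uc]; group
    rw [h.qval_mul hb (qp_lt a)] at hc'
    rcases (show qmul (uc i) (qp a) = qmul (qp a) (uc i) ∨ qmul (uc i) (qp a) = qmul (qp a) (qmul 16 (uc i)) from
      (by decide +kernel : ∀ q < 32, ∀ i : Fin 5, qmul (uc i) q = qmul q (uc i) ∨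
        qmul (uc i) q = qmul q (qmul 16 (uc i))) _ (qp_lt a) i) with e1 | e1
    · refine (h.ne_mul _ _ hne).1 ?_
      rw [e1, ← h.qval_mul (qp_lt a) hb, h.qval_uc] at hc'
      exact (mul_left_cancel hc').symm
    · refine (h.ne_mul _ _ hne).2 ?_
      rw [e1, ← h.qval_mul (qp_lt a) (qmul_ok _ (by norm_num) _ hb).1, ← h.qval_mul (by norm_num) hb, h.qval_z,
        h.qval_uc] at hc'
      exact (mul_left_cancel hc').symm
  have hp : pp a = 0 := by
    by_contra hne
    exact (by decide +kernel : ∀ p < 60, p ≠ 0 → ∃ i < 5, img p i ≠ i) (pp a) (pp_lt a) hne |>.elim fun i hi =>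
      hi.2 (by rw [← permOf_apply (pp_lt a) ⟨i, hi.1⟩, hperm]; rfl)
  have hq : qval z uu (qp a) = 1 := by rw [val, hperm, map_one, mul_one] at e; exact e
  have hcomm : ∀ j < 4, qmul (qp a) (uc j) = qmul (uc j) (qp a) := by
    intro j hj
    rcases commutator_ok _ (qp_lt a) j hj with e1 | e1
    · exact e1
    · exfalso
      have hb : uc j < 32 := by interval_cases j <;> simp [uc]
      have e2 : qval z uu (qp a) * qval z uu (uc j) = z * (qval z uu (uc j) * qval z uu (qp a)) := by
        rw [h.qval_mul (qp_lt a) hb, e1, ← h.qval_mul (by norm_num) (qmul_ok _ hb _ (qp_lt a)).1, h.qval_z,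
          h.qval_mul hb (qp_lt a)]
      rw [hq, one_mul, mul_one] at e2
      exact h.z1 (mul_eq_right.1 e2.symm)
  rcases center_ok _ (qp_lt a) hcomm with e1 | e1
  · unfold qp at e1
    unfold pp at hp
    omega
  · rw [e1, h.qval_z] at hq
    exact absurd hq h.z1

end Coord

end Cfsg.Agent.J2Uniq
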