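import Mathlib
import Cfsg.Agent.Lib.J2Uniq.Coord
import Cfsg.Agent.InvChar.JankoTwoCount

/-!
The complement `A₅` permutes five chosen involutions of the extraspecial group.
-/

set_option autoImplicit false
set_option linter.all false
set_option maxRecDepth 100000

namespace Cfsg.Agent.J2Uniq

open Subgroup InvChar.JankoTwoCount

theorem alt_squares : ∀ π : alternatingGroup (Fin 5), (π : Equiv.Perm (Fin 5)) 0 = 0 →
    ∃ a b : alternatingGroup (Fin 5), (a : Equiv.Perm (Fin 5)) 0 = 0 ∧ (b : Equiv.Perm (Fin 5)) 0 = 0 ∧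
      π = a * a * (b * b) := by decide +kernel

theorem alt_move : ∀ i j l : Fin 5, i ≠ j → l ≠ i → l ≠ j → ∃ π : alternatingGroup (Fin 5),
    (π : Equiv.Perm (Fin 5)) i = i ∧ (π : Equiv.Perm (Fin 5)) j = j ∧ (π : Equiv.Perm (Fin 5)) l ≠ l := by
  decide +kernel

/-- The involution `(1 2)(3 4)`. -/
def invT : alternatingGroup (Fin 5) :=
  ⟨Equiv.swap 1 2 * Equiv.swap 3 4, by rw [Equiv.Perm.mem_alternatingGroup]; decide +kernel⟩

theorem alt_relabel : ∀ a : alternatingGroup (Fin 5), a * a = 1 → a ≠ 1 → (a : Equiv.Perm (Fin 5)) 0 = 0 →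
    ∃ c : alternatingGroup (Fin 5), (c : Equiv.Perm (Fin 5)) 0 = 0 ∧ c⁻¹ * invT * c = a := by decide +kernel

theorem sign_simp {H : Type*} [Group H] (h : Nonempty (H ≃* alternatingGroup (Fin 5))) :
    IsSimpleGroup H ∧ Nat.card H = 60 := by
  obtain ⟨e⟩ := h
  haveI := alternatingGroup.isSimpleGroup_five
  haveI : Nontrivial H := e.toEquiv.nontrivial
  exact ⟨IsSimpleGroup.isSimpleGroup_of_surjective e.symm.toMonoidHom e.symm.surjective, by
    rw [Nat.card_congr e.toEquiv, Nat.card_eq_fintype_card]; decide +kernel⟩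

variable {C : Type*} [Group C] [Finite C] {Q K : Subgroup C} {z : C}

/-- Five involutions with an action of `A₅`. -/
theorem exists_coord (h : Setting Q K z) {u : C} (hu : Inv10 Q z u) {k0 : C} (hk0 : k0 ∈ K) (hk02 : k0 * k0 = 1)
    (hk01 : k0 ≠ 1) (hk0u : k0 * u = u * k0) :
    ∃ (uu : Fin 5 → C) (kk : alternatingGroup (Fin 5) →* C),
      Coord z uu kk ∧ (uu 0 = u ∨ uu 0 = u * z) ∧ kk invT = k0 := by
  classical
  obtain ⟨hKs, hK60⟩ := sign_simp h.iso
  obtain ⟨eK⟩ := h.iso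
  obtain ⟨f, hf5, hf1⟩ : ∃ f : alternatingGroup (Fin 5), f ^ 5 = 1 ∧ f ≠ 1 := by decide +kernel
  obtain ⟨g, hgK, hg5, hg1⟩ : ∃ g ∈ K, g ^ 5 = 1 ∧ g ≠ 1 := ⟨eK.symm f, (eK.symm f).2, by
    rw [← SubmonoidClass.coe_pow, ← map_pow, hf5, map_one]; rfl,
    fun e0 => hf1 (eK.symm.injective ((Subtype.ext e0 : eK.symm f = 1).trans (map_one _).symm))⟩
  have hzC : (⟨z, h.zQ⟩ : Q) ∈ Subgroup.center Q := mem_center_iff.2 fun q => Subtype.ext (h.zc q).symm
  have hfacts : ∀ p ∈ Q, ∀ q ∈ Q, p * q = q * p ∨ p * q = z * (q * p) := by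
    intro p hp q hq
    rcases (InvChar.Extraspecial.facts h.ext hzC fun e0 => h.z1 (congrArg Subtype.val e0)).2.2.1 ⟨p, hp⟩ ⟨q, hq⟩
      with e0 | e0
    · exact Or.inl (congrArg Subtype.val e0)
    · exact Or.inr (congrArg Subtype.val e0)
  have hzz' : ∀ x : C, x * z * z = x := fun x => by rw [mul_assoc, h.zz, mul_one]
  have hInv : ∀ v, Inv10 Q z v → ∀ k : C, Inv10 Q z (k * v * k⁻¹) := fun v hv k => by
    haveI := h.normal
    refine ⟨h.normal.conj_mem v hv.1 k, ?_, fun e0 => hv.2.2.1 (conj_eq_one_iff.1 e0), fun e0 => hv.2.2.2 ?_⟩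
    · rw [show k * v * k⁻¹ * (k * v * k⁻¹) = k * (v * v) * k⁻¹ by group, hv.2.1, mul_one, mul_inv_cancel]
    · rw [show v = k⁻¹ * (k * v * k⁻¹) * k by group, e0, mul_assoc, h.zc, inv_mul_cancel_left]
  -- the five involutions
  obtain ⟨uo, huo_def⟩ : ∃ uo : Fin 5 → C, ∀ i, uo i = g ^ (i : ℕ) * u * (g ^ (i : ℕ))⁻¹ := ⟨_, fun _ => rfl⟩
  have hzconj : ∀ k v : C, k * (v * z) * k⁻¹ = k * v * k⁻¹ * z := fun k v => by
    rw [show k * (v * z) * k⁻¹ = k * v * (z * k⁻¹) by group, h.zc]; group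
  have hne : ∀ i j : Fin 5, uo i = uo j ∨ uo i = uo j * z → i = j := by
    intro i j hij
    by_contra hne
    set e0 := (g ^ (i : ℕ))⁻¹ * g ^ (j : ℕ) with he0
    have he1 : e0 ≠ 1 := by
      intro e1
      rw [he0, inv_mul_eq_one] at e1
      have ho : orderOf g = 5 := orderOf_eq_prime (hp := ⟨by norm_num⟩) hg5 hg1
      refine hne (Fin.ext ?_)
      exact pow_injOn_Iio_orderOf (by rw [Set.mem_Iio, ho]; exact i.2) (by rw [Set.mem_Iio, ho]; exact j.2) e1
    have he5 : e0 ^ 5 = 1 := by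
      rw [he0, ((Commute.refl g).pow_pow _ _).inv_left.mul_pow, inv_pow, ← pow_mul, ← pow_mul, mul_comm, pow_mul, hg5,
        mul_comm, pow_mul, hg5, one_pow, one_pow, inv_one, one_mul]
    have hcase : e0 * u * e0⁻¹ = u ∨ e0 * u * e0⁻¹ = z * u := by
      rcases hij with e1 | e1
      · refine Or.inl ?_
        calc e0 * u * e0⁻¹ = (g ^ (i : ℕ))⁻¹ * uo j * g ^ (i : ℕ) := by simp only [huo_def, he0]; group
          _ = u := by rw [← e1]; simp only [huo_def]; group
      · refine Or.inr ?_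
        calc e0 * u * e0⁻¹ = (g ^ (i : ℕ))⁻¹ * uo j * g ^ (i : ℕ) := by simp only [huo_def, he0]; group
          _ = (g ^ (i : ℕ))⁻¹ * (uo i * z) * g ^ (i : ℕ) := by rw [e1, hzz']
          _ = (g ^ (i : ℕ))⁻¹ * uo i * g ^ (i : ℕ) * z := by rw [mul_assoc _ (uo i * z), mul_assoc (uo i), h.zc]; group
          _ = z * u := by rw [h.zc u]; simp only [huo_def]; group
    rcases h.fix_coset (g := e0) (K.mul_mem (K.inv_mem (K.pow_mem hgK _)) (K.pow_mem hgK _)) he5 he1 hu.1 hcase with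
      e1 | e1
    · exact hu.2.2.1 e1
    · exact hu.2.2.2 e1
  have huo : ∀ i, Inv10 Q z (uo i) := fun i => huo_def i ▸ hInv u hu _
  have huz : ∀ i, Inv10 Q z (uo i * z) := fun i => by
    obtain ⟨hQ', h2, h1, hz'⟩ := huo i
    refine ⟨Q.mul_mem hQ' h.zQ, ?_, fun e0 => hz' ?_, fun e0 => h1 ?_⟩
    · calc uo i * z * (uo i * z) = uo i * (z * uo i) * z := by group
        _ = uo i * uo i * z * z := by rw [h.zc]; group
        _ = 1 := by rw [hzz', h2]
    · rw [← hzz' (uo i), e0, one_mul]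
    · rw [← hzz' (uo i), e0, h.zz]
  let F : Fin 5 × Bool → {v : C // Inv10 Q z v} := fun p =>
    if p.2 then ⟨uo p.1 * z, huz p.1⟩ else ⟨uo p.1, huo p.1⟩
  have hFinj : Function.Injective F := by
    rintro ⟨i, a⟩ ⟨j, b⟩ e0
    have e1 := congrArg Subtype.val e0
    cases a <;> cases b <;> simp only [F, if_true, if_false, Bool.false_eq_true] at e1
    · exact Prod.ext (hne i j (Or.inl e1)) rfl
    · have := hne i j (Or.inr e1); subst this
      exact absurd (mul_eq_left.1 e1.symm) h.z1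
    · have := hne j i (Or.inr e1.symm); subst this
      exact absurd (mul_eq_left.1 e1) h.z1
    · exact Prod.ext (hne i j (Or.inl (mul_right_cancel e1))) rfl
  have hFb := (Nat.bijective_iff_injective_and_card F).2 ⟨hFinj, by
    rw [h.card_inv10, Nat.card_prod, Nat.card_fin, Nat.card_eq_fintype_card, Fintype.card_bool]⟩
  have hhit : ∀ v, Inv10 Q z v → ∃ i, v = uo i ∨ v = uo i * z := by
    intro v hv
    obtain ⟨⟨i, b⟩, hb⟩ := hFb.2 ⟨v, hv⟩
    have e1 := congrArg Subtype.val hb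
    cases b <;> simp only [F, if_true, if_false, Bool.false_eq_true] at e1
    exacts [⟨i, Or.inl e1.symm⟩, ⟨i, Or.inr e1.symm⟩]
  have huniq : ∀ {v : C} {i j : Fin 5}, (v = uo i ∨ v = uo i * z) → (v = uo j ∨ v = uo j * z) → i = j := by
    intro v i j hi hj
    rcases hi with e1 | e1 <;> rcases hj with e2 | e2 <;> rw [e1] at e2
    · exact hne i j (Or.inl e2)
    · exact hne i j (Or.inr e2)
    · exact (hne j i (Or.inr e2.symm)).symm
    · exact hne i j (Or.inl (mul_right_cancel e2))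
  -- the action
  choose idx hidx using fun (k : K) (i : Fin 5) => hhit _ (hInv _ (huo i) (k : C))
  have hidx_mul : ∀ (k l : K) (i : Fin 5), idx (k * l) i = idx k (idx l i) := by
    intro k l i
    refine huniq (hidx (k * l) i) ?_
    have e1 : ((k * l : K) : C) * uo i * ((k * l : K) : C)⁻¹ = (k : C) * ((l : C) * uo i * (l : C)⁻¹) * (k : C)⁻¹ := by
      rw [Subgroup.coe_mul]; group
    rw [e1]
    rcases hidx l i with e2 | e2 <;> rcases hidx k (idx l i) with e3 | e3 <;> rw [e2]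
    · exact Or.inl e3
    · exact Or.inr e3
    · exact Or.inr (by rw [hzconj, e3])
    · exact Or.inl (by rw [hzconj, e3, hzz'])
  have hidx_one : ∀ i, idx 1 i = i := fun i => huniq (hidx 1 i) (Or.inl (by simp))
  let σ : K →* Equiv.Perm (Fin 5) := MonoidHom.mk'
    (fun k => ⟨idx k, idx k⁻¹, fun i => by rw [← hidx_mul, inv_mul_cancel, hidx_one],
      fun i => by rw [← hidx_mul, mul_inv_cancel, hidx_one]⟩)
    fun k l => Equiv.ext fun i => hidx_mul k l i
  have hσ : ∀ k i, σ k i = idx k i := fun k i => rfl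
  have huo0 : uo 0 = u := by simp [huo_def]
  have hgi : ∀ i : Fin 5, σ (⟨g, hgK⟩ ^ (i : ℕ)) 0 = i := fun i => by
    rw [hσ]
    exact huniq (hidx _ 0) (Or.inl (by rw [huo0, SubmonoidClass.coe_pow, huo_def]))
  have hσinj : Function.Injective σ := by
    rw [← MonoidHom.ker_eq_bot_iff]
    refine (IsSimpleGroup.eq_bot_or_eq_top_of_normal σ.ker inferInstance).resolve_right fun e0 => ?_
    have := hgi 1
    rw [show σ (⟨g, hgK⟩ ^ ((1 : Fin 5) : ℕ)) = 1 from (MonoidHom.mem_ker).1 (e0 ▸ mem_top _)] at this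
    exact absurd this (by decide)
  have hσeven : ∀ k, σ k ∈ alternatingGroup (Fin 5) := by
    intro k
    rw [Equiv.Perm.mem_alternatingGroup]
    rcases IsSimpleGroup.eq_bot_or_eq_top_of_normal (Equiv.Perm.sign.comp σ).ker inferInstance with e0 | e0
    · exfalso
      have := Nat.card_le_card_of_injective _ ((MonoidHom.ker_eq_bot_iff _).1 e0)
      rw [hK60, Nat.card_eq_fintype_card, Fintype.card_units_int] at this
      omega
    · exact (MonoidHom.mem_ker).1 (e0 ▸ mem_top k : k ∈ (Equiv.Perm.sign.comp σ).ker)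
  have hA60 : Nat.card (alternatingGroup (Fin 5)) = 60 := by rw [Nat.card_eq_fintype_card]; decide +kernel
  let η : K ≃* alternatingGroup (Fin 5) := MulEquiv.ofBijective (σ.codRestrict _ hσeven)
    ((Nat.bijective_iff_injective_and_card _).2 ⟨fun a b e0 => hσinj (congrArg Subtype.val e0), by rw [hK60, hA60]⟩)
  have hη : ∀ k, ((η k : alternatingGroup (Fin 5)) : Equiv.Perm (Fin 5)) = σ k := fun k => rfl
  have hstab : ∀ k : K, σ k 0 = 0 → (k : C) * u * (k : C)⁻¹ = u := by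
    intro k hk
    obtain ⟨a, b, ha, hb, hab⟩ := alt_squares (η k) (by rw [hη]; exact hk)
    have hsq : ∀ c : alternatingGroup (Fin 5), (c : Equiv.Perm (Fin 5)) 0 = 0 →
        ((η.symm (c * c) : K) : C) * u * ((η.symm (c * c) : K) : C)⁻¹ = u := by
      intro c hc
      have h0 : σ (η.symm c) 0 = 0 := by rw [← hη, MulEquiv.apply_symm_apply]; exact hc
      have hp : ((η.symm c : K) : C) * u * ((η.symm c : K) : C)⁻¹ = u ∨
          ((η.symm c : K) : C) * u * ((η.symm c : K) : C)⁻¹ = u * z := by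
        have := hidx (η.symm c) 0
        rw [← hσ, h0, huo0] at this
        exact this
      rw [map_mul, Subgroup.coe_mul]
      set d := ((η.symm c : K) : C)
      rw [show d * d * u * (d * d)⁻¹ = d * (d * u * d⁻¹) * d⁻¹ by group]
      rcases hp with e1 | e1 <;> rw [e1]
      · exact e1
      · rw [hzconj, e1, hzz']
    rw [show k = η.symm (a * a) * η.symm (b * b) by rw [← map_mul, ← hab, MulEquiv.symm_apply_apply], Subgroup.coe_mul]
    set x := ((η.symm (a * a) : K) : C) with hx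
    set y := ((η.symm (b * b) : K) : C) with hy
    rw [show x * y * u * (x * y)⁻¹ = x * (y * u * y⁻¹) * x⁻¹ by group, hy, hsq b hb, hx, hsq a ha]
  have hexact : ∀ (k : K) (i : Fin 5), (k : C) * uo i * (k : C)⁻¹ = uo (σ k i) := by
    intro k i
    let gK : K := ⟨g, hgK⟩
    have h0 : σ ((gK ^ ((σ k i : Fin 5) : ℕ))⁻¹ * k * gK ^ (i : ℕ)) 0 = 0 := by
      simp only [map_mul, map_inv, Equiv.Perm.mul_apply, gK, hgi i]
      rw [Equiv.Perm.inv_def, Equiv.symm_apply_eq, hgi]
    have e1 := hstab _ h0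
    simp only [Subgroup.coe_mul, Subgroup.coe_inv, SubmonoidClass.coe_pow, gK] at e1
    simp only [huo_def]
    conv_rhs => rw [← e1]
    group
  -- anticommutation
  have hanti : ∀ i j : Fin 5, i ≠ j → uo j * uo i = z * (uo i * uo j) := by
    intro i j hij
    refine (hfacts _ (huo j).1 _ (huo i).1).resolve_left fun hc => ?_
    have hw2 : uo i * uo j * (uo i * uo j) = 1 := by
      rw [show uo i * uo j * (uo i * uo j) = uo i * (uo j * uo i) * uo j by group, hc, ← mul_assoc, (huo i).2.1, one_mul,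
        (huo j).2.1]
    have hw1 : uo i * uo j ≠ 1 := fun e0 => hij (hne i j (Or.inl (by
      rw [← mul_one (uo i), ← (huo j).2.1, ← mul_assoc, e0, one_mul])))
    have hwz : uo i * uo j ≠ z := fun e0 => hij (hne i j (Or.inr (by
      rw [← h.zc, ← e0, mul_assoc, (huo j).2.1, mul_one])))
    obtain ⟨l, hl⟩ := hhit _ (⟨Q.mul_mem (huo i).1 (huo j).1, hw2, hw1, hwz⟩ : Inv10 Q z (uo i * uo j))
    by_cases hli : l = i
    · subst hli
      rcases hl with e1 | e1
      · exact (huo j).2.2.1 (mul_eq_left.1 e1)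
      · exact (huo j).2.2.2 (mul_left_cancel e1)
    by_cases hlj : l = j
    · subst hlj
      rw [← hc] at hl
      rcases hl with e1 | e1
      · exact (huo i).2.2.1 (mul_eq_left.1 e1)
      · exact (huo i).2.2.2 (mul_left_cancel e1)
    obtain ⟨π, hπi, hπj, hπl⟩ := alt_move i j l hij hli hlj
    have hk : σ (η.symm π) = π := by rw [← hη, MulEquiv.apply_symm_apply]
    set k := ((η.symm π : K) : C) with hk'
    have e2 : k * (uo i * uo j) * k⁻¹ = uo i * uo j := by
      rw [show k * (uo i * uo j) * k⁻¹ = k * uo i * k⁻¹ * (k * uo j * k⁻¹) by group, hk', hexact, hexact, hk, hπi, hπj]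
    refine hπl (huniq (v := uo i * uo j) ?_ hl)
    rcases hl with e1 | e1
    · exact Or.inl (by rw [← e2, e1, hk', hexact, hk])
    · exact Or.inr (by rw [← e2, e1, hzconj, hk', hexact, hk])
  -- the product of four of them
  set p := uo 0 * uo 1 * uo 2 * uo 3 with hp
  have hzu : ∀ i x, uo i * (z * x) = z * (uo i * x) := fun i x => by rw [← mul_assoc, ← h.zc, mul_assoc]
  have hzu' : ∀ i, uo i * z = z * uo i := fun i => (h.zc _).symm
  have hz2 : ∀ x : C, z * (z * x) = x := fun x => by rw [← mul_assoc, h.zz, one_mul]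
  have ht : ∀ i x, uo i * (uo i * x) = x := fun i x => by rw [← mul_assoc, (huo i).2.1, one_mul]
  have hs : ∀ i, uo i * uo i = 1 := fun i => (huo i).2.1
  have hb : ∀ i j : Fin 5, i < j → ∀ x, uo j * (uo i * x) = z * (uo i * (uo j * x)) := fun i j hij x => by
    rw [← mul_assoc, hanti i j hij.ne, mul_assoc, mul_assoc]
  have b01 := hb 0 1 (by decide)
  have b02 := hb 0 2 (by decide)
  have b03 := hb 0 3 (by decide)
  have b12 := hb 1 2 (by decide)
  have b13 := hb 1 3 (by decide)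
  have b23 := hb 2 3 (by decide)
  have a01 := hanti 0 1 (by decide)
  have a02 := hanti 0 2 (by decide)
  have a03 := hanti 0 3 (by decide)
  have a12 := hanti 1 2 (by decide)
  have a13 := hanti 1 3 (by decide)
  have a23 := hanti 2 3 (by decide)
  have hpp : p * p = 1 := by
    simp [hp, mul_assoc, hs, ht, hzu, hzu', hz2, h.zz, b01, b02, b03, b12, b13, b23, a01, a02, a03, a12, a13, a23]
  have hpu : ∀ i : Fin 5, i ≠ 4 → p * uo i = z * (uo i * p) := by
    intro i hi
    fin_cases i <;> first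
      | exact absurd rfl hi
      | simp [hp, mul_assoc, hs, ht, hzu, hzu', hz2, h.zz, b01, b02, b03, b12, b13, b23, a01, a02, a03, a12, a13, a23]
  have hp1 : p ≠ 1 := fun e0 => h.z1 (by
    have := hpu 0 (by decide)
    rw [e0, one_mul, mul_one] at this
    exact mul_eq_right.1 this.symm)
  have hpz : p ≠ z := fun e0 => h.z1 (by
    have := hpu 0 (by decide)
    rw [e0, hzu', hz2] at this
    exact mul_eq_right.1 this)
  obtain ⟨l, hl⟩ := hhit p ⟨Q.mul_mem (Q.mul_mem (Q.mul_mem (huo 0).1 (huo 1).1) (huo 2).1) (huo 3).1, hpp, hp1, hpz⟩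
  have hl4 : l = 4 := by
    by_contra hl4
    have e0 := hpu l hl4
    rcases hl with e1 | e1 <;> rw [e1] at e0
    · rw [hs] at e0
      exact h.z1 (by rw [mul_one] at e0; exact e0.symm)
    · rw [hzu', mul_assoc, hs, mul_one, hzu, hs, mul_one, h.zz] at e0
      exact h.z1 e0
  subst hl4
  -- the signs
  obtain ⟨w, hw1, hw⟩ : ∃ w : C, (w = 1 ∨ w = z) ∧ uo 4 * w = p := by
    rcases hl with e1 | e1
    · exact ⟨1, Or.inl rfl, by rw [mul_one, e1]⟩
    · exact ⟨z, Or.inr rfl, e1.symm⟩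
  have hwc : ∀ x : C, w * x = x * w := fun x => by
    rcases hw1 with rfl | rfl
    · rw [one_mul, mul_one]
    · exact h.zc x
  have hww : w * w = 1 := by rcases hw1 with rfl | rfl; exacts [one_mul _, h.zz]
  have hw' : ∀ x : C, w * (w * x) = x := fun x => by rw [← mul_assoc, hww, one_mul]
  have hwu : ∀ i x, uo i * (w * x) = w * (uo i * x) := fun i x => by rw [← mul_assoc, ← hwc, mul_assoc]
  let kk0 : alternatingGroup (Fin 5) →* C := K.subtype.comp η.symm.toMonoidHom
  have hkk0 : ∀ π i, kk0 π * (uo i * w) * (kk0 π)⁻¹ = uo ((π : Equiv.Perm (Fin 5)) i) * w := by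
    intro π i
    show ((η.symm π : K) : C) * (uo i * w) * ((η.symm π : K) : C)⁻¹ = _
    rw [show ((η.symm π : K) : C) * (uo i * w) * ((η.symm π : K) : C)⁻¹ =
      ((η.symm π : K) : C) * uo i * (w * ((η.symm π : K) : C)⁻¹) by group, hwc, ← mul_assoc, hexact, ← hη,
      MulEquiv.apply_symm_apply]
  have hk00 : σ ⟨k0, hk0⟩ 0 = 0 := by
    rw [hσ]
    exact huniq (hidx _ 0) (Or.inl (by show k0 * uo 0 * k0⁻¹ = uo 0; rw [huo0, hk0u, mul_inv_cancel_right]))
  obtain ⟨c, hc0, hc⟩ := alt_relabel (η ⟨k0, hk0⟩)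
    (by rw [← map_mul, show (⟨k0, hk0⟩ : K) * ⟨k0, hk0⟩ = 1 from Subtype.ext hk02, map_one])
    (fun e0 => hk01 (congrArg Subtype.val (η.injective (e0.trans η.map_one.symm))))
    (by rw [hη]; exact hk00)
  refine ⟨fun i => uo ((c⁻¹ : alternatingGroup (Fin 5)).1 i) * w, kk0.comp (MulAut.conj c⁻¹).toMonoidHom,
    ⟨h.zz, h.z1, fun i => h.zc _, fun π => h.zc _, ?_, ?_, ?_, ?_⟩, ?_, ?_⟩
  · intro i
    rw [mul_assoc, ← mul_assoc w, hwc, mul_assoc, hww, mul_one, hs]
  · intro i j hij _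
    have hne' : (c⁻¹ : alternatingGroup (Fin 5)).1 i ≠ (c⁻¹ : alternatingGroup (Fin 5)).1 j :=
      fun e0 => hij.ne ((c⁻¹ : alternatingGroup (Fin 5)).1.injective e0)
    have hcancel : ∀ X Y : C, X * w * (Y * w) = X * Y := fun X Y => by
      rw [mul_assoc, ← mul_assoc w, hwc Y, mul_assoc Y, hww, mul_one]
    show uo _ * w * (uo _ * w) = z * (uo _ * w * (uo _ * w))
    rw [hcancel, hcancel]
    exact hanti _ _ hne'
  · have e1 : uo 4 * w = uo 0 * w * (uo 1 * w) * (uo 2 * w) * (uo 3 * w) := by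
      rw [hw, hp]
      simp only [mul_assoc, hwu, fun i => (hwc (uo i)).symm, hw', hww, mul_one]
    show uo ((c⁻¹ : alternatingGroup (Fin 5)).1 4) * w = _
    rw [← hkk0 c⁻¹ 4, e1]
    simp only [← hkk0 c⁻¹]
    group
  · intro π i
    show kk0 (c⁻¹ * π * c⁻¹⁻¹) * _ * (kk0 (c⁻¹ * π * c⁻¹⁻¹))⁻¹ = _
    rw [hkk0, inv_inv]
    simp [Equiv.Perm.mul_apply]
  · show uo ((c⁻¹ : alternatingGroup (Fin 5)).1 0) * w = u ∨ uo ((c⁻¹ : alternatingGroup (Fin 5)).1 0) * w = u * z
    rw [show (c⁻¹ : alternatingGroup (Fin 5)).1 0 = 0 by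
      rw [Subgroup.coe_inv, Equiv.Perm.inv_def, Equiv.symm_apply_eq, hc0], huo0]
    rcases hw1 with rfl | rfl
    · exact Or.inl (mul_one u)
    · exact Or.inr rfl
  · show kk0 (c⁻¹ * invT * c⁻¹⁻¹) = k0
    rw [inv_inv, hc]
    show ((η.symm (η ⟨k0, hk0⟩) : K) : C) = k0
    rw [MulEquiv.symm_apply_apply]

end Cfsg.Agent.J2Uniq
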