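import Mathlib
import Cfsg.Agent.Lib.J2Uniq.Labels
import Cfsg.Agent.Lib.JankoTwo.Order

/-!
Generators of a group of Hall–Janko type: the centralizer of `z` and an element of order three.
-/

set_option autoImplicit false
set_option linter.all false
set_option maxRecDepth 100000

namespace Cfsg.Agent.J2Uniq

open Subgroup InvChar.JankoTwoCount

universe v

variable {G : Type v} [Group G] [Finite G] {z : G} {Q K : Subgroup (Subgroup.centralizer ({z} : Set G))}

theorem alt_three_mover : ∀ a : alternatingGroup (Fin 5), a * a = 1 → a ≠ 1 → ∃ x b : alternatingGroup (Fin 5),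
    x * x * x = 1 ∧ b * b = 1 ∧ b ≠ 1 ∧ b ≠ a ∧ a * b = b * a ∧ x * a * x⁻¹ = b ∧ x * b * x⁻¹ = a * b := by
  decide +kernel

/-- An element of order three moving `z` inside the extraspecial group, centralizing an involution of the complement. -/
theorem exists_seed (H : JankoTwo.Hyp z Q K) : ∃ (x : G) (u k0 : Subgroup.centralizer ({z} : Set G)),
    x * x * x = 1 ∧ k0 ∈ K ∧ k0 * k0 = 1 ∧ k0 ≠ 1 ∧ k0 * u = u * k0 ∧ Inv10 Q (JankoTwo.zed z) u ∧
      x * z * x⁻¹ = (u : G) ∧ x * (u : G) * x⁻¹ = z * (u : G) ∧ x * (k0 : G) = (k0 : G) * x := by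
  obtain ⟨t, V, B, U, S, htz⟩ := JankoTwo.exists_second H
  obtain ⟨-, ⟨eB⟩⟩ := H.order S
  have hzt : z ∈ Subgroup.centralizer ({t} : Set G) := mem_centralizer_singleton_iff.2 htz.symm
  have hzB : z ∈ B := by
    by_contra hzB
    exact S.out z hzt H.zz hzB (IsConj.refl z)
  obtain ⟨x', b', hx3, hb2, hb1, hba, hab, hxa, hxb⟩ := alt_three_mover (eB ⟨z, hzB⟩)
    (by rw [← map_mul, show (⟨z, hzB⟩ : B) * ⟨z, hzB⟩ = 1 from Subtype.ext H.zz, map_one])
    (fun e0 => H.z1 (congrArg Subtype.val (eB.injective (e0.trans eB.map_one.symm))))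
  obtain ⟨x, rfl⟩ := eB.surjective x'
  obtain ⟨b, rfl⟩ := eB.surjective b'
  simp only [← map_mul, ← map_inv, eB.injective.eq_iff, EmbeddingLike.map_eq_one_iff, ne_eq] at hx3 hb2 hb1 hba hab hxa hxb
  have gx3 : (x : G) * x * x = 1 := congrArg Subtype.val hx3
  have gb2 : (b : G) * b = 1 := congrArg Subtype.val hb2
  have gxa : (x : G) * z * (x : G)⁻¹ = (b : G) := congrArg Subtype.val hxa
  have gxb : (x : G) * b * (x : G)⁻¹ = z * (b : G) := congrArg Subtype.val hxb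
  have gxt : (x : G) * t = t * (x : G) := mem_centralizer_singleton_iff.1 (S.Ble x.2)
  have gbt : (b : G) * t = t * (b : G) := mem_centralizer_singleton_iff.1 (S.Ble b.2)
  have gbz : (b : G) * z = z * (b : G) := (congrArg Subtype.val hab).symm
  let t' : Subgroup.centralizer ({z} : Set G) := ⟨t, mem_centralizer_singleton_iff.2 htz⟩
  let b0 : Subgroup.centralizer ({z} : Set G) := ⟨b, mem_centralizer_singleton_iff.2 gbz⟩
  have hb0 : Inv10 Q (JankoTwo.zed z) b0 := ⟨H.class_in_Q (x := b0) (isConj_iff.2 ⟨x, gxa⟩), Subtype.ext gb2,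
    fun e0 => hb1 (Subtype.ext (congrArg (fun c : Subgroup.centralizer ({z} : Set G) => (c : G)) e0)),
    fun e0 => hba (Subtype.ext (congrArg (fun c : Subgroup.centralizer ({z} : Set G) => (c : G)) e0))⟩
  have ht'Q : t' ∉ Q := H.outside (Subtype.ext S.tt) S.nconj S.t1
  have ht'1 : t' ≠ 1 := fun e0 => S.t1 (congrArg Subtype.val e0)
  obtain ⟨eK⟩ := H.set.iso
  obtain ⟨τ, hτ2, hτ1⟩ : ∃ τ : alternatingGroup (Fin 5), τ * τ = 1 ∧ τ ≠ 1 := by decide +kernel
  set k0 : Subgroup.centralizer ({z} : Set G) := ((eK.symm τ : K) : Subgroup.centralizer ({z} : Set G)) with hk0def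
  have hk02 : k0 * k0 = 1 := by rw [hk0def, ← Subgroup.coe_mul, ← map_mul, hτ2, map_one]; rfl
  have hk01 : k0 ≠ 1 := fun e0 => hτ1 (eK.symm.injective ((Subtype.ext e0 : eK.symm τ = 1).trans eK.symm.map_one.symm))
  have hk0Q : k0 ∉ Q := fun e0 => hk01 (by
    have : k0 ∈ Q ⊓ K := ⟨e0, (eK.symm τ).2⟩
    rwa [H.set.cap, mem_bot] at this)
  obtain ⟨g, hg⟩ := JankoTwo.setting_outside_conj H.set hk02 hk0Q (Subtype.ext S.tt : t' * t' = 1) ht'Q
  have hk0 : k0 = g⁻¹ * t' * g := by rw [← hg]; group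
  refine ⟨(g : G)⁻¹ * x * g, g⁻¹ * b0 * g, k0, ?_, (eK.symm τ).2, hk02, hk01, ?_, ?_, ?_, ?_, ?_⟩
  · rw [show (g : G)⁻¹ * x * g * ((g : G)⁻¹ * x * g) * ((g : G)⁻¹ * x * g) = (g : G)⁻¹ * ((x : G) * x * x) * g by group,
      gx3, mul_one, inv_mul_cancel]
  · rw [hk0, show g⁻¹ * t' * g * (g⁻¹ * b0 * g) = g⁻¹ * (t' * b0) * g by group,
      show t' * b0 = b0 * t' from Subtype.ext gbt.symm]
    group
  · obtain ⟨hQ, h2, h1, hz'⟩ := hb0
    haveI := H.set.normal
    refine ⟨?_, ?_, fun e0 => h1 ?_, fun e0 => hz' ?_⟩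
    · simpa using H.set.normal.conj_mem _ hQ g⁻¹
    · rw [show g⁻¹ * b0 * g * (g⁻¹ * b0 * g) = g⁻¹ * (b0 * b0) * g by group, h2, mul_one, inv_mul_cancel]
    · rw [show b0 = g * (g⁻¹ * b0 * g) * g⁻¹ by group, e0, mul_one, mul_inv_cancel]
    · rw [show b0 = g * (g⁻¹ * b0 * g) * g⁻¹ by group, e0, ← H.set.zc g, mul_inv_cancel_right]
  all_goals have hgz : (g : G) * z = z * (g : G) := mem_centralizer_singleton_iff.1 g.2
  · show (g : G)⁻¹ * x * g * z * ((g : G)⁻¹ * x * g)⁻¹ = (g : G)⁻¹ * b * g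
    rw [← gxa, show (g : G)⁻¹ * x * g * z * ((g : G)⁻¹ * x * g)⁻¹ =
      (g : G)⁻¹ * x * ((g : G) * z * (g : G)⁻¹) * (x : G)⁻¹ * g by group, hgz, mul_inv_cancel_right]
    group
  · show (g : G)⁻¹ * x * g * ((g : G)⁻¹ * b * g) * ((g : G)⁻¹ * x * g)⁻¹ = z * ((g : G)⁻¹ * b * g)
    have hgz' : (g : G)⁻¹ * z = z * (g : G)⁻¹ := (show Commute (g : G) z from hgz).inv_left.eq
    rw [show (g : G)⁻¹ * x * g * ((g : G)⁻¹ * b * g) * ((g : G)⁻¹ * x * g)⁻¹ =
      (g : G)⁻¹ * ((x : G) * b * (x : G)⁻¹) * g by group, gxb, ← mul_assoc, hgz']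
    group
  · rw [hk0]
    show (g : G)⁻¹ * x * g * ((g : G)⁻¹ * t * g) = (g : G)⁻¹ * t * g * ((g : G)⁻¹ * x * g)
    rw [show (g : G)⁻¹ * x * g * ((g : G)⁻¹ * t * g) = (g : G)⁻¹ * ((x : G) * t) * g by group, gxt]
    group

theorem val_mod {G : Type*} [Group G] (z : G) (uu : Fin 5 → G) (kk : alternatingGroup (Fin 5) →* G) (a : ℕ) :
    val z uu kk (a % 1920) = val z uu kk a := by
  unfold val
  rw [show qp (a % 1920) = qp a by unfold qp; omega, show pp (a % 1920) = pp a by unfold pp; omega]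

theorem mul_mod_left (a b : ℕ) : mul (a % 1920) b = mul a b := by
  unfold mul
  rw [show qp (a % 1920) = qp a by unfold qp; omega, show pp (a % 1920) = pp a by unfold pp; omega]

theorem mul_mod_right (a b : ℕ) : mul a (b % 1920) = mul a b := by
  unfold mul
  rw [show qp (b % 1920) = qp b by unfold qp; omega, show pp (b % 1920) = pp b by unfold pp; omega]

theorem inCU_mod (a : ℕ) : inCU (a % 1920) = inCU a := by unfold inCU; rw [mul_mod_left, mul_mod_right]

theorem phi_mod (a : ℕ) : phi (a % 1920) = phi a := by unfold phi; rw [Nat.mod_mod]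

theorem invT_code : ∀ i : Fin 5, ((invT : alternatingGroup (Fin 5)) : Equiv.Perm (Fin 5)) i = (img 3 i : ℕ) % 5 := by
  decide +kernel

theorem inv_unique_facts : (∀ p < 60, ∀ r < 60, pmul p (pget Data.pinv 6 r) = 0 → p = r) ∧
    (∀ r < 60, ∀ q < 32, act r (act (pget Data.pinv 6 r) q) = q ∧ pget Data.pinv 6 r < 60) ∧
    (∀ a < 32, ∀ b < 32, qmul a (pget Data.qinv 5 b) = 0 → a = b) ∧ ∀ b < 32, pget Data.qinv 5 b < 32 := by
  decide +kernel

theorem inv_unique (a : ℕ) (ha : a < 1920) (b : ℕ) (hb : b < 1920) (h : mul a (inv b) = 0) : a = b := by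
  obtain ⟨h1, h2, h3, h4⟩ := inv_unique_facts
  obtain ⟨-, hr⟩ := h2 _ (pp_lt b) 0 (by norm_num)
  have hq := (act_ok _ hr _ (h4 _ (qp_lt b))).1
  have hp : pp (inv b) = pget Data.pinv 6 (pp b) := pp_code hr hq
  have hqe : qp (inv b) = act (pget Data.pinv 6 (pp b)) (pget Data.qinv 5 (qp b)) := qp_code hq
  have e1 := pp_mul a (inv b)
  have e2 := qp_mul a (inv b)
  rw [h, hp] at e1
  rw [h, hqe] at e2
  have hab := h1 _ (pp_lt a) _ (pp_lt b) e1.symm
  rw [hab, (h2 _ (pp_lt b) _ (h4 _ (qp_lt b))).1] at e2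
  have hqab := h3 _ (qp_lt a) _ (qp_lt b) e2.symm
  unfold pp at hab
  unfold qp at hqab
  omega

/-- A product of two codes in `G`. -/
theorem code_seventeen : mul zc 1 = 17 := by decide +kernel

/-- The centralizer of `z` by codes, and an element `s` of order three. -/
structure Base (z : G) (ρ : ℕ → G) (s : G) : Prop where
  mul_eq : ∀ a b, ρ (mul a b) = ρ a * ρ b
  zero : ρ 0 = 1
  mod_eq : ∀ a, ρ (a % 1920) = ρ a
  zc_eq : ρ zc = z
  inj : ∀ a < 1920, ρ a = 1 → a = 0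
  mem : ∀ a, ρ a ∈ Subgroup.centralizer ({z} : Set G)
  surj : ∀ g ∈ Subgroup.centralizer ({z} : Set G), ∃ a < 1920, ρ a = g
  s3 : s * s * s = 1
  sz : s * z * s⁻¹ = ρ 1
  su : s * ρ 1 * s⁻¹ = ρ 17
  st : s * ρ tc * s⁻¹ = ρ tc

theorem exists_base (H : JankoTwo.Hyp z Q K) : ∃ (ρ : ℕ → G) (s : G), Base z ρ s := by
  classical
  obtain ⟨x, u, k0, hx3, hk0K, hk02, hk01, hk0u, hu, hxz, hxu, hxk⟩ := exists_seed H
  obtain ⟨uu, kk, hC, h0, hT⟩ := exists_coord H.set hu hk0K hk02 hk01 hk0u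
  let ρ : ℕ → G := fun a => ((val (JankoTwo.zed z) uu kk a : Subgroup.centralizer ({z} : Set G)) : G)
  have hmul : ∀ a b, ρ (mul a b) = ρ a * ρ b := fun a b => by simp only [ρ, hC.val_mul, Subgroup.coe_mul]
  have hinj : ∀ a < 1920, ρ a = 1 → a = 0 := fun a ha e => hC.ker ha (Subtype.ext e)
  have hsurj : ∀ g ∈ Subgroup.centralizer ({z} : Set G), ∃ a < 1920, ρ a = g := by
    intro g hg
    let f : Fin 1920 → Subgroup.centralizer ({z} : Set G) := fun a => val (JankoTwo.zed z) uu kk a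
    have hf : Function.Bijective f := by
      refine (Nat.bijective_iff_injective_and_card f).2 ⟨fun a b e => ?_, by
        rw [H.card_cz, Nat.card_eq_fintype_card, Fintype.card_fin]⟩
      have e1 : val (JankoTwo.zed z) uu kk (mul a (inv b)) = 1 := by
        rw [hC.val_mul, show val (JankoTwo.zed z) uu kk a = val (JankoTwo.zed z) uu kk b from e, ← hC.val_mul,
          inv_ok b b.2, hC.val_zero]
      exact Fin.ext (inv_unique a a.2 b b.2 (hC.ker (mul_lt _ _) e1))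
    obtain ⟨a, ha⟩ := hf.2 ⟨g, hg⟩
    exact ⟨a, a.2, congrArg Subtype.val ha⟩
  have hzc : ρ zc = z := congrArg Subtype.val hC.val_zc
  have hu0 : ρ 1 = (uu 0 : G) := congrArg Subtype.val (hC.val_uc 0)
  have h17 : ρ 17 = z * ρ 1 := by rw [← hzc, ← hmul, code_seventeen]
  have htc : ρ tc = (k0 : G) := by
    show ((val _ uu kk tc : Subgroup.centralizer ({z} : Set G)) : G) = k0
    rw [val, show qp tc = 0 from rfl, show pp tc = 3 from rfl, hC.zero_eq, one_mul, ← hT]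
    congr 2
    refine Subtype.ext (Equiv.ext fun i => Fin.ext ?_)
    rw [permOf_apply (by norm_num), invT_code]
    exact (by decide +kernel : ∀ i : Fin 5, img 3 i = img 3 i % 5) i
  have hzz : z * z = 1 := H.zz
  have hxz' : x⁻¹ * z * x = z * (u : G) := by
    have e : x⁻¹ = x * x := (eq_inv_of_mul_eq_one_left hx3).symm
    rw [show x⁻¹ * z * x = x⁻¹ * z * (x⁻¹)⁻¹ by group, e, show x * x * z * (x * x)⁻¹ = x * (x * z * x⁻¹) * x⁻¹ by group,
      hxz, hxu]
  rcases h0 with h0 | h0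
  · refine ⟨ρ, x, hmul, congrArg Subtype.val hC.val_zero, fun a => congrArg Subtype.val (val_mod _ uu kk a), hzc, hinj,
      fun a => (val _ uu kk a).2, hsurj, hx3, ?_, ?_, ?_⟩
    · rw [hxz, hu0, h0]
    · rw [h17, hu0, h0, hxu]
    · rw [htc, hxk, mul_inv_cancel_right]
  · have hu' : ρ 1 = z * (u : G) := by
      rw [hu0, h0, Subgroup.coe_mul]
      exact (mem_centralizer_singleton_iff.1 u.2)
    refine ⟨ρ, x⁻¹, hmul, congrArg Subtype.val hC.val_zero, fun a => congrArg Subtype.val (val_mod _ uu kk a), hzc, hinj,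
      fun a => (val _ uu kk a).2, hsurj, ?_, ?_, ?_, ?_⟩
    · rw [← mul_inv_rev, ← mul_inv_rev, ← mul_assoc, hx3, inv_one]
    · rw [inv_inv, hxz', hu']
    · rw [inv_inv, h17, hu', show x⁻¹ * (z * (u : G)) * x = x⁻¹ * z * x * (x⁻¹ * (u : G) * x) by group, hxz',
        show x⁻¹ * (u : G) * x = z by rw [← hxz]; group, ← mul_assoc z z, hzz, one_mul]
      rw [mul_assoc, (mem_centralizer_singleton_iff.1 u.2), ← mul_assoc, hzz, one_mul]
    · rw [htc, inv_inv, show x⁻¹ * (k0 : G) * x = (k0 : G) by rw [mul_assoc, ← hxk, inv_mul_cancel_left]]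

end Cfsg.Agent.J2Uniq
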