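import Mathlib
import Cfsg.Agent.Lib.J2Uniq.Start

/-!
The element `s` acts on the centralizer of `u 0` by the tabulated automorphism, and can be chosen so
that its product with a fixed involution has a prescribed square.
-/

set_option autoImplicit false
set_option linter.all false
set_option maxRecDepth 100000

namespace Cfsg.Agent.J2Uniq

open Subgroup

universe v

variable {G : Type v} [Group G]

/-- Generators with all the relations used by the certificates. -/
structure Frame (z : G) (ρ : ℕ → G) (s : G) : Prop where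
  mul_eq : ∀ a b, ρ (mul a b) = ρ a * ρ b
  zero : ρ 0 = 1
  mod_eq : ∀ a, ρ (a % 1920) = ρ a
  zc_eq : ρ zc = z
  inj : ∀ a < 1920, ρ a = 1 → a = 0
  mem : ∀ a, ρ a ∈ Subgroup.centralizer ({z} : Set G)
  surj : ∀ g ∈ Subgroup.centralizer ({z} : Set G), ∃ a < 1920, ρ a = g
  s3 : s * s * s = 1
  sconj : ∀ r, inCU r = true → s * ρ r = ρ (phi r) * s
  twist : ρ ec * s * ρ ec * s = ρ cc

theorem ev_lt (im : ℕ → ℕ) : ∀ w : List ℕ, ev im w < 1920
  | [] => by simp [ev]
  | _ :: _ => mul_lt _ _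

theorem sg_vals : sg 0 = zc ∧ sg 1 = 1 ∧ sg 2 = tc ∧ mul ec ec = 0 ∧ cj ec 1 = 17 ∧ mul zc zc = 0 ∧
    mul zc 1 = 17 ∧ mul 1 1 = 0 ∧ cj ec 17 = 1 := by decide +kernel

namespace Base

variable [Finite G] {z : G} {ρ : ℕ → G} {s : G} (B : Base z ρ s)

include B

theorem inv_eq {a : ℕ} (ha : a < 1920) : ρ (inv a) = (ρ a)⁻¹ :=
  (inv_eq_of_mul_eq_one_right (by rw [← B.mul_eq, inv_ok a ha, B.zero])).symm

theorem inj' {a b : ℕ} (ha : a < 1920) (hb : b < 1920) (e : ρ a = ρ b) : a = b :=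
  inv_unique a ha b hb (B.inj _ (mul_lt _ _) (by rw [B.mul_eq, e, B.inv_eq hb, mul_inv_cancel]))

theorem ev_map (im : ℕ → ℕ) : ∀ w : List ℕ, ρ (ev im w) = (w.map fun k => ρ (im k)).prod
  | [] => by simp [ev, B.zero]
  | k :: w => by rw [List.map_cons, List.prod_cons, ← ev_map im w, ← B.mul_eq]; rfl

theorem cj_eq {g a : ℕ} (hg : g < 1920) : ρ (cj g a) = ρ g * ρ a * (ρ g)⁻¹ := by
  rw [cj, B.mul_eq, B.mul_eq, B.inv_eq hg]

theorem conj_ev {im : ℕ → ℕ} (him : ∀ k < 5, s * ρ (sg k) * s⁻¹ = ρ (im k)) :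
    ∀ w : List ℕ, (∀ k ∈ w, k < 5) → s * ρ (ev sg w) * s⁻¹ = ρ (ev im w)
  | [], _ => by simp [ev, B.zero]
  | k :: w, hw => by
    rw [show ev sg (k :: w) = mul (sg k) (ev sg w) from rfl, show ev im (k :: w) = mul (im k) (ev im w) from rfl,
      B.mul_eq, B.mul_eq, ← him k (hw k List.mem_cons_self),
      ← conj_ev him w (fun j hj => hw j (List.mem_cons_of_mem _ hj))]
    group

/-- An element commuting with `z` and `u 0` is a code commuting with the code of `u 0`. -/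
theorem exists_cu {g : G} (hz : g * z = z * g) (hu : g * ρ 1 = ρ 1 * g) :
    ∃ r < 1920, inCU r = true ∧ ρ r = g := by
  obtain ⟨r, hr, rfl⟩ := B.surj g (mem_centralizer_singleton_iff.2 hz)
  rw [← B.mul_eq, ← B.mul_eq] at hu
  exact ⟨r, hr, by rw [inCU, B.inj' (mul_lt _ _) (mul_lt _ _) hu]; exact Nat.beq_refl _, rfl⟩

theorem exists_frame : ∃ (ρ : ℕ → G) (s : G), Frame z ρ s := by
  obtain ⟨h0, h1, h2, hee, hcj, hzz, hz1, h11, hcj'⟩ := sg_vals
  have hzu : z * ρ 1 = ρ 17 := by rw [← B.zc_eq, ← B.mul_eq, hz1]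
  have hu_comm : ∀ r, inCU r = true → ρ r * ρ 1 = ρ 1 * ρ r := fun r hr => by
    rw [← B.mul_eq, ← B.mul_eq, Nat.eq_of_beq_eq_true hr]
  -- the images of the last two generators
  have hd : ∀ k < 5, ∃ r < 1920, inCU r = true ∧ s * ρ (sg k) * s⁻¹ = ρ r := by
    intro k hk
    have hz : ρ (sg k) * z = z * ρ (sg k) := mem_centralizer_singleton_iff.1 (B.mem _)
    have hu := hu_comm _ (sg_ok k hk).2.1
    have c1 : s * ρ (sg k) * s⁻¹ * ρ 1 = ρ 1 * (s * ρ (sg k) * s⁻¹) := by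
      rw [← B.sz, show s * ρ (sg k) * s⁻¹ * (s * z * s⁻¹) = s * (ρ (sg k) * z) * s⁻¹ by group, hz]; group
    have c2 : s * ρ (sg k) * s⁻¹ * ρ 17 = ρ 17 * (s * ρ (sg k) * s⁻¹) := by
      rw [← B.su, show s * ρ (sg k) * s⁻¹ * (s * ρ 1 * s⁻¹) = s * (ρ (sg k) * ρ 1) * s⁻¹ by group, hu]; group
    have c3 : s * ρ (sg k) * s⁻¹ * z = z * (s * ρ (sg k) * s⁻¹) := by
      have e : z = ρ 17 * ρ 1 := by rw [← hzu, mul_assoc, ← B.mul_eq, h11, B.zero, mul_one]
      rw [e, ← mul_assoc, c2, mul_assoc, c1, ← mul_assoc]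
    obtain ⟨r, hr, hrc, e⟩ := B.exists_cu c3 c1
    exact ⟨r, hr, hrc, e.symm⟩
  obtain ⟨d, hd1, hdc, ed⟩ := hd 3 (by norm_num)
  obtain ⟨d', hd1', hdc', ed'⟩ := hd 4 (by norm_num)
  have him : ∀ k < 5, s * ρ (sg k) * s⁻¹ = ρ (im5 d d' k) := by
    intro k hk
    interval_cases k
    · rw [h0, B.zc_eq, B.sz]; rfl
    · rw [h1, B.su]; rfl
    · rw [h2, B.st]; rfl
    · exact ed
    · exact ed'
  have hrel : ∀ w w' : List ℕ, (∀ k ∈ w, k < 5) → (∀ k ∈ w', k < 5) → ev sg w = ev sg w' →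
      Nat.beq (ev (im5 d d') w) (ev (im5 d d') w') = true := by
    intro w w' hw hw' e
    rw [B.inj' (ev_lt _ _) (ev_lt _ _) (a := ev (im5 d d') w) (b := ev (im5 d d') w')
      (by rw [← B.conj_ev him w hw, ← B.conj_ev him w' hw', e])]
    exact Nat.beq_refl _
  obtain ⟨r1, r2, r3, r4, r5, r6⟩ := rel_holds
  have hrel4 : rel4 d = true := by
    unfold rel4
    simp only [Bool.and_eq_true]
    exact ⟨hrel [0, 1, 2, 3, 3] [3, 2, 3, 2] (by decide) (by decide) r1, hrel [3, 3, 3] [] (by decide) (by decide) r2⟩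
  have hrel5 : rel5 d d' = true := by
    unfold rel5
    simp only [Bool.and_eq_true]
    exact ⟨⟨⟨hrel [4, 4] [1] (by decide) (by decide) r3, hrel [4, 3, 3, 4] [3, 4, 3] (by decide) (by decide) r4⟩,
      hrel [4, 2, 4] [2] (by decide) (by decide) r5⟩, hrel [2, 3, 4, 2, 3] [3, 4, 3, 2] (by decide) (by decide) r6⟩
  have hgen : ∀ k < 5, s * ρ (sg k) * s⁻¹ = ρ (phiGen k) := by
    rcases uniq_ok d (cuList_ok d hd1 hdc) hrel4 d' (cuList_ok d' hd1' hdc') hrel5 with ⟨e1, e2⟩ | ⟨k, hk, hc2, hc1, hne⟩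
    · intro k hk
      rw [him k hk]
      interval_cases k
      · rw [phiGen_ok.1]; rfl
      · rw [phiGen_ok.2.1]; rfl
      · rw [phiGen_ok.2.2]; rfl
      · exact congrArg ρ e1
      · exact congrArg ρ e2
    · exfalso
      refine hne ?_
      have happ : ∀ x, x < 1920 → inCU x = true → s * ρ x * s⁻¹ = ρ (applyIm d d' x) := fun x hx hxc => by
        have := B.conj_ev him (cuWord x) (cu_ok x hx hxc).2.2.1
        rwa [(cu_ok x hx hxc).1] at this
      have hl : im5 d d' k < 1920 := by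
        interval_cases k
        exacts [by norm_num [im5], by norm_num [im5], by norm_num [im5, tc], hd1, hd1']
      refine B.inj' (ev_lt _ _) (sg_ok k hk).1 ?_
      rw [← happ (applyIm d d' (im5 d d' k)) (ev_lt _ _) hc2, ← happ _ hl hc1, ← him k hk,
        show s * (s * (s * ρ (sg k) * s⁻¹) * s⁻¹) * s⁻¹ = (s * s * s) * ρ (sg k) * (s * s * s)⁻¹ by group, B.s3,
        one_mul, inv_one, mul_one]
  have hconj : ∀ r, inCU r = true → s * ρ r = ρ (phi r) * s := by
    intro r hr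
    rw [← inCU_mod] at hr
    obtain ⟨w1, w2, w3, -⟩ := cu_ok _ (Nat.mod_lt r (by norm_num)) hr
    have := B.conj_ev hgen (cuWord (r % 1920)) w3
    rw [w1, w2, phi_mod, B.mod_eq] at this
    rw [← this]; group
  -- the square
  set t := ρ ec * s * ρ ec * s with htdef
  have he2 : ρ ec * ρ ec = 1 := by rw [← B.mul_eq, hee, B.zero]
  have hei : (ρ ec)⁻¹ = ρ ec := inv_eq_of_mul_eq_one_right he2
  have hec : ec < 1920 := by norm_num [ec]
  have hse : ∀ a, ρ ec * ρ a * ρ ec = ρ (cj ec a) := fun a => by rw [B.cj_eq hec, hei]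
  have hstep : ∀ r, inCU r = true → ρ ec * s * ρ r * s⁻¹ * ρ ec = ρ (cj ec (phi r)) := fun r hr => by
    rw [mul_assoc (ρ ec) s, hconj r hr, ← hse]; group
  have htk : ∀ k < 5, t * ρ (sg k) * t⁻¹ = ρ (cj ec (phi (cj ec (phi (sg k))))) := by
    intro k hk
    obtain ⟨-, hk1, hk2⟩ := sg_ok k hk
    rw [htdef, ← hstep _ hk2, ← hstep _ hk1, mul_inv_rev, mul_inv_rev, mul_inv_rev, hei]
    group
  have ht0 := htk 0 (by norm_num)
  have ht1 := htk 1 (by norm_num)
  have htv : cj ec (phi (cj ec (phi (sg 0)))) = zc ∧ cj ec (phi (cj ec (phi (sg 1)))) = 1 := by decide +kernel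
  rw [htv.1, h0, B.zc_eq, mul_inv_eq_iff_eq_mul] at ht0
  rw [htv.2, h1, mul_inv_eq_iff_eq_mul] at ht1
  obtain ⟨r, hr, hrc, hrt⟩ := B.exists_cu ht0 ht1
  have hA : ∀ k < 5, cj r (sg k) = cj ec (phi (cj ec (phi (sg k)))) := fun k hk =>
    B.inj' (mul_lt _ _) (mul_lt _ _) (by rw [B.cj_eq hr, hrt, htk k hk])
  have hB : phi r = cj ec r := B.inj' (by have := cu_ok r hr hrc; rw [← this.2.1]; exact ev_lt _ _) (mul_lt _ _) (by
    have e := hconj r hrc
    rw [eq_mul_inv_iff_mul_eq.2 e.symm, ← hse, hrt, htdef]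
    calc s * (ρ ec * s * ρ ec * s) * s⁻¹ = (1 : G) * (s * ρ ec * s * ρ ec) := by group
      _ = ρ ec * (ρ ec * s * ρ ec * s) * ρ ec := by rw [← he2]; group)
  rcases twist_ok r (cuList_ok r hr hrc) hA hB with h32 | h33
  · obtain ⟨v, -, hvc, hwc, hval, hvk, -, hvv, -⟩ := shift_ok
    refine ⟨ρ, ρ v * s * ρ v, B.mul_eq, B.zero, B.mod_eq, B.zc_eq, B.inj, B.mem, B.surj, ?_, ?_, ?_⟩
    · have hv2 : ρ v * ρ v = 1 := by rw [← B.mul_eq, hvv, B.zero]
      calc ρ v * s * ρ v * (ρ v * s * ρ v) * (ρ v * s * ρ v)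
          = ρ v * s * (ρ v * ρ v) * s * (ρ v * ρ v) * s * ρ v := by group
        _ = ρ v * (s * s * s) * ρ v := by rw [hv2]; group
        _ = 1 := by rw [B.s3, mul_one, hv2]
    · intro a ha
      rw [← inCU_mod] at ha
      rw [← B.mod_eq a, ← phi_mod a]
      set a' := a % 1920
      have ha' : a' < 1920 := Nat.mod_lt _ (by norm_num)
      obtain ⟨w1, w2, w3, -⟩ := cu_ok _ ha' ha
      have hv2 : ρ v * ρ v = 1 := by rw [← B.mul_eq, hvv, B.zero]
      have hv : ∀ b, (∀ k < 5, cj v (b k) = b k) → ∀ w : List ℕ, (∀ k ∈ w, k < 5) →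
          ρ v * ρ (ev b w) = ρ (ev b w) * ρ v := by
        intro b hb w
        induction w with
        | nil => intro _; simp [ev, B.zero]
        | cons k w ih =>
          intro hw
          have hk := hb k (hw k List.mem_cons_self)
          have hvl : v % 1920 < 1920 := Nat.mod_lt _ (by norm_num)
          have e1 : ρ v * ρ (b k) = ρ (b k) * ρ v := by
            have := congrArg ρ hk
            rw [cj, B.mul_eq, B.mul_eq, show ρ (inv v) = (ρ v)⁻¹ by
              rw [show inv v = inv (v % 1920) by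
                unfold inv; rw [show qp (v % 1920) = qp v by unfold qp; omega,
                  show pp (v % 1920) = pp v by unfold pp; omega], B.inv_eq hvl, B.mod_eq]] at this
            exact mul_inv_eq_iff_eq_mul.1 this
          rw [show ev b (k :: w) = mul (b k) (ev b w) from rfl, B.mul_eq, ← mul_assoc, e1, mul_assoc,
            ih fun j hj => hw j (List.mem_cons_of_mem _ hj), mul_assoc]
      have e1 := hv sg (fun k hk => (hvk k hk).1) _ w3
      have e2 := hv phiGen (fun k hk => (hvk k hk).2) _ w3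
      rw [w1] at e1
      rw [w2] at e2
      rw [mul_assoc, e1, ← mul_assoc, mul_assoc (ρ v), hconj a' ha, ← mul_assoc, e2]
      group
    · have hw' := hval
      obtain ⟨-, -, -, hp1, hp2, -⟩ := cu_ok (mul (cj ec v) v) (mul_lt _ _) hwc
      have e := hconj _ hp1
      rw [hp2] at e
      rw [← hval, B.mul_eq, B.mul_eq, B.mul_eq, ← h32, hrt, htdef]
      have hv2 : ρ v * ρ v = 1 := by rw [← B.mul_eq, hvv, B.zero]
      calc ρ ec * (ρ v * s * ρ v) * ρ ec * (ρ v * s * ρ v)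
          = (ρ ec * ρ v * ρ ec) * ρ ec * s * ρ ec * ((ρ ec * ρ v * ρ ec) * ρ v * s) * ρ v := by
            simp only [← mul_assoc]
            simp only [mul_assoc, show ∀ x, ρ ec * (ρ ec * x) = x from fun x => by rw [← mul_assoc, he2, one_mul]]
        _ = ρ (cj ec v) * ρ ec * s * ρ ec * (ρ (mul (cj ec v) v) * s) * ρ v := by rw [hse, B.mul_eq]
        _ = _ := by rw [← e]; group
  · exact ⟨ρ, s, B.mul_eq, B.zero, B.mod_eq, B.zc_eq, B.inj, B.mem, B.surj, B.s3, hconj, by rw [← h33, hrt]⟩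

end Base

end Cfsg.Agent.J2Uniq
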