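import Cfsg.Agent.Lib.J2Uniq.Cert

/-!
Certificates for involutions which lead to a collapse.
-/

set_option autoImplicit false
set_option maxRecDepth 100000
set_option maxHeartbeats 4000000

namespace Cfsg.Agent.J2Uniq.CData

/-- A collapsing certificate. -/
def c0 : Cert := ⟨[⟨false,0,0⟩,⟨false,928,1⟩,⟨false,416,2⟩,⟨false,0,1⟩],[.edge 3,.code,.edge 4,.code,.edge 5],[
⟨416,2,4,2,false,[.edge 5,.eqn 7 false,.edge 5],[]⟩,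
⟨928,1,4,2,false,[.edge 4,.eqn 8 false,.edge 4],[]⟩,
⟨0,0,0,2,true,[.edge 3,.edge 6],[]⟩,
⟨0,0,1,5,false,[.edge 3,.code,.eqn 9 false,.edge 6,.code,.code],[]⟩,
⟨0,0,3,1,true,[.edge 10,.eqn 11 false],[]⟩,
⟨0,1,3,2,false,[.edge 3,.eqn 0 false,.edge 12],[]⟩]⟩

/-- Its last walk. -/
def m0 : List Move := [.edge 3,.eqn 13 true]

/-- A collapsing certificate. -/
def c1 : Cert := ⟨[⟨false,0,0⟩,⟨false,928,1⟩,⟨false,416,2⟩],[.edge 3,.code,.edge 4,.code,.edge 5],[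
⟨0,1,3,2,false,[.edge 3,.eqn 1 false,.eqn 0 false,.eqn 1 true,.edge 3],[]⟩,
⟨0,1,3,2,false,[.edge 3,.eqn 1 false,.eqn 2 false,.eqn 1 true,.edge 3],[]⟩,
⟨0,1,3,2,false,[.edge 3,.eqn 2 true,.eqn 1 false,.eqn 2 false,.edge 3],[]⟩,
⟨0,2,3,2,false,[.edge 4,.eqn 9 false,.eqn 8 true,.edge 4],[]⟩,
⟨0,1,3,2,false,[.edge 3,.eqn 0 false,.eqn 1 false,.eqn 0 false,.eqn 1 true,.eqn 0 true,.edge 3],[]⟩,
⟨0,2,3,2,false,[.edge 4,.eqn 11 false,.edge 4],[]⟩,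
⟨0,1,3,2,false,[.edge 3,.eqn 0 false,.eqn 1 false,.eqn 2 false,.eqn 1 true,.eqn 0 true,.edge 3],[]⟩,
⟨0,2,3,2,false,[.edge 4,.eqn 7 false,.eqn 8 true,.eqn 13 true,.edge 4],[]⟩,
⟨0,3,3,2,false,[.edge 5,.eqn 14 false,.eqn 10 true,.edge 5],[]⟩,
⟨416,2,4,2,false,[.edge 5,.eqn 6 false,.eqn 15 false,.eqn 6 true,.edge 5],[]⟩,
⟨928,1,4,2,false,[.edge 4,.eqn 16 false,.eqn 10 false,.eqn 16 true,.edge 4],[]⟩,
⟨0,0,0,3,false,[.edge 3,.eqn 17 true,.eqn 13 true,.edge 4,.eqn 16 false,.eqn 12 false,.eqn 14 false,.edge 5],[]⟩,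
⟨0,0,1,5,false,[.edge 3,.code,.eqn 17 false,.eqn 8 true,.edge 4,.code,.code],[]⟩,
⟨0,3,3,1,true,[.edge 5,.eqn 19 false],[.eqn 18 false]⟩,
⟨0,1,3,2,false,[.edge 3,.eqn 2 false,.eqn 1 false,.edge 20],[]⟩]⟩

/-- Its last walk. -/
def m1 : List Move := [.edge 3,.eqn 21 true]

/-- A collapsing certificate. -/
def c2 : Cert := ⟨[⟨false,0,0⟩,⟨false,928,1⟩,⟨false,416,2⟩],[.edge 3,.code,.edge 4,.code,.edge 5],[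
⟨0,1,3,2,false,[.edge 3,.eqn 1 false,.eqn 0 false,.eqn 1 true,.edge 3],[]⟩,
⟨0,1,3,2,false,[.edge 3,.eqn 1 false,.eqn 2 false,.eqn 1 true,.edge 3],[]⟩,
⟨0,1,3,2,false,[.edge 3,.eqn 2 true,.eqn 1 false,.eqn 2 false,.edge 3],[]⟩,
⟨0,2,3,2,false,[.edge 4,.eqn 9 false,.eqn 8 true,.edge 4],[]⟩,
⟨0,1,3,2,false,[.edge 3,.eqn 0 false,.eqn 1 false,.eqn 0 false,.eqn 1 true,.eqn 0 true,.edge 3],[]⟩,
⟨0,2,3,2,false,[.edge 4,.eqn 11 false,.edge 4],[]⟩,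
⟨0,1,3,2,false,[.edge 3,.eqn 0 false,.eqn 1 false,.eqn 2 false,.eqn 1 true,.eqn 0 true,.edge 3],[]⟩,
⟨0,2,3,2,false,[.edge 4,.eqn 7 false,.eqn 8 true,.eqn 13 true,.edge 4],[]⟩,
⟨0,3,3,2,false,[.edge 5,.eqn 14 false,.eqn 10 true,.edge 5],[]⟩,
⟨416,2,4,2,false,[.edge 5,.eqn 6 false,.eqn 15 false,.eqn 6 true,.edge 5],[]⟩,
⟨928,1,4,2,false,[.edge 4,.eqn 16 false,.eqn 14 false,.eqn 12 true,.eqn 16 true,.edge 4],[]⟩,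
⟨0,0,0,3,false,[.edge 3,.eqn 17 true,.eqn 13 false,.edge 4,.eqn 16 true,.eqn 14 false,.edge 5],[]⟩,
⟨0,0,1,5,false,[.edge 3,.code,.eqn 17 false,.eqn 8 true,.edge 4,.code,.code],[]⟩,
⟨0,3,3,1,true,[.edge 5,.eqn 19 false],[.eqn 18 false]⟩,
⟨0,1,3,2,false,[.edge 3,.eqn 0 false,.eqn 2 false,.edge 20],[]⟩]⟩

/-- Its last walk. -/
def m2 : List Move := [.edge 3,.eqn 21 true]

/-- A collapsing certificate. -/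
def c3 : Cert := ⟨[⟨false,0,0⟩,⟨false,928,1⟩,⟨false,416,2⟩,⟨false,0,1⟩,⟨true,678,1⟩,⟨true,1632,5⟩,⟨false,4,5⟩,⟨false,416,7⟩,⟨true,8,8⟩,⟨true,416,9⟩,⟨true,1632,10⟩],[.edge 3,.code,.edge 4,.code,.edge 5],[
⟨0,1,3,2,false,[.edge 3,.eqn 1 false,.eqn 0 false,.eqn 1 true,.edge 3],[]⟩,
⟨0,1,3,2,false,[.edge 3,.eqn 1 false,.eqn 2 false,.eqn 1 true,.edge 3],[]⟩,
⟨0,1,3,2,false,[.edge 3,.eqn 2 true,.eqn 1 false,.eqn 2 false,.edge 3],[]⟩,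
⟨0,1,3,2,false,[.edge 3,.eqn 0 false,.eqn 1 false,.eqn 0 false,.eqn 1 true,.eqn 0 true,.edge 3],[]⟩,
⟨0,2,3,2,false,[.edge 4,.eqn 18 false,.edge 4],[]⟩,
⟨0,1,3,2,false,[.edge 3,.eqn 0 false,.eqn 1 false,.eqn 2 false,.eqn 1 true,.eqn 0 true,.edge 3],[]⟩,
⟨0,0,0,2,true,[.edge 3,.edge 6],[]⟩,
⟨0,0,1,2,false,[.edge 3,.code],[.code,.code,.eqn 0 false,.edge 21]⟩,
⟨0,0,3,1,true,[.edge 21,.eqn 22 true],[]⟩,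
⟨0,4,3,1,true,[.edge 6],[.eqn 22 true]⟩,
⟨0,0,2,21,false,[.code,.eqn 0 false,.edge 21,.eqn 22 true,.code,.edge 7,.code,.edge 8,.code,.edge 8,.code,.edge 9,.code,.edge 10,.code,.edge 11,.code,.edge 12,.code,.edge 13,.code,.edge 13,.code],[.edge 21,.eqn 22 true,.code,.eqn 20 false,.edge 7]⟩,
⟨416,9,3,1,true,[.edge 12,.eqn 25 false],[]⟩,
⟨0,5,4,2,false,[.edge 7,.eqn 16 false,.edge 7],[]⟩,
⟨0,7,3,2,false,[.edge 9,.eqn 27 false,.edge 9],[]⟩,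
⟨416,9,3,2,false,[.edge 26,.edge 9],[]⟩,
⟨8,8,3,1,true,[.edge 11,.eqn 29 true],[]⟩,
⟨0,8,3,2,false,[.edge 10,.eqn 28 false,.edge 30],[]⟩,
⟨0,5,4,2,false,[.edge 7,.eqn 18 false,.edge 7],[]⟩,
⟨0,7,3,2,false,[.edge 9,.eqn 32 false,.edge 9],[]⟩,
⟨0,1,2,15,false,[.code,.edge 24,.code,.eqn 16 false,.eqn 17 false,.edge 7,.code,.edge 8,.code,.edge 8,.code,.edge 9,.code,.eqn 33 false,.edge 10,.code,.edge 11,.eqn 29 true,.code],[.edge 3,.code,.eqn 1 false,.edge 21,.eqn 22 true,.code,.eqn 16 false,.eqn 17 false,.edge 7,.code,.edge 7,.code,.edge 6,.eqn 22 true]⟩,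
⟨0,8,3,1,true,[.edge 10,.eqn 34 false],[]⟩,
⟨0,2,3,2,false,[.edge 4,.eqn 15 false,.edge 35],[]⟩,
⟨8,8,5,0,false,[.eqn 31 false,.eqn 36 false],[.eqn 36 false]⟩,
⟨928,1,4,2,false,[.edge 4,.eqn 37 false,.eqn 19 false,.eqn 37 true,.edge 4],[]⟩,
⟨0,0,3,2,false,[.edge 23,.eqn 38 false,.edge 24],[]⟩]⟩

/-- Its last walk. -/
def m3 : List Move := [.edge 3,.eqn 39 false]

/-- A collapsing certificate. -/
def c4 : Cert := ⟨[⟨false,0,0⟩,⟨false,928,1⟩,⟨false,416,2⟩],[.edge 3,.code,.edge 4,.code,.edge 5],[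
⟨0,1,3,2,false,[.edge 3,.eqn 1 false,.eqn 0 false,.eqn 1 true,.edge 3],[]⟩,
⟨0,1,3,2,false,[.edge 3,.eqn 1 false,.eqn 2 false,.eqn 1 true,.edge 3],[]⟩,
⟨0,1,3,2,false,[.edge 3,.eqn 2 true,.eqn 1 false,.eqn 2 false,.edge 3],[]⟩,
⟨0,2,3,2,false,[.edge 4,.eqn 9 false,.eqn 8 true,.edge 4],[]⟩,
⟨0,1,3,2,false,[.edge 3,.eqn 0 false,.eqn 1 false,.eqn 2 false,.eqn 1 true,.eqn 0 true,.edge 3],[]⟩,
⟨0,2,3,2,false,[.edge 4,.eqn 7 false,.eqn 8 true,.eqn 11 true,.edge 4],[]⟩,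
⟨0,3,3,2,false,[.edge 5,.eqn 12 false,.eqn 10 true,.edge 5],[]⟩,
⟨416,2,4,2,false,[.edge 5,.eqn 6 false,.eqn 13 false,.eqn 6 true,.edge 5],[]⟩,
⟨928,1,4,2,false,[.edge 4,.eqn 14 false,.eqn 12 true,.eqn 10 false,.eqn 14 true,.edge 4],[]⟩,
⟨0,0,0,3,false,[.edge 3,.eqn 15 false,.eqn 11 false,.edge 4,.eqn 14 false,.eqn 10 true,.edge 5],[]⟩,
⟨0,0,1,5,false,[.edge 3,.code,.eqn 15 true,.eqn 8 false,.edge 4,.code,.code],[]⟩,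
⟨0,3,3,1,true,[.edge 5,.eqn 17 false],[.eqn 16 false]⟩,
⟨0,1,3,2,false,[.edge 3,.eqn 0 false,.eqn 2 false,.edge 18],[]⟩]⟩

/-- Its last walk. -/
def m4 : List Move := [.edge 3,.eqn 19 true]

/-- A collapsing certificate. -/
def c5 : Cert := ⟨[⟨false,0,0⟩,⟨false,928,1⟩,⟨false,416,2⟩],[.edge 3,.code,.edge 4,.code,.edge 5],[
⟨416,2,4,2,false,[.edge 5,.eqn 6 false,.edge 5],[]⟩,
⟨0,1,3,2,false,[.edge 3,.eqn 1 false,.eqn 2 false,.eqn 1 true,.edge 3],[]⟩,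
⟨0,1,3,2,false,[.edge 3,.eqn 2 true,.eqn 1 false,.eqn 2 false,.edge 3],[]⟩,
⟨0,2,3,2,false,[.edge 4,.eqn 9 false,.eqn 8 true,.edge 4],[]⟩,
⟨928,1,4,2,false,[.edge 4,.eqn 7 false,.eqn 10 false,.eqn 7 true,.edge 4],[]⟩,
⟨0,0,0,2,true,[.edge 3,.eqn 11 true,.eqn 8 true,.edge 4],[]⟩,
⟨0,0,1,5,false,[.edge 3,.code,.eqn 11 false,.eqn 8 false,.edge 4,.code,.code],[]⟩,
⟨0,0,3,1,true,[.edge 12,.eqn 13 false],[]⟩,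
⟨0,0,3,2,false,[.edge 14,.eqn 0 false,.edge 3],[]⟩]⟩

/-- Its last walk. -/
def m5 : List Move := [.edge 3,.eqn 15 false]

/-- A collapsing certificate. -/
def c6 : Cert := ⟨[⟨false,0,0⟩,⟨false,928,1⟩,⟨false,416,2⟩],[.edge 3,.code,.edge 4,.code,.edge 5],[
⟨416,2,4,2,false,[.edge 5,.eqn 6 false,.edge 5],[]⟩,
⟨0,1,3,2,false,[.edge 3,.eqn 1 false,.eqn 2 false,.eqn 1 true,.edge 3],[]⟩,
⟨0,1,3,2,false,[.edge 3,.eqn 2 true,.eqn 1 false,.eqn 2 false,.edge 3],[]⟩,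
⟨0,2,3,2,false,[.edge 4,.eqn 9 false,.eqn 8 true,.edge 4],[]⟩,
⟨928,1,4,2,false,[.edge 4,.eqn 7 false,.eqn 10 false,.eqn 7 true,.edge 4],[]⟩,
⟨0,0,0,2,true,[.edge 3,.eqn 11 true,.eqn 8 true,.edge 4],[]⟩,
⟨0,0,1,5,false,[.edge 3,.code,.eqn 11 false,.eqn 8 false,.edge 4,.code,.code],[]⟩,
⟨0,0,3,1,true,[.edge 12,.eqn 13 false],[]⟩,
⟨0,0,3,2,false,[.edge 14,.eqn 0 false,.edge 3],[]⟩]⟩

/-- Its last walk. -/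
def m6 : List Move := [.edge 3,.eqn 15 false]

/-- A collapsing certificate. -/
def c7 : Cert := ⟨[⟨false,0,0⟩,⟨false,928,1⟩,⟨false,416,2⟩],[.edge 3,.code,.edge 4,.code,.edge 5],[
⟨0,1,3,2,false,[.edge 3,.eqn 1 false,.eqn 0 false,.eqn 1 true,.edge 3],[]⟩,
⟨0,1,3,2,false,[.edge 3,.eqn 1 false,.eqn 2 false,.eqn 1 true,.edge 3],[]⟩,
⟨0,1,3,2,false,[.edge 3,.eqn 2 true,.eqn 1 false,.eqn 2 false,.edge 3],[]⟩,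
⟨0,2,3,2,false,[.edge 4,.eqn 9 false,.eqn 8 true,.edge 4],[]⟩,
⟨0,1,3,2,false,[.edge 3,.eqn 0 false,.eqn 1 false,.eqn 0 false,.eqn 1 true,.eqn 0 true,.edge 3],[]⟩,
⟨0,2,3,2,false,[.edge 4,.eqn 11 false,.edge 4],[]⟩,
⟨0,1,3,2,false,[.edge 3,.eqn 0 false,.eqn 1 false,.eqn 2 false,.eqn 1 true,.eqn 0 true,.edge 3],[]⟩,
⟨0,2,3,2,false,[.edge 4,.eqn 7 false,.eqn 8 true,.eqn 13 true,.edge 4],[]⟩,
⟨0,3,3,2,false,[.edge 5,.eqn 14 false,.eqn 10 true,.edge 5],[]⟩,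
⟨416,2,4,2,false,[.edge 5,.eqn 6 false,.eqn 15 false,.eqn 6 true,.edge 5],[]⟩,
⟨928,1,4,2,false,[.edge 4,.eqn 16 false,.eqn 10 false,.eqn 16 true,.edge 4],[]⟩,
⟨0,0,0,3,false,[.edge 3,.eqn 17 true,.eqn 13 true,.edge 4,.eqn 16 false,.eqn 12 false,.eqn 14 false,.edge 5],[]⟩,
⟨0,0,1,5,false,[.edge 3,.code,.eqn 17 false,.eqn 8 true,.edge 4,.code,.code],[]⟩,
⟨0,3,3,1,true,[.edge 5,.eqn 19 false],[.eqn 18 false]⟩,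
⟨0,1,3,2,false,[.edge 3,.eqn 2 false,.eqn 1 false,.edge 20],[]⟩]⟩

/-- Its last walk. -/
def m7 : List Move := [.edge 3,.eqn 21 true]

/-- A collapsing certificate. -/
def c8 : Cert := ⟨[⟨false,0,0⟩,⟨false,928,1⟩,⟨false,416,2⟩],[.edge 3,.code,.edge 4,.code,.edge 5],[
⟨0,1,3,2,false,[.edge 3,.eqn 1 false,.eqn 0 false,.eqn 1 true,.edge 3],[]⟩,
⟨0,1,3,2,false,[.edge 3,.eqn 1 false,.eqn 2 false,.eqn 1 true,.edge 3],[]⟩,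
⟨0,1,3,2,false,[.edge 3,.eqn 2 true,.eqn 1 false,.eqn 2 false,.edge 3],[]⟩,
⟨0,2,3,2,false,[.edge 4,.eqn 9 false,.eqn 8 true,.edge 4],[]⟩,
⟨0,1,3,2,false,[.edge 3,.eqn 0 false,.eqn 1 false,.eqn 0 false,.eqn 1 true,.eqn 0 true,.edge 3],[]⟩,
⟨0,2,3,2,false,[.edge 4,.eqn 11 false,.edge 4],[]⟩,
⟨0,1,3,2,false,[.edge 3,.eqn 0 false,.eqn 1 false,.eqn 2 false,.eqn 1 true,.eqn 0 true,.edge 3],[]⟩,
⟨0,2,3,2,false,[.edge 4,.eqn 7 false,.eqn 8 true,.eqn 13 true,.edge 4],[]⟩,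
⟨0,3,3,2,false,[.edge 5,.eqn 14 false,.eqn 10 true,.edge 5],[]⟩,
⟨416,2,4,2,false,[.edge 5,.eqn 6 false,.eqn 15 false,.eqn 6 true,.edge 5],[]⟩,
⟨928,1,4,2,false,[.edge 4,.eqn 16 false,.eqn 14 false,.eqn 12 true,.eqn 16 true,.edge 4],[]⟩,
⟨0,0,0,3,false,[.edge 3,.eqn 17 true,.eqn 13 false,.edge 4,.eqn 16 true,.eqn 14 false,.edge 5],[]⟩,
⟨0,0,1,5,false,[.edge 3,.code,.eqn 17 false,.eqn 8 true,.edge 4,.code,.code],[]⟩,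
⟨0,3,3,1,true,[.edge 5,.eqn 19 false],[.eqn 18 false]⟩,
⟨0,1,3,2,false,[.edge 3,.eqn 0 false,.eqn 2 false,.edge 20],[]⟩]⟩

/-- Its last walk. -/
def m8 : List Move := [.edge 3,.eqn 21 true]

/-- A collapsing certificate. -/
def c9 : Cert := ⟨[⟨false,0,0⟩,⟨false,928,1⟩,⟨false,416,2⟩,⟨false,0,1⟩,⟨true,692,1⟩,⟨true,1632,5⟩,⟨false,4,5⟩,⟨false,416,7⟩,⟨true,24,8⟩,⟨true,416,9⟩,⟨true,1632,10⟩],[.edge 3,.code,.edge 4,.code,.edge 5],[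
⟨0,1,3,2,false,[.edge 3,.eqn 1 false,.eqn 0 false,.eqn 1 true,.edge 3],[]⟩,
⟨0,1,3,2,false,[.edge 3,.eqn 1 false,.eqn 2 false,.eqn 1 true,.edge 3],[]⟩,
⟨0,1,3,2,false,[.edge 3,.eqn 2 true,.eqn 1 false,.eqn 2 false,.edge 3],[]⟩,
⟨0,1,3,2,false,[.edge 3,.eqn 0 false,.eqn 1 false,.eqn 0 false,.eqn 1 true,.eqn 0 true,.edge 3],[]⟩,
⟨0,2,3,2,false,[.edge 4,.eqn 18 false,.edge 4],[]⟩,
⟨0,1,3,2,false,[.edge 3,.eqn 0 false,.eqn 1 false,.eqn 2 false,.eqn 1 true,.eqn 0 true,.edge 3],[]⟩,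
⟨0,0,0,2,true,[.edge 3,.edge 6],[]⟩,
⟨0,0,1,2,false,[.edge 3,.code],[.code,.code,.eqn 0 false,.edge 21]⟩,
⟨0,0,3,1,true,[.edge 21,.eqn 22 true],[]⟩,
⟨0,4,3,1,true,[.edge 6],[.eqn 22 true]⟩,
⟨0,0,2,21,false,[.code,.eqn 0 false,.edge 21,.eqn 22 true,.code,.edge 7,.code,.edge 8,.code,.edge 8,.code,.edge 9,.code,.edge 10,.code,.edge 11,.code,.edge 12,.code,.edge 13,.code,.edge 13,.code],[.edge 21,.eqn 22 true,.code,.eqn 17 false,.edge 7]⟩,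
⟨416,9,3,1,true,[.edge 12,.eqn 25 false],[]⟩,
⟨0,5,4,2,false,[.edge 7,.eqn 16 false,.edge 7],[]⟩,
⟨0,7,3,2,false,[.edge 9,.eqn 27 false,.edge 9],[]⟩,
⟨416,9,3,2,false,[.edge 26,.edge 9],[]⟩,
⟨24,8,3,1,true,[.edge 11,.eqn 29 true],[]⟩,
⟨0,5,4,2,false,[.edge 7,.eqn 18 false,.edge 7],[]⟩,
⟨0,7,3,2,false,[.edge 9,.eqn 31 false,.edge 9],[]⟩,
⟨0,8,3,2,false,[.edge 10,.eqn 28 true,.eqn 32 false,.edge 30],[]⟩,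
⟨0,1,2,15,false,[.code,.edge 24,.code,.eqn 16 false,.eqn 17 false,.edge 7,.code,.eqn 31 false,.edge 8,.code,.edge 8,.code,.edge 9,.code,.eqn 32 false,.edge 10,.code,.edge 11,.eqn 29 true,.code],[.edge 3,.code,.eqn 1 false,.edge 21,.eqn 22 true,.code,.eqn 16 false,.eqn 20 false,.edge 7,.code,.edge 7,.code,.edge 6,.eqn 22 true]⟩,
⟨0,8,3,1,true,[.edge 10,.eqn 34 false],[]⟩,
⟨0,2,3,2,false,[.edge 4,.eqn 15 false,.eqn 20 true,.edge 35],[]⟩,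
⟨181,8,5,0,false,[.eqn 33 false,.eqn 36 false],[.eqn 36 false]⟩,
⟨928,1,4,2,false,[.edge 4,.eqn 37 false,.eqn 19 false,.eqn 37 true,.edge 4],[]⟩,
⟨0,0,3,2,false,[.edge 23,.eqn 38 false,.edge 24],[]⟩]⟩

/-- Its last walk. -/
def m9 : List Move := [.edge 3,.eqn 39 false]

/-- A collapsing certificate. -/
def c10 : Cert := ⟨[⟨false,0,0⟩,⟨false,928,1⟩,⟨false,416,2⟩],[.edge 3,.code,.edge 4,.code,.edge 5],[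
⟨0,1,3,2,false,[.edge 3,.eqn 1 false,.eqn 0 false,.eqn 1 true,.edge 3],[]⟩,
⟨0,1,3,2,false,[.edge 3,.eqn 1 false,.eqn 2 false,.eqn 1 true,.edge 3],[]⟩,
⟨0,1,3,2,false,[.edge 3,.eqn 2 true,.eqn 1 false,.eqn 2 false,.edge 3],[]⟩,
⟨0,2,3,2,false,[.edge 4,.eqn 9 false,.eqn 8 true,.edge 4],[]⟩,
⟨0,1,3,2,false,[.edge 3,.eqn 0 false,.eqn 1 false,.eqn 2 false,.eqn 1 true,.eqn 0 true,.edge 3],[]⟩,
⟨0,2,3,2,false,[.edge 4,.eqn 7 false,.eqn 8 true,.eqn 11 true,.edge 4],[]⟩,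
⟨0,3,3,2,false,[.edge 5,.eqn 12 false,.eqn 10 true,.edge 5],[]⟩,
⟨416,2,4,2,false,[.edge 5,.eqn 6 false,.eqn 13 false,.eqn 6 true,.edge 5],[]⟩,
⟨928,1,4,2,false,[.edge 4,.eqn 14 false,.eqn 12 true,.eqn 10 false,.eqn 14 true,.edge 4],[]⟩,
⟨0,0,0,3,false,[.edge 3,.eqn 15 false,.eqn 11 false,.edge 4,.eqn 14 false,.eqn 10 true,.edge 5],[]⟩,
⟨0,0,1,5,false,[.edge 3,.code,.eqn 15 true,.eqn 8 false,.edge 4,.code,.code],[]⟩,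
⟨0,3,3,1,true,[.edge 5,.eqn 17 false],[.eqn 16 false]⟩,
⟨0,1,3,2,false,[.edge 3,.eqn 0 false,.eqn 2 false,.edge 18],[]⟩]⟩

/-- Its last walk. -/
def m10 : List Move := [.edge 3,.eqn 19 true]

/-- A collapsing certificate. -/
def c11 : Cert := ⟨[⟨false,0,0⟩,⟨false,928,1⟩,⟨false,416,2⟩],[.edge 3,.code,.edge 4,.code,.edge 5],[
⟨0,1,3,2,false,[.edge 3,.eqn 1 false,.eqn 0 false,.eqn 1 true,.edge 3],[]⟩,
⟨416,2,4,2,false,[.edge 5,.eqn 6 false,.edge 5],[]⟩,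
⟨0,1,3,2,false,[.edge 3,.eqn 1 false,.eqn 2 false,.eqn 1 true,.edge 3],[]⟩,
⟨0,1,3,2,false,[.edge 3,.eqn 2 true,.eqn 1 false,.eqn 2 false,.edge 3],[]⟩,
⟨0,2,3,2,false,[.edge 4,.eqn 10 false,.eqn 9 true,.edge 4],[]⟩,
⟨928,1,4,2,false,[.edge 4,.eqn 8 false,.eqn 11 true,.eqn 8 false,.eqn 11 false,.eqn 8 true,.edge 4],[]⟩,
⟨0,0,0,3,false,[.edge 3,.eqn 12 false,.eqn 9 true,.edge 4,.eqn 8 false,.eqn 11 true,.edge 5],[]⟩,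
⟨0,0,1,5,false,[.edge 3,.code,.eqn 12 false,.eqn 7 false,.eqn 9 true,.edge 4,.code,.code],[]⟩,
⟨0,3,3,1,true,[.edge 5,.eqn 14 false],[.eqn 13 false]⟩,
⟨0,1,3,2,false,[.edge 3,.eqn 0 false,.eqn 2 false,.edge 15],[]⟩]⟩

/-- Its last walk. -/
def m11 : List Move := [.edge 3,.eqn 16 true]

/-- A collapsing certificate. -/
def c12 : Cert := ⟨[⟨false,0,0⟩,⟨false,928,1⟩,⟨false,416,2⟩],[.edge 3,.code,.edge 4,.code,.edge 5],[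
⟨0,1,3,2,false,[.edge 3,.eqn 1 false,.eqn 0 false,.eqn 1 true,.edge 3],[]⟩,
⟨416,2,4,2,false,[.edge 5,.eqn 6 false,.edge 5],[]⟩,
⟨0,1,3,2,false,[.edge 3,.eqn 1 false,.eqn 2 false,.eqn 1 true,.edge 3],[]⟩,
⟨0,1,3,2,false,[.edge 3,.eqn 2 true,.eqn 1 false,.eqn 2 false,.edge 3],[]⟩,
⟨0,2,3,2,false,[.edge 4,.eqn 10 false,.eqn 9 true,.edge 4],[]⟩,
⟨928,1,4,2,false,[.edge 4,.eqn 8 false,.eqn 11 true,.eqn 8 false,.eqn 11 false,.eqn 8 true,.edge 4],[]⟩,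
⟨0,0,0,3,false,[.edge 3,.eqn 12 false,.eqn 7 false,.eqn 9 true,.edge 4,.eqn 8 false,.eqn 11 true,.edge 5],[]⟩,
⟨0,0,1,5,false,[.edge 3,.code,.eqn 12 false,.eqn 9 true,.edge 4,.code,.code],[]⟩,
⟨0,3,3,1,true,[.edge 5,.eqn 14 false],[.eqn 13 false]⟩,
⟨0,1,3,2,false,[.edge 3,.eqn 2 true,.edge 15],[]⟩]⟩

/-- Its last walk. -/
def m12 : List Move := [.edge 3,.eqn 16 true]

/-- A collapsing certificate. -/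
def c13 : Cert := ⟨[⟨false,0,0⟩,⟨false,928,1⟩,⟨false,416,2⟩],[.edge 3,.code,.edge 4,.code,.edge 5],[
⟨0,1,3,2,false,[.edge 3,.eqn 1 false,.eqn 0 false,.eqn 1 true,.edge 3],[]⟩,
⟨416,2,4,2,false,[.edge 5,.eqn 6 false,.edge 5],[]⟩,
⟨0,1,3,2,false,[.edge 3,.eqn 1 false,.eqn 2 false,.eqn 1 true,.edge 3],[]⟩,
⟨0,1,3,2,false,[.edge 3,.eqn 2 true,.eqn 1 false,.eqn 2 false,.edge 3],[]⟩,
⟨0,2,3,2,false,[.edge 4,.eqn 10 false,.eqn 9 true,.edge 4],[]⟩,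
⟨928,1,4,2,false,[.edge 4,.eqn 8 false,.eqn 11 false,.eqn 8 false,.eqn 11 true,.eqn 8 true,.edge 4],[]⟩,
⟨0,2,3,2,false,[.edge 4,.eqn 7 false,.eqn 12 false,.eqn 7 true,.edge 4],[]⟩,
⟨0,0,0,3,false,[.edge 3,.eqn 12 false,.eqn 10 false,.eqn 9 false,.edge 4,.eqn 8 false,.eqn 11 true,.eqn 8 false,.eqn 13 false,.eqn 11 true,.edge 5],[]⟩,
⟨0,0,1,5,false,[.edge 3,.code,.eqn 12 false,.eqn 7 false,.eqn 10 false,.eqn 9 false,.edge 4,.code,.code],[]⟩,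
⟨0,3,3,1,true,[.edge 5,.eqn 15 false],[.eqn 14 false]⟩,
⟨0,1,3,2,false,[.edge 3,.eqn 0 false,.eqn 1 false,.edge 16],[]⟩]⟩

/-- Its last walk. -/
def m13 : List Move := [.edge 3,.eqn 17 true]

/-- A collapsing certificate. -/
def c14 : Cert := ⟨[⟨false,0,0⟩,⟨false,928,1⟩,⟨false,416,2⟩],[.edge 3,.code,.edge 4,.code,.edge 5],[
⟨0,1,3,2,false,[.edge 3,.eqn 1 false,.eqn 0 false,.eqn 1 true,.edge 3],[]⟩,
⟨416,2,4,2,false,[.edge 5,.eqn 6 false,.edge 5],[]⟩,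
⟨0,1,3,2,false,[.edge 3,.eqn 1 false,.eqn 2 false,.eqn 1 true,.edge 3],[]⟩,
⟨0,1,3,2,false,[.edge 3,.eqn 2 true,.eqn 1 false,.eqn 2 false,.edge 3],[]⟩,
⟨0,2,3,2,false,[.edge 4,.eqn 10 false,.eqn 9 true,.edge 4],[]⟩,
⟨928,1,4,2,false,[.edge 4,.eqn 8 false,.eqn 11 false,.eqn 8 false,.eqn 11 true,.eqn 8 true,.edge 4],[]⟩,
⟨0,2,3,2,false,[.edge 4,.eqn 7 false,.eqn 12 false,.eqn 7 true,.edge 4],[]⟩,
⟨0,0,0,3,false,[.edge 3,.eqn 12 false,.eqn 7 false,.eqn 10 false,.eqn 9 false,.edge 4,.eqn 8 false,.eqn 13 false,.edge 5],[]⟩,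
⟨0,0,1,5,false,[.edge 3,.code,.eqn 12 false,.eqn 10 false,.eqn 9 false,.edge 4,.code,.code],[]⟩,
⟨0,3,3,1,true,[.edge 5,.eqn 15 false],[.eqn 14 false]⟩,
⟨0,1,3,2,false,[.edge 3,.eqn 2 true,.edge 16],[]⟩]⟩

/-- Its last walk. -/
def m14 : List Move := [.edge 3,.eqn 17 true]

/-- A collapsing certificate. -/
def c15 : Cert := ⟨[⟨false,0,0⟩,⟨false,928,1⟩,⟨false,416,2⟩],[.edge 3,.code,.edge 4,.code,.edge 5],[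
⟨0,1,3,2,false,[.edge 3,.eqn 1 false,.eqn 0 false,.eqn 1 true,.edge 3],[]⟩,
⟨416,2,4,2,false,[.edge 5,.eqn 6 false,.edge 5],[]⟩,
⟨0,1,3,2,false,[.edge 3,.eqn 1 false,.eqn 2 false,.eqn 1 true,.edge 3],[]⟩,
⟨0,1,3,2,false,[.edge 3,.eqn 2 true,.eqn 1 false,.eqn 2 false,.edge 3],[]⟩,
⟨0,2,3,2,false,[.edge 4,.eqn 10 false,.eqn 9 true,.edge 4],[]⟩,
⟨928,1,4,2,false,[.edge 4,.eqn 8 false,.eqn 11 true,.eqn 8 false,.eqn 11 false,.eqn 8 true,.edge 4],[]⟩,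
⟨0,2,3,2,false,[.edge 4,.eqn 7 false,.eqn 12 false,.eqn 7 true,.edge 4],[]⟩,
⟨0,0,0,3,false,[.edge 3,.eqn 12 false,.eqn 10 false,.eqn 9 false,.edge 4,.eqn 8 false,.eqn 13 false,.edge 5],[]⟩,
⟨0,0,1,5,false,[.edge 3,.code,.eqn 12 false,.eqn 7 false,.eqn 10 false,.eqn 9 false,.edge 4,.code,.code],[]⟩,
⟨0,3,3,1,true,[.edge 5,.eqn 15 false],[.eqn 14 false]⟩,
⟨0,1,3,2,false,[.edge 3,.eqn 2 true,.edge 16],[]⟩]⟩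

/-- Its last walk. -/
def m15 : List Move := [.edge 3,.eqn 17 true]

/-- A collapsing certificate. -/
def c16 : Cert := ⟨[⟨false,0,0⟩,⟨false,928,1⟩,⟨false,416,2⟩],[.edge 3,.code,.edge 4,.code,.edge 5],[
⟨0,1,3,2,false,[.edge 3,.eqn 1 false,.eqn 0 false,.eqn 1 true,.edge 3],[]⟩,
⟨416,2,4,2,false,[.edge 5,.eqn 6 false,.edge 5],[]⟩,
⟨0,1,3,2,false,[.edge 3,.eqn 1 false,.eqn 2 false,.eqn 1 true,.edge 3],[]⟩,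
⟨0,1,3,2,false,[.edge 3,.eqn 2 true,.eqn 1 false,.eqn 2 false,.edge 3],[]⟩,
⟨0,2,3,2,false,[.edge 4,.eqn 10 false,.eqn 9 true,.edge 4],[]⟩,
⟨928,1,4,2,false,[.edge 4,.eqn 8 false,.eqn 11 true,.eqn 8 false,.eqn 11 false,.eqn 8 true,.edge 4],[]⟩,
⟨0,2,3,2,false,[.edge 4,.eqn 7 false,.eqn 12 false,.eqn 7 true,.edge 4],[]⟩,
⟨0,0,0,3,false,[.edge 3,.eqn 12 false,.eqn 7 false,.eqn 10 false,.eqn 9 false,.edge 4,.eqn 8 false,.eqn 11 false,.eqn 8 false,.eqn 13 false,.eqn 11 false,.edge 5],[]⟩,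
⟨0,0,1,5,false,[.edge 3,.code,.eqn 12 false,.eqn 10 false,.eqn 9 false,.edge 4,.code,.code],[]⟩,
⟨0,3,3,1,true,[.edge 5,.eqn 15 false],[.eqn 14 false]⟩,
⟨0,1,3,2,false,[.edge 3,.eqn 1 false,.edge 16],[]⟩]⟩

/-- Its last walk. -/
def m16 : List Move := [.edge 3,.eqn 17 true]

/-- A collapsing certificate. -/
def c17 : Cert := ⟨[⟨false,0,0⟩,⟨false,928,1⟩,⟨false,416,2⟩],[.edge 3,.code,.edge 4,.code,.edge 5],[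
⟨0,1,3,2,false,[.edge 3,.eqn 1 false,.eqn 0 false,.eqn 1 true,.edge 3],[]⟩,
⟨416,2,4,2,false,[.edge 5,.eqn 6 false,.edge 5],[]⟩,
⟨0,1,3,2,false,[.edge 3,.eqn 1 false,.eqn 2 false,.eqn 1 true,.edge 3],[]⟩,
⟨0,1,3,2,false,[.edge 3,.eqn 2 true,.eqn 1 false,.eqn 2 false,.edge 3],[]⟩,
⟨0,2,3,2,false,[.edge 4,.eqn 10 false,.eqn 9 true,.edge 4],[]⟩,
⟨928,1,4,2,false,[.edge 4,.eqn 8 false,.eqn 11 false,.eqn 8 false,.eqn 11 true,.eqn 8 true,.edge 4],[]⟩,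
⟨0,0,0,3,false,[.edge 3,.eqn 12 false,.eqn 9 false,.edge 4,.eqn 8 false,.eqn 11 false,.edge 5],[]⟩,
⟨0,0,1,5,false,[.edge 3,.code,.eqn 12 false,.eqn 7 false,.eqn 9 false,.edge 4,.code,.code],[]⟩,
⟨0,3,3,1,true,[.edge 5,.eqn 14 false],[.eqn 13 false]⟩,
⟨0,1,3,2,false,[.edge 3,.eqn 0 false,.eqn 2 false,.eqn 1 false,.edge 15],[]⟩]⟩

/-- Its last walk. -/
def m17 : List Move := [.edge 3,.eqn 16 true]

/-- A collapsing certificate. -/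
def c18 : Cert := ⟨[⟨false,0,0⟩,⟨false,928,1⟩,⟨false,416,2⟩],[.edge 3,.code,.edge 4,.code,.edge 5],[
⟨0,1,3,2,false,[.edge 3,.eqn 1 false,.eqn 0 false,.eqn 1 true,.edge 3],[]⟩,
⟨416,2,4,2,false,[.edge 5,.eqn 6 false,.edge 5],[]⟩,
⟨0,1,3,2,false,[.edge 3,.eqn 1 false,.eqn 2 false,.eqn 1 true,.edge 3],[]⟩,
⟨0,1,3,2,false,[.edge 3,.eqn 2 true,.eqn 1 false,.eqn 2 false,.edge 3],[]⟩,
⟨0,2,3,2,false,[.edge 4,.eqn 10 false,.eqn 9 true,.edge 4],[]⟩,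
⟨928,1,4,2,false,[.edge 4,.eqn 8 false,.eqn 11 false,.eqn 8 false,.eqn 11 true,.eqn 8 true,.edge 4],[]⟩,
⟨0,0,0,3,false,[.edge 3,.eqn 12 false,.eqn 7 false,.eqn 9 false,.edge 4,.eqn 8 false,.eqn 11 false,.edge 5],[]⟩,
⟨0,0,1,5,false,[.edge 3,.code,.eqn 12 false,.eqn 9 false,.edge 4,.code,.code],[]⟩,
⟨0,3,3,1,true,[.edge 5,.eqn 14 false],[.eqn 13 false]⟩,
⟨0,1,3,2,false,[.edge 3,.eqn 2 true,.edge 15],[]⟩]⟩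

/-- Its last walk. -/
def m18 : List Move := [.edge 3,.eqn 16 true]

/-- A collapsing certificate. -/
def c19 : Cert := ⟨[⟨false,0,0⟩,⟨false,928,1⟩,⟨false,416,2⟩],[.edge 3,.code,.edge 4,.code,.edge 5],[
⟨0,1,3,2,false,[.edge 3,.eqn 1 false,.eqn 0 false,.eqn 1 true,.edge 3],[]⟩,
⟨416,2,4,2,false,[.edge 5,.eqn 6 false,.edge 5],[]⟩,
⟨0,1,3,2,false,[.edge 3,.eqn 1 false,.eqn 2 false,.eqn 1 true,.edge 3],[]⟩,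
⟨0,1,3,2,false,[.edge 3,.eqn 2 true,.eqn 1 false,.eqn 2 false,.edge 3],[]⟩,
⟨0,2,3,2,false,[.edge 4,.eqn 10 false,.eqn 9 true,.edge 4],[]⟩,
⟨0,1,3,2,false,[.edge 3,.eqn 0 false,.eqn 1 false,.eqn 0 false,.eqn 1 true,.eqn 0 true,.edge 3],[]⟩,
⟨0,2,3,2,false,[.edge 4,.eqn 12 false,.edge 4],[]⟩,
⟨928,1,4,2,false,[.edge 4,.eqn 8 false,.eqn 13 false,.eqn 8 false,.eqn 13 false,.eqn 8 true,.eqn 13 true,.eqn 8 true,.edge 4],[]⟩,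
⟨0,2,3,2,false,[.edge 4,.eqn 9 false,.eqn 14 false,.eqn 9 true,.eqn 7 true,.edge 4],[]⟩,
⟨928,1,4,2,false,[.edge 4,.eqn 8 false,.eqn 15 false,.eqn 11 false,.eqn 8 true,.eqn 15 true,.eqn 8 true,.edge 4],[]⟩,
⟨0,0,0,3,false,[.edge 3,.eqn 16 false,.eqn 10 false,.eqn 9 false,.edge 4,.eqn 8 false,.eqn 15 false,.eqn 11 true,.edge 5],[]⟩,
⟨0,0,1,5,false,[.edge 3,.code,.eqn 14 false,.eqn 16 false,.eqn 10 false,.eqn 9 false,.edge 4,.code,.code],[]⟩,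
⟨0,3,3,1,true,[.edge 5,.eqn 18 false],[.eqn 17 false]⟩,
⟨0,1,3,2,false,[.edge 3,.eqn 2 true,.edge 19],[]⟩]⟩

/-- Its last walk. -/
def m19 : List Move := [.edge 3,.eqn 20 true]

/-- A collapsing certificate. -/
def c20 : Cert := ⟨[⟨false,0,0⟩,⟨false,928,1⟩,⟨false,416,2⟩],[.edge 3,.code,.edge 4,.code,.edge 5],[
⟨0,1,3,2,false,[.edge 3,.eqn 1 false,.eqn 0 false,.eqn 1 true,.edge 3],[]⟩,
⟨416,2,4,2,false,[.edge 5,.eqn 6 false,.edge 5],[]⟩,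
⟨0,1,3,2,false,[.edge 3,.eqn 1 false,.eqn 2 false,.eqn 1 true,.edge 3],[]⟩,
⟨0,1,3,2,false,[.edge 3,.eqn 2 true,.eqn 1 false,.eqn 2 false,.edge 3],[]⟩,
⟨0,2,3,2,false,[.edge 4,.eqn 10 false,.eqn 9 true,.edge 4],[]⟩,
⟨0,1,3,2,false,[.edge 3,.eqn 0 false,.eqn 1 false,.eqn 0 false,.eqn 1 true,.eqn 0 true,.edge 3],[]⟩,
⟨0,2,3,2,false,[.edge 4,.eqn 12 false,.edge 4],[]⟩,
⟨928,1,4,2,false,[.edge 4,.eqn 8 false,.eqn 13 false,.eqn 8 false,.eqn 13 false,.eqn 8 true,.eqn 13 true,.eqn 8 true,.edge 4],[]⟩,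
⟨0,2,3,2,false,[.edge 4,.eqn 9 false,.eqn 14 false,.eqn 9 true,.eqn 7 true,.edge 4],[]⟩,
⟨928,1,4,2,false,[.edge 4,.eqn 8 false,.eqn 15 false,.eqn 11 false,.eqn 8 true,.eqn 15 true,.eqn 8 true,.edge 4],[]⟩,
⟨0,0,0,3,false,[.edge 3,.eqn 14 false,.eqn 16 false,.eqn 10 false,.eqn 9 false,.edge 4,.eqn 8 false,.eqn 15 false,.eqn 11 true,.edge 5],[]⟩,
⟨0,0,1,5,false,[.edge 3,.code,.eqn 16 false,.eqn 10 false,.eqn 9 false,.edge 4,.code,.code],[]⟩,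
⟨0,3,3,1,true,[.edge 5,.eqn 18 false],[.eqn 17 false]⟩,
⟨0,1,3,2,false,[.edge 3,.eqn 0 false,.eqn 2 true,.edge 19],[]⟩]⟩

/-- Its last walk. -/
def m20 : List Move := [.edge 3,.eqn 20 true]

/-- A collapsing certificate. -/
def c21 : Cert := ⟨[⟨false,0,0⟩,⟨false,928,1⟩,⟨false,416,2⟩],[.edge 3,.code,.edge 4,.code,.edge 5],[
⟨0,1,3,2,false,[.edge 3,.eqn 1 false,.eqn 0 false,.eqn 1 true,.edge 3],[]⟩,
⟨416,2,4,2,false,[.edge 5,.eqn 6 false,.edge 5],[]⟩,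
⟨0,1,3,2,false,[.edge 3,.eqn 1 false,.eqn 2 false,.eqn 1 true,.edge 3],[]⟩,
⟨0,1,3,2,false,[.edge 3,.eqn 2 true,.eqn 1 false,.eqn 2 false,.edge 3],[]⟩,
⟨0,2,3,2,false,[.edge 4,.eqn 10 false,.eqn 9 true,.edge 4],[]⟩,
⟨928,1,4,2,false,[.edge 4,.eqn 8 false,.eqn 11 true,.eqn 8 false,.eqn 11 false,.eqn 8 true,.edge 4],[]⟩,
⟨0,2,3,2,false,[.edge 4,.eqn 7 false,.eqn 12 false,.eqn 7 true,.edge 4],[]⟩,
⟨0,0,0,3,false,[.edge 3,.eqn 12 false,.eqn 9 true,.edge 4,.eqn 8 false,.eqn 11 false,.eqn 8 false,.eqn 13 false,.edge 5],[]⟩,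
⟨0,0,1,5,false,[.edge 3,.code,.eqn 12 false,.eqn 7 false,.eqn 9 true,.edge 4,.code,.code],[]⟩,
⟨0,3,3,1,true,[.edge 5,.eqn 15 false],[.eqn 14 false]⟩,
⟨0,1,3,2,false,[.edge 3,.eqn 0 false,.eqn 2 false,.edge 16],[]⟩]⟩

/-- Its last walk. -/
def m21 : List Move := [.edge 3,.eqn 17 true]

/-- A collapsing certificate. -/
def c22 : Cert := ⟨[⟨false,0,0⟩,⟨false,928,1⟩,⟨false,416,2⟩],[.edge 3,.code,.edge 4,.code,.edge 5],[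
⟨0,1,3,2,false,[.edge 3,.eqn 1 false,.eqn 0 false,.eqn 1 true,.edge 3],[]⟩,
⟨416,2,4,2,false,[.edge 5,.eqn 6 false,.edge 5],[]⟩,
⟨0,1,3,2,false,[.edge 3,.eqn 1 false,.eqn 2 false,.eqn 1 true,.edge 3],[]⟩,
⟨0,1,3,2,false,[.edge 3,.eqn 2 true,.eqn 1 false,.eqn 2 false,.edge 3],[]⟩,
⟨0,2,3,2,false,[.edge 4,.eqn 10 false,.eqn 9 true,.edge 4],[]⟩,
⟨928,1,4,2,false,[.edge 4,.eqn 8 false,.eqn 11 true,.eqn 8 false,.eqn 11 false,.eqn 8 true,.edge 4],[]⟩,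
⟨0,2,3,2,false,[.edge 4,.eqn 7 false,.eqn 12 false,.eqn 7 true,.edge 4],[]⟩,
⟨0,0,0,3,false,[.edge 3,.eqn 12 false,.eqn 7 false,.eqn 9 true,.edge 4,.eqn 8 false,.eqn 13 false,.eqn 11 false,.edge 5],[]⟩,
⟨0,0,1,5,false,[.edge 3,.code,.eqn 12 false,.eqn 9 true,.edge 4,.code,.code],[]⟩,
⟨0,3,3,1,true,[.edge 5,.eqn 15 false],[.eqn 14 false]⟩,
⟨0,1,3,2,false,[.edge 3,.eqn 2 true,.edge 16],[]⟩]⟩

/-- Its last walk. -/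
def m22 : List Move := [.edge 3,.eqn 17 true]

/-- A collapsing certificate. -/
def c23 : Cert := ⟨[⟨false,0,0⟩,⟨false,928,1⟩,⟨false,416,2⟩],[.edge 3,.code,.edge 4,.code,.edge 5],[
⟨0,1,3,2,false,[.edge 3,.eqn 1 false,.eqn 0 false,.eqn 1 true,.edge 3],[]⟩,
⟨416,2,4,2,false,[.edge 5,.eqn 6 false,.edge 5],[]⟩,
⟨0,1,3,2,false,[.edge 3,.eqn 1 false,.eqn 2 false,.eqn 1 true,.edge 3],[]⟩,
⟨0,1,3,2,false,[.edge 3,.eqn 2 true,.eqn 1 false,.eqn 2 false,.edge 3],[]⟩,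
⟨0,2,3,2,false,[.edge 4,.eqn 10 false,.eqn 9 true,.edge 4],[]⟩,
⟨928,1,4,2,false,[.edge 4,.eqn 8 false,.eqn 11 false,.eqn 8 true,.edge 4],[]⟩,
⟨0,2,3,2,false,[.edge 4,.eqn 7 false,.eqn 12 false,.eqn 7 true,.edge 4],[]⟩,
⟨0,0,0,3,false,[.edge 3,.eqn 12 false,.eqn 9 true,.edge 4,.eqn 8 false,.eqn 13 false,.eqn 11 true,.edge 5],[]⟩,
⟨0,0,1,5,false,[.edge 3,.code,.eqn 12 true,.eqn 9 false,.edge 4,.code,.code],[]⟩,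
⟨0,3,3,1,true,[.edge 5,.eqn 15 false],[.eqn 14 false]⟩,
⟨0,1,3,2,false,[.edge 3,.eqn 1 false,.edge 16],[]⟩]⟩

/-- Its last walk. -/
def m23 : List Move := [.edge 3,.eqn 17 true]

/-- A collapsing certificate. -/
def c24 : Cert := ⟨[⟨false,0,0⟩,⟨false,928,1⟩,⟨false,416,2⟩],[.edge 3,.code,.edge 4,.code,.edge 5],[
⟨0,1,3,2,false,[.edge 3,.eqn 1 false,.eqn 0 false,.eqn 1 true,.edge 3],[]⟩,
⟨416,2,4,2,false,[.edge 5,.eqn 6 false,.edge 5],[]⟩,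
⟨0,1,3,2,false,[.edge 3,.eqn 1 false,.eqn 2 false,.eqn 1 true,.edge 3],[]⟩,
⟨0,1,3,2,false,[.edge 3,.eqn 2 true,.eqn 1 false,.eqn 2 false,.edge 3],[]⟩,
⟨0,2,3,2,false,[.edge 4,.eqn 10 false,.eqn 9 true,.edge 4],[]⟩,
⟨928,1,4,2,false,[.edge 4,.eqn 8 false,.eqn 11 false,.eqn 8 true,.edge 4],[]⟩,
⟨0,2,3,2,false,[.edge 4,.eqn 7 false,.eqn 12 false,.eqn 7 true,.edge 4],[]⟩,
⟨0,0,0,3,false,[.edge 3,.eqn 12 false,.eqn 9 true,.edge 4,.eqn 8 false,.eqn 13 false,.eqn 11 true,.edge 5],[]⟩,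
⟨0,0,1,5,false,[.edge 3,.code,.eqn 12 true,.eqn 9 false,.edge 4,.code,.code],[]⟩,
⟨0,3,3,1,true,[.edge 5,.eqn 15 false],[.eqn 14 false]⟩,
⟨0,1,3,2,false,[.edge 3,.eqn 1 false,.edge 16],[]⟩]⟩

/-- Its last walk. -/
def m24 : List Move := [.edge 3,.eqn 17 true]

/-- A collapsing certificate. -/
def c25 : Cert := ⟨[⟨false,0,0⟩,⟨false,928,1⟩,⟨false,416,2⟩],[.edge 3,.code,.edge 4,.code,.edge 5],[
⟨0,1,3,2,false,[.edge 3,.eqn 1 false,.eqn 0 false,.eqn 1 true,.edge 3],[]⟩,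
⟨416,2,4,2,false,[.edge 5,.eqn 6 false,.edge 5],[]⟩,
⟨0,1,3,2,false,[.edge 3,.eqn 1 false,.eqn 2 false,.eqn 1 true,.edge 3],[]⟩,
⟨0,1,3,2,false,[.edge 3,.eqn 2 true,.eqn 1 false,.eqn 2 false,.edge 3],[]⟩,
⟨0,2,3,2,false,[.edge 4,.eqn 10 false,.eqn 9 true,.edge 4],[]⟩,
⟨928,1,4,2,false,[.edge 4,.eqn 8 false,.eqn 11 true,.eqn 8 false,.eqn 11 false,.eqn 8 true,.edge 4],[]⟩,
⟨0,0,0,3,false,[.edge 3,.eqn 12 false,.eqn 7 false,.eqn 10 false,.eqn 9 false,.edge 4,.eqn 8 false,.eqn 11 true,.edge 5],[]⟩,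
⟨0,0,1,5,false,[.edge 3,.code,.eqn 12 false,.eqn 10 false,.eqn 9 false,.edge 4,.code,.code],[]⟩,
⟨0,3,3,1,true,[.edge 5,.eqn 14 false],[.eqn 13 false]⟩,
⟨0,1,3,2,false,[.edge 3,.eqn 1 false,.edge 15],[]⟩]⟩

/-- Its last walk. -/
def m25 : List Move := [.edge 3,.eqn 16 true]

/-- A collapsing certificate. -/
def c26 : Cert := ⟨[⟨false,0,0⟩,⟨false,928,1⟩,⟨false,416,2⟩],[.edge 3,.code,.edge 4,.code,.edge 5],[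
⟨0,1,3,2,false,[.edge 3,.eqn 1 false,.eqn 0 false,.eqn 1 true,.edge 3],[]⟩,
⟨416,2,4,2,false,[.edge 5,.eqn 6 false,.edge 5],[]⟩,
⟨0,1,3,2,false,[.edge 3,.eqn 1 false,.eqn 2 false,.eqn 1 true,.edge 3],[]⟩,
⟨0,1,3,2,false,[.edge 3,.eqn 2 true,.eqn 1 false,.eqn 2 false,.edge 3],[]⟩,
⟨0,2,3,2,false,[.edge 4,.eqn 10 false,.eqn 9 true,.edge 4],[]⟩,
⟨928,1,4,2,false,[.edge 4,.eqn 8 false,.eqn 11 true,.eqn 8 false,.eqn 11 false,.eqn 8 true,.edge 4],[]⟩,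
⟨0,0,0,3,false,[.edge 3,.eqn 12 false,.eqn 10 false,.eqn 9 false,.edge 4,.eqn 8 false,.eqn 11 true,.edge 5],[]⟩,
⟨0,0,1,5,false,[.edge 3,.code,.eqn 12 false,.eqn 7 false,.eqn 10 false,.eqn 9 false,.edge 4,.code,.code],[]⟩,
⟨0,3,3,1,true,[.edge 5,.eqn 14 false],[.eqn 13 false]⟩,
⟨0,1,3,2,false,[.edge 3,.eqn 2 true,.edge 15],[]⟩]⟩

/-- Its last walk. -/
def m26 : List Move := [.edge 3,.eqn 16 true]

/-- A collapsing certificate. -/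
def c27 : Cert := ⟨[⟨false,0,0⟩,⟨false,928,1⟩,⟨false,416,2⟩],[.edge 3,.code,.edge 4,.code,.edge 5],[
⟨0,1,3,2,false,[.edge 3,.eqn 1 false,.eqn 0 false,.eqn 1 true,.edge 3],[]⟩,
⟨416,2,4,2,false,[.edge 5,.eqn 6 false,.edge 5],[]⟩,
⟨0,1,3,2,false,[.edge 3,.eqn 1 false,.eqn 2 false,.eqn 1 true,.edge 3],[]⟩,
⟨0,1,3,2,false,[.edge 3,.eqn 2 true,.eqn 1 false,.eqn 2 false,.edge 3],[]⟩,
⟨0,2,3,2,false,[.edge 4,.eqn 10 false,.eqn 9 true,.edge 4],[]⟩,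
⟨928,1,4,2,false,[.edge 4,.eqn 8 false,.eqn 11 false,.eqn 8 false,.eqn 11 true,.eqn 8 true,.edge 4],[]⟩,
⟨0,0,0,3,false,[.edge 3,.eqn 12 false,.eqn 10 false,.eqn 9 false,.edge 4,.eqn 8 false,.eqn 11 false,.edge 5],[]⟩,
⟨0,0,1,5,false,[.edge 3,.code,.eqn 12 false,.eqn 7 false,.eqn 10 false,.eqn 9 false,.edge 4,.code,.code],[]⟩,
⟨0,3,3,1,true,[.edge 5,.eqn 14 false],[.eqn 13 false]⟩,
⟨0,1,3,2,false,[.edge 3,.eqn 0 false,.eqn 1 false,.edge 15],[]⟩]⟩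

/-- Its last walk. -/
def m27 : List Move := [.edge 3,.eqn 16 true]

/-- A collapsing certificate. -/
def c28 : Cert := ⟨[⟨false,0,0⟩,⟨false,928,1⟩,⟨false,416,2⟩],[.edge 3,.code,.edge 4,.code,.edge 5],[
⟨0,1,3,2,false,[.edge 3,.eqn 1 false,.eqn 0 false,.eqn 1 true,.edge 3],[]⟩,
⟨416,2,4,2,false,[.edge 5,.eqn 6 false,.edge 5],[]⟩,
⟨0,1,3,2,false,[.edge 3,.eqn 1 false,.eqn 2 false,.eqn 1 true,.edge 3],[]⟩,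
⟨0,1,3,2,false,[.edge 3,.eqn 2 true,.eqn 1 false,.eqn 2 false,.edge 3],[]⟩,
⟨0,2,3,2,false,[.edge 4,.eqn 10 false,.eqn 9 true,.edge 4],[]⟩,
⟨928,1,4,2,false,[.edge 4,.eqn 8 false,.eqn 11 false,.eqn 8 false,.eqn 11 true,.eqn 8 true,.edge 4],[]⟩,
⟨0,0,0,3,false,[.edge 3,.eqn 12 false,.eqn 7 false,.eqn 10 false,.eqn 9 false,.edge 4,.eqn 8 false,.eqn 11 false,.edge 5],[]⟩,
⟨0,0,1,5,false,[.edge 3,.code,.eqn 12 false,.eqn 10 false,.eqn 9 false,.edge 4,.code,.code],[]⟩,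
⟨0,3,3,1,true,[.edge 5,.eqn 14 false],[.eqn 13 false]⟩,
⟨0,1,3,2,false,[.edge 3,.eqn 2 true,.edge 15],[]⟩]⟩

/-- Its last walk. -/
def m28 : List Move := [.edge 3,.eqn 16 true]

/-- A collapsing certificate. -/
def c29 : Cert := ⟨[⟨false,0,0⟩,⟨false,928,1⟩,⟨false,416,2⟩],[.edge 3,.code,.edge 4,.code,.edge 5],[
⟨0,1,3,2,false,[.edge 3,.eqn 1 false,.eqn 0 false,.eqn 1 true,.edge 3],[]⟩,
⟨416,2,4,2,false,[.edge 5,.eqn 6 false,.edge 5],[]⟩,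
⟨0,1,3,2,false,[.edge 3,.eqn 1 false,.eqn 2 false,.eqn 1 true,.edge 3],[]⟩,
⟨0,1,3,2,false,[.edge 3,.eqn 2 true,.eqn 1 false,.eqn 2 false,.edge 3],[]⟩,
⟨0,2,3,2,false,[.edge 4,.eqn 10 false,.eqn 9 true,.edge 4],[]⟩,
⟨928,1,4,2,false,[.edge 4,.eqn 8 false,.eqn 11 false,.eqn 8 true,.edge 4],[]⟩,
⟨0,2,3,2,false,[.edge 4,.eqn 7 false,.eqn 12 false,.eqn 7 true,.edge 4],[]⟩,
⟨0,0,0,3,false,[.edge 3,.eqn 12 false,.eqn 9 true,.edge 4,.eqn 8 false,.eqn 13 true,.eqn 11 false,.edge 5],[]⟩,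
⟨0,0,1,5,false,[.edge 3,.code,.eqn 12 true,.eqn 9 false,.edge 4,.code,.code],[]⟩,
⟨0,3,3,1,true,[.edge 5,.eqn 15 false],[.eqn 14 false]⟩,
⟨0,1,3,2,false,[.edge 3,.eqn 1 false,.edge 16],[]⟩]⟩

/-- Its last walk. -/
def m29 : List Move := [.edge 3,.eqn 17 true]

/-- A collapsing certificate. -/
def c30 : Cert := ⟨[⟨false,0,0⟩,⟨false,928,1⟩,⟨false,416,2⟩],[.edge 3,.code,.edge 4,.code,.edge 5],[
⟨0,1,3,2,false,[.edge 3,.eqn 1 false,.eqn 0 false,.eqn 1 true,.edge 3],[]⟩,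
⟨416,2,4,2,false,[.edge 5,.eqn 6 false,.edge 5],[]⟩,
⟨0,1,3,2,false,[.edge 3,.eqn 1 false,.eqn 2 false,.eqn 1 true,.edge 3],[]⟩,
⟨0,1,3,2,false,[.edge 3,.eqn 2 true,.eqn 1 false,.eqn 2 false,.edge 3],[]⟩,
⟨0,2,3,2,false,[.edge 4,.eqn 10 false,.eqn 9 true,.edge 4],[]⟩,
⟨928,1,4,2,false,[.edge 4,.eqn 8 false,.eqn 11 false,.eqn 8 true,.edge 4],[]⟩,
⟨0,2,3,2,false,[.edge 4,.eqn 7 false,.eqn 12 false,.eqn 7 true,.edge 4],[]⟩,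
⟨0,0,0,3,false,[.edge 3,.eqn 12 false,.eqn 9 true,.edge 4,.eqn 8 false,.eqn 13 true,.eqn 11 false,.edge 5],[]⟩,
⟨0,0,1,5,false,[.edge 3,.code,.eqn 12 true,.eqn 9 false,.edge 4,.code,.code],[]⟩,
⟨0,3,3,1,true,[.edge 5,.eqn 15 false],[.eqn 14 false]⟩,
⟨0,1,3,2,false,[.edge 3,.eqn 1 false,.edge 16],[]⟩]⟩

/-- Its last walk. -/
def m30 : List Move := [.edge 3,.eqn 17 true]

/-- A collapsing certificate. -/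
def c31 : Cert := ⟨[⟨false,0,0⟩,⟨false,928,1⟩,⟨false,416,2⟩],[.edge 3,.code,.edge 4,.code,.edge 5],[
⟨0,1,3,2,false,[.edge 3,.eqn 1 false,.eqn 0 false,.eqn 1 true,.edge 3],[]⟩,
⟨416,2,4,2,false,[.edge 5,.eqn 6 false,.edge 5],[]⟩,
⟨0,1,3,2,false,[.edge 3,.eqn 1 false,.eqn 2 false,.eqn 1 true,.edge 3],[]⟩,
⟨0,1,3,2,false,[.edge 3,.eqn 2 true,.eqn 1 false,.eqn 2 false,.edge 3],[]⟩,
⟨0,2,3,2,false,[.edge 4,.eqn 10 false,.eqn 9 true,.edge 4],[]⟩,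
⟨928,1,4,2,false,[.edge 4,.eqn 8 false,.eqn 11 false,.eqn 8 false,.eqn 11 true,.eqn 8 true,.edge 4],[]⟩,
⟨0,2,3,2,false,[.edge 4,.eqn 7 false,.eqn 12 false,.eqn 7 true,.edge 4],[]⟩,
⟨0,0,0,3,false,[.edge 3,.eqn 12 false,.eqn 7 false,.eqn 9 false,.edge 4,.eqn 8 false,.eqn 11 true,.eqn 8 false,.eqn 13 false,.edge 5],[]⟩,
⟨0,0,1,5,false,[.edge 3,.code,.eqn 12 false,.eqn 9 false,.edge 4,.code,.code],[]⟩,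
⟨0,3,3,1,true,[.edge 5,.eqn 15 false],[.eqn 14 false]⟩,
⟨0,1,3,2,false,[.edge 3,.eqn 2 true,.edge 16],[]⟩]⟩

/-- Its last walk. -/
def m31 : List Move := [.edge 3,.eqn 17 true]

/-- The certificates of this file. -/
def list0 : List (ℕ × Cert × List Move) := [(1,c0,m0),(2,c1,m1),(4,c2,m2),(8,c3,m3),(15,c4,m4),(16,c5,m5),(17,c6,m6),(18,c7,m7),(20,c8,m8),(24,c9,m9),(31,c10,m10),(96,c11,m11),(97,c12,m12),(102,c13,m13),(103,c14,m14),(112,c15,m15),(113,c16,m16),(118,c17,m17),(119,c18,m18),(256,c19,m19),(257,c20,m20),(266,c21,m21),(267,c22,m22),(272,c23,m23),(273,c24,m24),(282,c25,m25),(283,c26,m26),(352,c27,m27),(353,c28,m28),(364,c29,m29),(365,c30,m30),(368,c31,m31)]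

end Cfsg.Agent.J2Uniq.CData
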