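import Cfsg.Agent.Lib.J2Uniq.Cert

/-!
Certificates for involutions which lead to a collapse.
-/

set_option autoImplicit false
set_option maxRecDepth 100000
set_option maxHeartbeats 4000000

namespace Cfsg.Agent.J2Uniq.CData

/-- A collapsing certificate. -/
def c32 : Cert := ⟨[⟨false,0,0⟩,⟨false,928,1⟩,⟨false,416,2⟩],[.edge 3,.code,.edge 4,.code,.edge 5],[
⟨0,1,3,2,false,[.edge 3,.eqn 1 false,.eqn 0 false,.eqn 1 true,.edge 3],[]⟩,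
⟨416,2,4,2,false,[.edge 5,.eqn 6 false,.edge 5],[]⟩,
⟨0,1,3,2,false,[.edge 3,.eqn 1 false,.eqn 2 false,.eqn 1 true,.edge 3],[]⟩,
⟨0,1,3,2,false,[.edge 3,.eqn 2 true,.eqn 1 false,.eqn 2 false,.edge 3],[]⟩,
⟨0,2,3,2,false,[.edge 4,.eqn 10 false,.eqn 9 true,.edge 4],[]⟩,
⟨928,1,4,2,false,[.edge 4,.eqn 8 false,.eqn 11 false,.eqn 8 false,.eqn 11 true,.eqn 8 true,.edge 4],[]⟩,
⟨0,2,3,2,false,[.edge 4,.eqn 7 false,.eqn 12 false,.eqn 7 true,.edge 4],[]⟩,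
⟨0,0,0,3,false,[.edge 3,.eqn 12 false,.eqn 9 false,.edge 4,.eqn 8 false,.eqn 13 false,.eqn 11 true,.edge 5],[]⟩,
⟨0,0,1,5,false,[.edge 3,.code,.eqn 12 false,.eqn 7 false,.eqn 9 false,.edge 4,.code,.code],[]⟩,
⟨0,3,3,1,true,[.edge 5,.eqn 15 false],[.eqn 14 false]⟩,
⟨0,1,3,2,false,[.edge 3,.eqn 0 false,.eqn 2 false,.eqn 1 false,.edge 16],[]⟩]⟩

/-- Its last walk. -/
def m32 : List Move := [.edge 3,.eqn 17 true]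

/-- A collapsing certificate. -/
def c33 : Cert := ⟨[⟨false,0,0⟩,⟨false,928,1⟩,⟨false,416,2⟩],[.edge 3,.code,.edge 4,.code,.edge 5],[
⟨0,1,3,2,false,[.edge 3,.eqn 1 false,.eqn 0 false,.eqn 1 true,.edge 3],[]⟩,
⟨416,2,4,2,false,[.edge 5,.eqn 6 false,.edge 5],[]⟩,
⟨0,1,3,2,false,[.edge 3,.eqn 1 false,.eqn 2 false,.eqn 1 true,.edge 3],[]⟩,
⟨0,1,3,2,false,[.edge 3,.eqn 2 true,.eqn 1 false,.eqn 2 false,.edge 3],[]⟩,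
⟨0,2,3,2,false,[.edge 4,.eqn 10 false,.eqn 9 true,.edge 4],[]⟩,
⟨0,1,3,2,false,[.edge 3,.eqn 0 false,.eqn 1 false,.eqn 0 false,.eqn 1 true,.eqn 0 true,.edge 3],[]⟩,
⟨0,2,3,2,false,[.edge 4,.eqn 12 false,.edge 4],[]⟩,
⟨928,1,4,2,false,[.edge 4,.eqn 8 false,.eqn 13 false,.eqn 8 false,.eqn 13 false,.eqn 8 true,.eqn 13 true,.eqn 8 true,.edge 4],[]⟩,
⟨0,2,3,2,false,[.edge 4,.eqn 9 false,.eqn 14 false,.eqn 9 true,.eqn 7 true,.edge 4],[]⟩,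
⟨928,1,4,2,false,[.edge 4,.eqn 8 false,.eqn 15 false,.eqn 11 false,.eqn 8 true,.eqn 15 true,.eqn 8 true,.edge 4],[]⟩,
⟨0,0,0,3,false,[.edge 3,.eqn 14 false,.eqn 16 false,.eqn 10 false,.eqn 9 false,.edge 4,.eqn 8 false,.eqn 15 true,.eqn 11 true,.edge 5],[]⟩,
⟨0,0,1,5,false,[.edge 3,.code,.eqn 16 false,.eqn 10 false,.eqn 9 false,.edge 4,.code,.code],[]⟩,
⟨0,3,3,1,true,[.edge 5,.eqn 18 false],[.eqn 17 false]⟩,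
⟨0,1,3,2,false,[.edge 3,.eqn 0 false,.eqn 2 true,.edge 19],[]⟩]⟩

/-- Its last walk. -/
def m33 : List Move := [.edge 3,.eqn 20 true]

/-- A collapsing certificate. -/
def c34 : Cert := ⟨[⟨false,0,0⟩,⟨false,928,1⟩,⟨false,416,2⟩],[.edge 3,.code,.edge 4,.code,.edge 5],[
⟨0,1,3,2,false,[.edge 3,.eqn 1 false,.eqn 0 false,.eqn 1 true,.edge 3],[]⟩,
⟨416,2,4,2,false,[.edge 5,.eqn 6 false,.edge 5],[]⟩,
⟨0,1,3,2,false,[.edge 3,.eqn 1 false,.eqn 2 false,.eqn 1 true,.edge 3],[]⟩,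
⟨0,1,3,2,false,[.edge 3,.eqn 2 true,.eqn 1 false,.eqn 2 false,.edge 3],[]⟩,
⟨0,2,3,2,false,[.edge 4,.eqn 10 false,.eqn 9 true,.edge 4],[]⟩,
⟨0,1,3,2,false,[.edge 3,.eqn 0 false,.eqn 1 false,.eqn 0 false,.eqn 1 true,.eqn 0 true,.edge 3],[]⟩,
⟨0,2,3,2,false,[.edge 4,.eqn 12 false,.edge 4],[]⟩,
⟨928,1,4,2,false,[.edge 4,.eqn 8 false,.eqn 13 false,.eqn 8 false,.eqn 13 false,.eqn 8 true,.eqn 13 true,.eqn 8 true,.edge 4],[]⟩,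
⟨0,2,3,2,false,[.edge 4,.eqn 9 false,.eqn 14 false,.eqn 9 true,.eqn 7 true,.edge 4],[]⟩,
⟨928,1,4,2,false,[.edge 4,.eqn 8 false,.eqn 15 false,.eqn 11 false,.eqn 8 true,.eqn 15 true,.eqn 8 true,.edge 4],[]⟩,
⟨0,0,0,3,false,[.edge 3,.eqn 16 false,.eqn 10 false,.eqn 9 false,.edge 4,.eqn 8 false,.eqn 15 true,.eqn 11 true,.edge 5],[]⟩,
⟨0,0,1,5,false,[.edge 3,.code,.eqn 14 false,.eqn 16 false,.eqn 10 false,.eqn 9 false,.edge 4,.code,.code],[]⟩,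
⟨0,3,3,1,true,[.edge 5,.eqn 18 false],[.eqn 17 false]⟩,
⟨0,1,3,2,false,[.edge 3,.eqn 2 true,.edge 19],[]⟩]⟩

/-- Its last walk. -/
def m34 : List Move := [.edge 3,.eqn 20 true]

/-- A collapsing certificate. -/
def c35 : Cert := ⟨[⟨false,0,0⟩,⟨false,928,1⟩,⟨false,416,2⟩],[.edge 3,.code,.edge 4,.code,.edge 5],[
⟨0,1,3,2,false,[.edge 3,.eqn 1 false,.eqn 0 false,.eqn 1 true,.edge 3],[]⟩,
⟨0,1,3,2,false,[.edge 3,.eqn 1 false,.eqn 2 false,.eqn 1 true,.edge 3],[]⟩,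
⟨0,1,3,2,false,[.edge 3,.eqn 2 true,.eqn 1 false,.eqn 2 false,.edge 3],[]⟩,
⟨0,2,3,2,false,[.edge 4,.eqn 9 false,.eqn 8 true,.edge 4],[]⟩,
⟨0,1,3,2,false,[.edge 3,.eqn 0 false,.eqn 1 false,.eqn 0 false,.eqn 1 true,.eqn 0 true,.edge 3],[]⟩,
⟨0,2,3,2,false,[.edge 4,.eqn 11 false,.edge 4],[]⟩,
⟨0,1,3,2,false,[.edge 3,.eqn 0 false,.eqn 1 false,.eqn 2 false,.eqn 1 true,.eqn 0 true,.edge 3],[]⟩,
⟨0,2,3,2,false,[.edge 4,.eqn 7 false,.eqn 8 true,.eqn 13 true,.edge 4],[]⟩,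
⟨0,3,3,2,false,[.edge 5,.eqn 14 false,.eqn 10 true,.edge 5],[]⟩,
⟨416,2,4,2,false,[.edge 5,.eqn 6 false,.eqn 15 true,.eqn 6 false,.eqn 15 false,.eqn 6 true,.edge 5],[]⟩,
⟨928,1,4,2,false,[.edge 4,.eqn 16 false,.eqn 14 false,.eqn 16 false,.eqn 14 true,.eqn 16 true,.edge 4],[]⟩,
⟨0,0,0,3,false,[.edge 3,.eqn 17 false,.eqn 13 true,.edge 4,.eqn 16 false,.eqn 12 false,.eqn 14 false,.edge 5],[]⟩,
⟨0,0,1,5,false,[.edge 3,.code,.eqn 17 false,.eqn 8 false,.edge 4,.code,.code],[]⟩,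
⟨0,3,3,1,true,[.edge 5,.eqn 19 false],[.eqn 18 false]⟩,
⟨0,1,3,2,false,[.edge 3,.eqn 0 false,.eqn 2 true,.edge 20],[]⟩]⟩

/-- Its last walk. -/
def m35 : List Move := [.edge 3,.eqn 21 true]

/-- A collapsing certificate. -/
def c36 : Cert := ⟨[⟨false,0,0⟩,⟨false,928,1⟩,⟨false,416,2⟩],[.edge 3,.code,.edge 4,.code,.edge 5],[
⟨0,1,3,2,false,[.edge 3,.eqn 1 false,.eqn 0 false,.eqn 1 true,.edge 3],[]⟩,
⟨0,1,3,2,false,[.edge 3,.eqn 1 false,.eqn 2 false,.eqn 1 true,.edge 3],[]⟩,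
⟨0,1,3,2,false,[.edge 3,.eqn 2 true,.eqn 1 false,.eqn 2 false,.edge 3],[]⟩,
⟨0,2,3,2,false,[.edge 4,.eqn 9 false,.eqn 8 true,.edge 4],[]⟩,
⟨0,1,3,2,false,[.edge 3,.eqn 0 false,.eqn 1 false,.eqn 0 false,.eqn 1 true,.eqn 0 true,.edge 3],[]⟩,
⟨0,2,3,2,false,[.edge 4,.eqn 11 false,.edge 4],[]⟩,
⟨0,1,3,2,false,[.edge 3,.eqn 0 false,.eqn 1 false,.eqn 2 false,.eqn 1 true,.eqn 0 true,.edge 3],[]⟩,
⟨0,2,3,2,false,[.edge 4,.eqn 7 false,.eqn 8 true,.eqn 13 true,.edge 4],[]⟩,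
⟨0,3,3,2,false,[.edge 5,.eqn 14 false,.eqn 10 true,.edge 5],[]⟩,
⟨416,2,4,2,false,[.edge 5,.eqn 6 false,.eqn 15 true,.eqn 6 false,.eqn 15 false,.eqn 6 true,.edge 5],[]⟩,
⟨928,1,4,2,false,[.edge 4,.eqn 16 false,.eqn 14 false,.eqn 16 false,.eqn 14 true,.eqn 16 true,.edge 4],[]⟩,
⟨0,0,0,3,false,[.edge 3,.eqn 17 false,.eqn 13 true,.edge 4,.eqn 16 false,.eqn 12 false,.eqn 14 false,.edge 5],[]⟩,
⟨0,0,1,5,false,[.edge 3,.code,.eqn 17 false,.eqn 8 false,.edge 4,.code,.code],[]⟩,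
⟨0,3,3,1,true,[.edge 5,.eqn 19 false],[.eqn 18 false]⟩,
⟨0,1,3,2,false,[.edge 3,.eqn 0 false,.eqn 2 true,.edge 20],[]⟩]⟩

/-- Its last walk. -/
def m36 : List Move := [.edge 3,.eqn 21 true]

/-- A collapsing certificate. -/
def c37 : Cert := ⟨[⟨false,0,0⟩,⟨false,928,1⟩,⟨false,416,2⟩],[.edge 3,.code,.edge 4,.code,.edge 5],[
⟨0,1,3,2,false,[.edge 3,.eqn 1 false,.eqn 0 false,.eqn 1 true,.edge 3],[]⟩,
⟨0,1,3,2,false,[.edge 3,.eqn 1 false,.eqn 2 false,.eqn 1 true,.edge 3],[]⟩,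
⟨0,1,3,2,false,[.edge 3,.eqn 2 true,.eqn 1 false,.eqn 2 false,.edge 3],[]⟩,
⟨0,2,3,2,false,[.edge 4,.eqn 9 false,.eqn 8 true,.edge 4],[]⟩,
⟨0,1,3,2,false,[.edge 3,.eqn 0 false,.eqn 1 false,.eqn 0 false,.eqn 1 true,.eqn 0 true,.edge 3],[]⟩,
⟨0,2,3,2,false,[.edge 4,.eqn 11 false,.edge 4],[]⟩,
⟨0,1,3,2,false,[.edge 3,.eqn 0 false,.eqn 1 false,.eqn 2 false,.eqn 1 true,.eqn 0 true,.edge 3],[]⟩,
⟨0,2,3,2,false,[.edge 4,.eqn 7 false,.eqn 8 true,.eqn 13 true,.edge 4],[]⟩,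
⟨0,3,3,2,false,[.edge 5,.eqn 14 false,.eqn 10 true,.edge 5],[]⟩,
⟨416,2,4,2,false,[.edge 5,.eqn 6 false,.eqn 15 true,.eqn 6 false,.eqn 15 false,.eqn 6 true,.edge 5],[]⟩,
⟨928,1,4,2,false,[.edge 4,.eqn 16 false,.eqn 10 false,.eqn 16 false,.eqn 14 true,.eqn 16 true,.edge 4],[]⟩,
⟨0,0,0,3,false,[.edge 3,.eqn 17 false,.eqn 8 false,.edge 4,.eqn 16 false,.eqn 10 true,.eqn 12 false,.edge 5],[]⟩,
⟨0,0,1,5,false,[.edge 3,.code,.eqn 17 false,.eqn 13 true,.edge 4,.code,.code],[]⟩,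
⟨0,3,3,1,true,[.edge 5,.eqn 19 false],[.eqn 18 false]⟩,
⟨0,1,3,2,false,[.edge 3,.eqn 2 true,.edge 20],[]⟩]⟩

/-- Its last walk. -/
def m37 : List Move := [.edge 3,.eqn 21 true]

/-- A collapsing certificate. -/
def c38 : Cert := ⟨[⟨false,0,0⟩,⟨false,928,1⟩,⟨false,416,2⟩],[.edge 3,.code,.edge 4,.code,.edge 5],[
⟨0,1,3,2,false,[.edge 3,.eqn 1 false,.eqn 0 false,.eqn 1 true,.edge 3],[]⟩,
⟨0,1,3,2,false,[.edge 3,.eqn 1 false,.eqn 2 false,.eqn 1 true,.edge 3],[]⟩,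
⟨0,1,3,2,false,[.edge 3,.eqn 2 true,.eqn 1 false,.eqn 2 false,.edge 3],[]⟩,
⟨0,2,3,2,false,[.edge 4,.eqn 9 false,.eqn 8 true,.edge 4],[]⟩,
⟨0,1,3,2,false,[.edge 3,.eqn 0 false,.eqn 1 false,.eqn 2 false,.eqn 1 true,.eqn 0 true,.edge 3],[]⟩,
⟨0,2,3,2,false,[.edge 4,.eqn 7 false,.eqn 8 true,.eqn 11 true,.edge 4],[]⟩,
⟨0,3,3,2,false,[.edge 5,.eqn 12 false,.eqn 10 true,.edge 5],[]⟩,
⟨416,2,4,2,false,[.edge 5,.eqn 6 false,.eqn 13 true,.eqn 6 false,.eqn 13 false,.eqn 6 true,.edge 5],[]⟩,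
⟨928,1,4,2,false,[.edge 4,.eqn 14 false,.eqn 12 true,.eqn 10 false,.eqn 14 true,.edge 4],[]⟩,
⟨0,0,0,3,false,[.edge 3,.eqn 15 false,.eqn 11 false,.edge 4,.eqn 14 false,.eqn 10 true,.edge 5],[]⟩,
⟨0,0,1,5,false,[.edge 3,.code,.eqn 15 true,.eqn 11 true,.edge 4,.code,.code],[]⟩,
⟨0,3,3,1,true,[.edge 5,.eqn 17 false],[.eqn 16 false]⟩,
⟨0,1,3,2,false,[.edge 3,.eqn 0 false,.eqn 1 false,.edge 18],[]⟩]⟩

/-- Its last walk. -/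
def m38 : List Move := [.edge 3,.eqn 19 true]

/-- A collapsing certificate. -/
def c39 : Cert := ⟨[⟨false,0,0⟩,⟨false,928,1⟩,⟨false,416,2⟩],[.edge 3,.code,.edge 4,.code,.edge 5],[
⟨0,1,3,2,false,[.edge 3,.eqn 1 false,.eqn 0 false,.eqn 1 true,.edge 3],[]⟩,
⟨0,1,3,2,false,[.edge 3,.eqn 1 false,.eqn 2 false,.eqn 1 true,.edge 3],[]⟩,
⟨0,1,3,2,false,[.edge 3,.eqn 2 true,.eqn 1 false,.eqn 2 false,.edge 3],[]⟩,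
⟨0,2,3,2,false,[.edge 4,.eqn 9 false,.eqn 8 true,.edge 4],[]⟩,
⟨0,1,3,2,false,[.edge 3,.eqn 0 false,.eqn 1 false,.eqn 2 false,.eqn 1 true,.eqn 0 true,.edge 3],[]⟩,
⟨0,2,3,2,false,[.edge 4,.eqn 7 false,.eqn 8 true,.eqn 11 true,.edge 4],[]⟩,
⟨0,3,3,2,false,[.edge 5,.eqn 12 false,.eqn 10 true,.edge 5],[]⟩,
⟨416,2,4,2,false,[.edge 5,.eqn 6 false,.eqn 13 true,.eqn 6 false,.eqn 13 false,.eqn 6 true,.edge 5],[]⟩,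
⟨928,1,4,2,false,[.edge 4,.eqn 14 false,.eqn 10 false,.eqn 14 true,.edge 4],[]⟩,
⟨0,0,0,3,false,[.edge 3,.eqn 15 false,.eqn 8 true,.edge 4,.eqn 14 false,.eqn 12 false,.edge 5],[]⟩,
⟨0,0,1,5,false,[.edge 3,.code,.eqn 15 true,.eqn 8 false,.edge 4,.code,.code],[]⟩,
⟨0,3,3,1,true,[.edge 5,.eqn 17 false],[.eqn 16 false]⟩,
⟨0,1,3,2,false,[.edge 3,.eqn 1 false,.edge 18],[]⟩]⟩

/-- Its last walk. -/
def m39 : List Move := [.edge 3,.eqn 19 true]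

/-- A collapsing certificate. -/
def c40 : Cert := ⟨[⟨false,0,0⟩,⟨false,928,1⟩,⟨false,416,2⟩],[.edge 3,.code,.edge 4,.code,.edge 5],[
⟨0,1,3,2,false,[.edge 3,.eqn 1 false,.eqn 0 false,.eqn 1 true,.edge 3],[]⟩,
⟨0,1,3,2,false,[.edge 3,.eqn 1 false,.eqn 2 false,.eqn 1 true,.edge 3],[]⟩,
⟨0,1,3,2,false,[.edge 3,.eqn 2 true,.eqn 1 false,.eqn 2 false,.edge 3],[]⟩,
⟨0,2,3,2,false,[.edge 4,.eqn 9 false,.eqn 8 true,.edge 4],[]⟩,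
⟨0,1,3,2,false,[.edge 3,.eqn 0 false,.eqn 1 false,.eqn 2 false,.eqn 1 true,.eqn 0 true,.edge 3],[]⟩,
⟨0,2,3,2,false,[.edge 4,.eqn 7 false,.eqn 8 true,.eqn 11 true,.edge 4],[]⟩,
⟨0,3,3,2,false,[.edge 5,.eqn 12 false,.eqn 10 true,.edge 5],[]⟩,
⟨416,2,4,2,false,[.edge 5,.eqn 6 false,.eqn 13 true,.eqn 6 false,.eqn 13 false,.eqn 6 true,.edge 5],[]⟩,
⟨928,1,4,2,false,[.edge 4,.eqn 14 false,.eqn 10 false,.eqn 14 true,.edge 4],[]⟩,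
⟨0,0,0,3,false,[.edge 3,.eqn 15 false,.eqn 8 true,.edge 4,.eqn 14 false,.eqn 12 false,.edge 5],[]⟩,
⟨0,0,1,5,false,[.edge 3,.code,.eqn 15 true,.eqn 8 false,.edge 4,.code,.code],[]⟩,
⟨0,3,3,1,true,[.edge 5,.eqn 17 false],[.eqn 16 false]⟩,
⟨0,1,3,2,false,[.edge 3,.eqn 1 false,.edge 18],[]⟩]⟩

/-- Its last walk. -/
def m40 : List Move := [.edge 3,.eqn 19 true]

/-- A collapsing certificate. -/
def c41 : Cert := ⟨[⟨false,0,0⟩,⟨false,928,1⟩,⟨false,416,2⟩],[.edge 3,.code,.edge 4,.code,.edge 5],[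
⟨0,1,3,2,false,[.edge 3,.eqn 1 false,.eqn 0 false,.eqn 1 true,.edge 3],[]⟩,
⟨0,1,3,2,false,[.edge 3,.eqn 1 false,.eqn 2 false,.eqn 1 true,.edge 3],[]⟩,
⟨0,1,3,2,false,[.edge 3,.eqn 2 true,.eqn 1 false,.eqn 2 false,.edge 3],[]⟩,
⟨0,2,3,2,false,[.edge 4,.eqn 9 false,.eqn 8 true,.edge 4],[]⟩,
⟨0,1,3,2,false,[.edge 3,.eqn 0 false,.eqn 1 false,.eqn 2 false,.eqn 1 true,.eqn 0 true,.edge 3],[]⟩,
⟨0,2,3,2,false,[.edge 4,.eqn 7 false,.eqn 8 true,.eqn 11 true,.edge 4],[]⟩,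
⟨0,3,3,2,false,[.edge 5,.eqn 12 false,.eqn 10 true,.edge 5],[]⟩,
⟨416,2,4,2,false,[.edge 5,.eqn 6 false,.eqn 13 true,.eqn 6 false,.eqn 13 false,.eqn 6 true,.edge 5],[]⟩,
⟨928,1,4,2,false,[.edge 4,.eqn 14 false,.eqn 12 true,.eqn 10 false,.eqn 14 true,.edge 4],[]⟩,
⟨0,0,0,3,false,[.edge 3,.eqn 15 false,.eqn 11 false,.edge 4,.eqn 14 false,.eqn 10 true,.edge 5],[]⟩,
⟨0,0,1,5,false,[.edge 3,.code,.eqn 15 true,.eqn 11 true,.edge 4,.code,.code],[]⟩,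
⟨0,3,3,1,true,[.edge 5,.eqn 17 false],[.eqn 16 false]⟩,
⟨0,1,3,2,false,[.edge 3,.eqn 0 false,.eqn 1 false,.edge 18],[]⟩]⟩

/-- Its last walk. -/
def m41 : List Move := [.edge 3,.eqn 19 true]

/-- A collapsing certificate. -/
def c42 : Cert := ⟨[⟨false,0,0⟩,⟨false,928,1⟩,⟨false,416,2⟩],[.edge 3,.code,.edge 4,.code,.edge 5],[
⟨0,1,3,2,false,[.edge 3,.eqn 1 false,.eqn 0 false,.eqn 1 true,.edge 3],[]⟩,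
⟨0,1,3,2,false,[.edge 3,.eqn 1 false,.eqn 2 false,.eqn 1 true,.edge 3],[]⟩,
⟨0,1,3,2,false,[.edge 3,.eqn 2 true,.eqn 1 false,.eqn 2 false,.edge 3],[]⟩,
⟨0,2,3,2,false,[.edge 4,.eqn 9 false,.eqn 8 true,.edge 4],[]⟩,
⟨0,1,3,2,false,[.edge 3,.eqn 0 false,.eqn 1 false,.eqn 0 false,.eqn 1 true,.eqn 0 true,.edge 3],[]⟩,
⟨0,2,3,2,false,[.edge 4,.eqn 11 false,.edge 4],[]⟩,
⟨0,1,3,2,false,[.edge 3,.eqn 0 false,.eqn 1 false,.eqn 2 false,.eqn 1 true,.eqn 0 true,.edge 3],[]⟩,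
⟨0,2,3,2,false,[.edge 4,.eqn 7 false,.eqn 8 true,.eqn 13 true,.edge 4],[]⟩,
⟨0,3,3,2,false,[.edge 5,.eqn 14 false,.eqn 10 true,.edge 5],[]⟩,
⟨416,2,4,2,false,[.edge 5,.eqn 6 false,.eqn 15 true,.eqn 6 false,.eqn 15 false,.eqn 6 true,.edge 5],[]⟩,
⟨928,1,4,2,false,[.edge 4,.eqn 16 false,.eqn 10 false,.eqn 16 false,.eqn 14 true,.eqn 16 true,.edge 4],[]⟩,
⟨0,0,0,3,false,[.edge 3,.eqn 17 false,.eqn 8 false,.edge 4,.eqn 16 false,.eqn 10 true,.eqn 12 false,.edge 5],[]⟩,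
⟨0,0,1,5,false,[.edge 3,.code,.eqn 17 false,.eqn 13 true,.edge 4,.code,.code],[]⟩,
⟨0,3,3,1,true,[.edge 5,.eqn 19 false],[.eqn 18 false]⟩,
⟨0,1,3,2,false,[.edge 3,.eqn 2 true,.edge 20],[]⟩]⟩

/-- Its last walk. -/
def m42 : List Move := [.edge 3,.eqn 21 true]

/-- A collapsing certificate. -/
def c43 : Cert := ⟨[⟨false,0,0⟩,⟨false,928,1⟩,⟨false,416,2⟩],[.edge 3,.code,.edge 4,.code,.edge 5],[
⟨0,1,3,2,false,[.edge 3,.eqn 1 false,.eqn 0 false,.eqn 1 true,.edge 3],[]⟩,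
⟨0,1,3,2,false,[.edge 3,.eqn 1 false,.eqn 2 false,.eqn 1 true,.edge 3],[]⟩,
⟨0,1,3,2,false,[.edge 3,.eqn 2 true,.eqn 1 false,.eqn 2 false,.edge 3],[]⟩,
⟨0,2,3,2,false,[.edge 4,.eqn 9 false,.eqn 8 true,.edge 4],[]⟩,
⟨0,1,3,2,false,[.edge 3,.eqn 0 false,.eqn 1 false,.eqn 2 false,.eqn 1 true,.eqn 0 true,.edge 3],[]⟩,
⟨0,2,3,2,false,[.edge 4,.eqn 7 false,.eqn 8 true,.eqn 11 true,.edge 4],[]⟩,
⟨0,3,3,2,false,[.edge 5,.eqn 12 false,.eqn 10 true,.edge 5],[]⟩,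
⟨416,2,4,2,false,[.edge 5,.eqn 6 false,.eqn 13 false,.eqn 6 false,.eqn 13 true,.eqn 6 true,.edge 5],[]⟩,
⟨928,1,4,2,false,[.edge 4,.eqn 14 false,.eqn 12 true,.eqn 10 false,.eqn 14 true,.edge 4],[]⟩,
⟨0,0,0,3,false,[.edge 3,.eqn 15 false,.eqn 11 false,.edge 4,.eqn 14 false,.eqn 10 true,.edge 5],[]⟩,
⟨0,0,1,5,false,[.edge 3,.code,.eqn 15 true,.eqn 11 true,.edge 4,.code,.code],[]⟩,
⟨0,3,3,1,true,[.edge 5,.eqn 17 false],[.eqn 16 false]⟩,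
⟨0,1,3,2,false,[.edge 3,.eqn 0 false,.eqn 1 false,.edge 18],[]⟩]⟩

/-- Its last walk. -/
def m43 : List Move := [.edge 3,.eqn 19 true]

/-- A collapsing certificate. -/
def c44 : Cert := ⟨[⟨false,0,0⟩,⟨false,928,1⟩,⟨false,416,2⟩],[.edge 3,.code,.edge 4,.code,.edge 5],[
⟨0,1,3,2,false,[.edge 3,.eqn 1 false,.eqn 0 false,.eqn 1 true,.edge 3],[]⟩,
⟨0,1,3,2,false,[.edge 3,.eqn 1 false,.eqn 2 false,.eqn 1 true,.edge 3],[]⟩,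
⟨0,1,3,2,false,[.edge 3,.eqn 2 true,.eqn 1 false,.eqn 2 false,.edge 3],[]⟩,
⟨0,2,3,2,false,[.edge 4,.eqn 9 false,.eqn 8 true,.edge 4],[]⟩,
⟨0,1,3,2,false,[.edge 3,.eqn 0 false,.eqn 1 false,.eqn 2 false,.eqn 1 true,.eqn 0 true,.edge 3],[]⟩,
⟨0,2,3,2,false,[.edge 4,.eqn 7 false,.eqn 8 true,.eqn 11 true,.edge 4],[]⟩,
⟨0,3,3,2,false,[.edge 5,.eqn 12 false,.eqn 10 true,.edge 5],[]⟩,
⟨416,2,4,2,false,[.edge 5,.eqn 6 false,.eqn 13 false,.eqn 6 false,.eqn 13 true,.eqn 6 true,.edge 5],[]⟩,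
⟨928,1,4,2,false,[.edge 4,.eqn 14 false,.eqn 12 true,.eqn 10 false,.eqn 14 true,.edge 4],[]⟩,
⟨0,0,0,3,false,[.edge 3,.eqn 15 false,.eqn 11 false,.edge 4,.eqn 14 false,.eqn 10 true,.edge 5],[]⟩,
⟨0,0,1,5,false,[.edge 3,.code,.eqn 15 true,.eqn 11 true,.edge 4,.code,.code],[]⟩,
⟨0,3,3,1,true,[.edge 5,.eqn 17 false],[.eqn 16 false]⟩,
⟨0,1,3,2,false,[.edge 3,.eqn 0 false,.eqn 1 false,.edge 18],[]⟩]⟩

/-- Its last walk. -/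
def m44 : List Move := [.edge 3,.eqn 19 true]

/-- A collapsing certificate. -/
def c45 : Cert := ⟨[⟨false,0,0⟩,⟨false,928,1⟩,⟨false,416,2⟩],[.edge 3,.code,.edge 4,.code,.edge 5],[
⟨0,1,3,2,false,[.edge 3,.eqn 1 false,.eqn 0 false,.eqn 1 true,.edge 3],[]⟩,
⟨0,1,3,2,false,[.edge 3,.eqn 1 false,.eqn 2 false,.eqn 1 true,.edge 3],[]⟩,
⟨0,1,3,2,false,[.edge 3,.eqn 2 true,.eqn 1 false,.eqn 2 false,.edge 3],[]⟩,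
⟨0,2,3,2,false,[.edge 4,.eqn 9 false,.eqn 8 true,.edge 4],[]⟩,
⟨0,1,3,2,false,[.edge 3,.eqn 0 false,.eqn 1 false,.eqn 0 false,.eqn 1 true,.eqn 0 true,.edge 3],[]⟩,
⟨0,2,3,2,false,[.edge 4,.eqn 11 false,.edge 4],[]⟩,
⟨0,1,3,2,false,[.edge 3,.eqn 0 false,.eqn 1 false,.eqn 2 false,.eqn 1 true,.eqn 0 true,.edge 3],[]⟩,
⟨0,2,3,2,false,[.edge 4,.eqn 7 false,.eqn 8 true,.eqn 13 true,.edge 4],[]⟩,
⟨0,3,3,2,false,[.edge 5,.eqn 14 false,.eqn 10 true,.edge 5],[]⟩,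
⟨416,2,4,2,false,[.edge 5,.eqn 6 false,.eqn 15 false,.eqn 6 false,.eqn 15 true,.eqn 6 true,.edge 5],[]⟩,
⟨928,1,4,2,false,[.edge 4,.eqn 16 false,.eqn 14 false,.eqn 16 false,.eqn 14 true,.eqn 16 true,.edge 4],[]⟩,
⟨0,0,0,3,false,[.edge 3,.eqn 17 false,.eqn 13 true,.edge 4,.eqn 16 false,.eqn 12 false,.eqn 14 false,.edge 5],[]⟩,
⟨0,0,1,5,false,[.edge 3,.code,.eqn 17 false,.eqn 8 false,.edge 4,.code,.code],[]⟩,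
⟨0,3,3,1,true,[.edge 5,.eqn 19 false],[.eqn 18 false]⟩,
⟨0,1,3,2,false,[.edge 3,.eqn 0 false,.eqn 2 true,.edge 20],[]⟩]⟩

/-- Its last walk. -/
def m45 : List Move := [.edge 3,.eqn 21 true]

/-- A collapsing certificate. -/
def c46 : Cert := ⟨[⟨false,0,0⟩,⟨false,928,1⟩,⟨false,416,2⟩],[.edge 3,.code,.edge 4,.code,.edge 5],[
⟨0,1,3,2,false,[.edge 3,.eqn 1 false,.eqn 0 false,.eqn 1 true,.edge 3],[]⟩,
⟨0,1,3,2,false,[.edge 3,.eqn 1 false,.eqn 2 false,.eqn 1 true,.edge 3],[]⟩,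
⟨0,1,3,2,false,[.edge 3,.eqn 2 true,.eqn 1 false,.eqn 2 false,.edge 3],[]⟩,
⟨0,2,3,2,false,[.edge 4,.eqn 9 false,.eqn 8 true,.edge 4],[]⟩,
⟨0,1,3,2,false,[.edge 3,.eqn 0 false,.eqn 1 false,.eqn 0 false,.eqn 1 true,.eqn 0 true,.edge 3],[]⟩,
⟨0,2,3,2,false,[.edge 4,.eqn 11 false,.edge 4],[]⟩,
⟨0,1,3,2,false,[.edge 3,.eqn 0 false,.eqn 1 false,.eqn 2 false,.eqn 1 true,.eqn 0 true,.edge 3],[]⟩,
⟨0,2,3,2,false,[.edge 4,.eqn 7 false,.eqn 8 true,.eqn 13 true,.edge 4],[]⟩,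
⟨0,3,3,2,false,[.edge 5,.eqn 14 false,.eqn 10 true,.edge 5],[]⟩,
⟨416,2,4,2,false,[.edge 5,.eqn 6 false,.eqn 15 false,.eqn 6 false,.eqn 15 true,.eqn 6 true,.edge 5],[]⟩,
⟨928,1,4,2,false,[.edge 4,.eqn 16 false,.eqn 14 false,.eqn 16 false,.eqn 14 true,.eqn 16 true,.edge 4],[]⟩,
⟨0,0,0,3,false,[.edge 3,.eqn 17 false,.eqn 13 true,.edge 4,.eqn 16 false,.eqn 12 false,.eqn 14 false,.edge 5],[]⟩,
⟨0,0,1,5,false,[.edge 3,.code,.eqn 17 false,.eqn 8 false,.edge 4,.code,.code],[]⟩,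
⟨0,3,3,1,true,[.edge 5,.eqn 19 false],[.eqn 18 false]⟩,
⟨0,1,3,2,false,[.edge 3,.eqn 0 false,.eqn 2 true,.edge 20],[]⟩]⟩

/-- Its last walk. -/
def m46 : List Move := [.edge 3,.eqn 21 true]

/-- A collapsing certificate. -/
def c47 : Cert := ⟨[⟨false,0,0⟩,⟨false,928,1⟩,⟨false,416,2⟩],[.edge 3,.code,.edge 4,.code,.edge 5],[
⟨0,1,3,2,false,[.edge 3,.eqn 1 false,.eqn 0 false,.eqn 1 true,.edge 3],[]⟩,
⟨0,1,3,2,false,[.edge 3,.eqn 1 false,.eqn 2 false,.eqn 1 true,.edge 3],[]⟩,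
⟨0,1,3,2,false,[.edge 3,.eqn 2 true,.eqn 1 false,.eqn 2 false,.edge 3],[]⟩,
⟨0,2,3,2,false,[.edge 4,.eqn 9 false,.eqn 8 true,.edge 4],[]⟩,
⟨0,1,3,2,false,[.edge 3,.eqn 0 false,.eqn 1 false,.eqn 0 false,.eqn 1 true,.eqn 0 true,.edge 3],[]⟩,
⟨0,2,3,2,false,[.edge 4,.eqn 11 false,.edge 4],[]⟩,
⟨0,1,3,2,false,[.edge 3,.eqn 0 false,.eqn 1 false,.eqn 2 false,.eqn 1 true,.eqn 0 true,.edge 3],[]⟩,
⟨0,2,3,2,false,[.edge 4,.eqn 7 false,.eqn 8 true,.eqn 13 true,.edge 4],[]⟩,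
⟨0,3,3,2,false,[.edge 5,.eqn 14 false,.eqn 10 true,.edge 5],[]⟩,
⟨416,2,4,2,false,[.edge 5,.eqn 6 false,.eqn 15 false,.eqn 6 false,.eqn 15 true,.eqn 6 true,.edge 5],[]⟩,
⟨928,1,4,2,false,[.edge 4,.eqn 16 false,.eqn 10 false,.eqn 16 false,.eqn 14 true,.eqn 16 true,.edge 4],[]⟩,
⟨0,0,0,3,false,[.edge 3,.eqn 17 false,.eqn 8 false,.edge 4,.eqn 16 false,.eqn 10 true,.eqn 12 false,.edge 5],[]⟩,
⟨0,0,1,5,false,[.edge 3,.code,.eqn 17 false,.eqn 13 true,.edge 4,.code,.code],[]⟩,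
⟨0,3,3,1,true,[.edge 5,.eqn 19 false],[.eqn 18 false]⟩,
⟨0,1,3,2,false,[.edge 3,.eqn 2 true,.edge 20],[]⟩]⟩

/-- Its last walk. -/
def m47 : List Move := [.edge 3,.eqn 21 true]

/-- A collapsing certificate. -/
def c48 : Cert := ⟨[⟨false,0,0⟩,⟨false,928,1⟩,⟨false,416,2⟩],[.edge 3,.code,.edge 4,.code,.edge 5],[
⟨0,1,3,2,false,[.edge 3,.eqn 1 false,.eqn 0 false,.eqn 1 true,.edge 3],[]⟩,
⟨0,1,3,2,false,[.edge 3,.eqn 1 false,.eqn 2 false,.eqn 1 true,.edge 3],[]⟩,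
⟨0,1,3,2,false,[.edge 3,.eqn 2 true,.eqn 1 false,.eqn 2 false,.edge 3],[]⟩,
⟨0,2,3,2,false,[.edge 4,.eqn 9 false,.eqn 8 true,.edge 4],[]⟩,
⟨0,1,3,2,false,[.edge 3,.eqn 0 false,.eqn 1 false,.eqn 0 false,.eqn 1 true,.eqn 0 true,.edge 3],[]⟩,
⟨0,2,3,2,false,[.edge 4,.eqn 11 false,.edge 4],[]⟩,
⟨0,1,3,2,false,[.edge 3,.eqn 0 false,.eqn 1 false,.eqn 2 false,.eqn 1 true,.eqn 0 true,.edge 3],[]⟩,
⟨0,2,3,2,false,[.edge 4,.eqn 7 false,.eqn 8 true,.eqn 13 true,.edge 4],[]⟩,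
⟨0,3,3,2,false,[.edge 5,.eqn 14 false,.eqn 10 true,.edge 5],[]⟩,
⟨416,2,4,2,false,[.edge 5,.eqn 6 false,.eqn 15 false,.eqn 6 false,.eqn 15 true,.eqn 6 true,.edge 5],[]⟩,
⟨928,1,4,2,false,[.edge 4,.eqn 16 false,.eqn 10 false,.eqn 16 false,.eqn 14 true,.eqn 16 true,.edge 4],[]⟩,
⟨0,0,0,3,false,[.edge 3,.eqn 17 false,.eqn 8 false,.edge 4,.eqn 16 false,.eqn 10 true,.eqn 12 false,.edge 5],[]⟩,
⟨0,0,1,5,false,[.edge 3,.code,.eqn 17 false,.eqn 13 true,.edge 4,.code,.code],[]⟩,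
⟨0,3,3,1,true,[.edge 5,.eqn 19 false],[.eqn 18 false]⟩,
⟨0,1,3,2,false,[.edge 3,.eqn 2 true,.edge 20],[]⟩]⟩

/-- Its last walk. -/
def m48 : List Move := [.edge 3,.eqn 21 true]

/-- A collapsing certificate. -/
def c49 : Cert := ⟨[⟨false,0,0⟩,⟨false,928,1⟩,⟨false,416,2⟩],[.edge 3,.code,.edge 4,.code,.edge 5],[
⟨0,1,3,2,false,[.edge 3,.eqn 1 false,.eqn 0 false,.eqn 1 true,.edge 3],[]⟩,
⟨0,1,3,2,false,[.edge 3,.eqn 1 false,.eqn 2 false,.eqn 1 true,.edge 3],[]⟩,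
⟨0,1,3,2,false,[.edge 3,.eqn 2 true,.eqn 1 false,.eqn 2 false,.edge 3],[]⟩,
⟨0,2,3,2,false,[.edge 4,.eqn 9 false,.eqn 8 true,.edge 4],[]⟩,
⟨0,1,3,2,false,[.edge 3,.eqn 0 false,.eqn 1 false,.eqn 2 false,.eqn 1 true,.eqn 0 true,.edge 3],[]⟩,
⟨0,2,3,2,false,[.edge 4,.eqn 7 false,.eqn 8 true,.eqn 11 true,.edge 4],[]⟩,
⟨0,3,3,2,false,[.edge 5,.eqn 12 false,.eqn 10 true,.edge 5],[]⟩,
⟨416,2,4,2,false,[.edge 5,.eqn 6 false,.eqn 13 false,.eqn 6 false,.eqn 13 true,.eqn 6 true,.edge 5],[]⟩,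
⟨928,1,4,2,false,[.edge 4,.eqn 14 false,.eqn 10 false,.eqn 14 true,.edge 4],[]⟩,
⟨0,0,0,3,false,[.edge 3,.eqn 15 false,.eqn 8 true,.edge 4,.eqn 14 false,.eqn 12 false,.edge 5],[]⟩,
⟨0,0,1,5,false,[.edge 3,.code,.eqn 15 true,.eqn 8 false,.edge 4,.code,.code],[]⟩,
⟨0,3,3,1,true,[.edge 5,.eqn 17 false],[.eqn 16 false]⟩,
⟨0,1,3,2,false,[.edge 3,.eqn 1 false,.edge 18],[]⟩]⟩

/-- Its last walk. -/
def m49 : List Move := [.edge 3,.eqn 19 true]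

/-- A collapsing certificate. -/
def c50 : Cert := ⟨[⟨false,0,0⟩,⟨false,928,1⟩,⟨false,416,2⟩],[.edge 3,.code,.edge 4,.code,.edge 5],[
⟨0,1,3,2,false,[.edge 3,.eqn 1 false,.eqn 0 false,.eqn 1 true,.edge 3],[]⟩,
⟨0,1,3,2,false,[.edge 3,.eqn 1 false,.eqn 2 false,.eqn 1 true,.edge 3],[]⟩,
⟨0,1,3,2,false,[.edge 3,.eqn 2 true,.eqn 1 false,.eqn 2 false,.edge 3],[]⟩,
⟨0,2,3,2,false,[.edge 4,.eqn 9 false,.eqn 8 true,.edge 4],[]⟩,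
⟨0,1,3,2,false,[.edge 3,.eqn 0 false,.eqn 1 false,.eqn 2 false,.eqn 1 true,.eqn 0 true,.edge 3],[]⟩,
⟨0,2,3,2,false,[.edge 4,.eqn 7 false,.eqn 8 true,.eqn 11 true,.edge 4],[]⟩,
⟨0,3,3,2,false,[.edge 5,.eqn 12 false,.eqn 10 true,.edge 5],[]⟩,
⟨416,2,4,2,false,[.edge 5,.eqn 6 false,.eqn 13 false,.eqn 6 false,.eqn 13 true,.eqn 6 true,.edge 5],[]⟩,
⟨928,1,4,2,false,[.edge 4,.eqn 14 false,.eqn 10 false,.eqn 14 true,.edge 4],[]⟩,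
⟨0,0,0,3,false,[.edge 3,.eqn 15 false,.eqn 8 true,.edge 4,.eqn 14 false,.eqn 12 false,.edge 5],[]⟩,
⟨0,0,1,5,false,[.edge 3,.code,.eqn 15 true,.eqn 8 false,.edge 4,.code,.code],[]⟩,
⟨0,3,3,1,true,[.edge 5,.eqn 17 false],[.eqn 16 false]⟩,
⟨0,1,3,2,false,[.edge 3,.eqn 1 false,.edge 18],[]⟩]⟩

/-- Its last walk. -/
def m50 : List Move := [.edge 3,.eqn 19 true]

/-- A collapsing certificate. -/
def c51 : Cert := ⟨[⟨false,0,0⟩,⟨false,928,1⟩,⟨false,416,2⟩,⟨false,0,1⟩,⟨true,435,1⟩,⟨true,1632,5⟩,⟨false,4,5⟩,⟨false,416,7⟩,⟨true,448,8⟩,⟨true,416,9⟩,⟨true,1632,10⟩,⟨true,1686,6⟩,⟨false,89,6⟩],[.edge 3,.code,.edge 4,.code,.edge 5],[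
⟨0,1,3,2,false,[.edge 3,.eqn 1 false,.eqn 0 false,.eqn 1 true,.edge 3],[]⟩,
⟨0,1,3,2,false,[.edge 3,.eqn 1 false,.eqn 2 false,.eqn 1 true,.edge 3],[]⟩,
⟨0,1,3,2,false,[.edge 3,.eqn 2 true,.eqn 1 false,.eqn 2 false,.edge 3],[]⟩,
⟨0,2,3,2,false,[.edge 4,.eqn 19 false,.eqn 18 true,.edge 4],[]⟩,
⟨0,1,3,2,false,[.edge 3,.eqn 0 false,.eqn 1 false,.eqn 2 false,.eqn 1 true,.eqn 0 true,.edge 3],[]⟩,
⟨0,0,0,2,true,[.edge 3,.edge 6],[]⟩,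
⟨0,0,1,2,false,[.edge 3,.code],[.code,.code,.eqn 0 false,.edge 22]⟩,
⟨0,0,3,1,true,[.edge 22,.eqn 23 true],[]⟩,
⟨0,4,3,1,true,[.edge 6],[.eqn 23 true]⟩,
⟨0,5,4,2,false,[.edge 7,.eqn 17 false,.eqn 18 false,.eqn 21 false,.edge 7],[]⟩,
⟨0,5,4,2,false,[.edge 7,.eqn 17 false,.eqn 19 false,.eqn 21 true,.edge 7],[]⟩,
⟨0,1,2,11,true,[.code,.eqn 17 false,.edge 7,.code,.eqn 27 true,.edge 8,.code,.edge 14,.code,.edge 14,.code,.edge 15,.code],[.edge 3,.code,.eqn 1 false,.edge 22,.eqn 23 true,.code,.eqn 17 false,.eqn 18 false,.edge 7,.code,.edge 7,.code,.edge 6,.eqn 23 true,.code,.eqn 18 true,.edge 4,.code]⟩,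
⟨416,13,4,2,false,[.edge 28,.eqn 20 false,.edge 28],[]⟩,
⟨89,6,4,2,false,[.edge 15,.eqn 29 false,.edge 15],[]⟩,
⟨1632,5,3,2,false,[.edge 8,.eqn 30 false,.edge 8],[]⟩,
⟨435,1,3,2,false,[.edge 7,.eqn 31 false,.eqn 26 true,.eqn 31 false,.edge 7],[]⟩,
⟨0,0,3,2,false,[.edge 24,.eqn 32 false,.eqn 17 false,.eqn 32 true,.edge 25],[]⟩]⟩

/-- Its last walk. -/
def m51 : List Move := [.edge 3,.eqn 33 false]

/-- A collapsing certificate. -/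
def c52 : Cert := ⟨[⟨false,0,0⟩,⟨false,928,1⟩,⟨false,416,2⟩,⟨false,0,1⟩,⟨true,419,1⟩,⟨true,1632,5⟩,⟨false,4,5⟩,⟨false,416,7⟩,⟨true,451,8⟩,⟨true,416,9⟩,⟨true,1632,10⟩,⟨true,1689,6⟩,⟨false,88,6⟩],[.edge 3,.code,.edge 4,.code,.edge 5],[
⟨0,1,3,2,false,[.edge 3,.eqn 1 false,.eqn 0 false,.eqn 1 true,.edge 3],[]⟩,
⟨0,1,3,2,false,[.edge 3,.eqn 1 false,.eqn 2 false,.eqn 1 true,.edge 3],[]⟩,
⟨0,1,3,2,false,[.edge 3,.eqn 2 true,.eqn 1 false,.eqn 2 false,.edge 3],[]⟩,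
⟨0,2,3,2,false,[.edge 4,.eqn 19 false,.eqn 18 true,.edge 4],[]⟩,
⟨0,1,3,2,false,[.edge 3,.eqn 0 false,.eqn 1 false,.eqn 2 false,.eqn 1 true,.eqn 0 true,.edge 3],[]⟩,
⟨0,0,0,2,true,[.edge 3,.edge 6],[]⟩,
⟨0,0,1,2,false,[.edge 3,.code],[.code,.code,.eqn 0 false,.edge 22]⟩,
⟨0,0,3,1,true,[.edge 22,.eqn 23 true],[]⟩,
⟨0,4,3,1,true,[.edge 6],[.eqn 23 true]⟩,
⟨0,5,4,2,false,[.edge 7,.eqn 17 false,.eqn 18 false,.eqn 21 false,.edge 7],[]⟩,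
⟨0,5,4,2,false,[.edge 7,.eqn 17 false,.eqn 19 false,.eqn 21 true,.edge 7],[]⟩,
⟨0,1,2,11,true,[.code,.edge 7,.code,.eqn 27 true,.edge 8,.code,.edge 14,.code,.edge 14,.code,.edge 15,.code],[.edge 3,.code,.eqn 1 false,.edge 22,.eqn 23 true,.code,.eqn 17 false,.eqn 18 false,.edge 7,.code,.edge 7,.code,.edge 6,.eqn 23 true,.code,.eqn 18 true,.edge 4,.code]⟩,
⟨416,13,4,2,false,[.edge 28,.eqn 20 false,.edge 28],[]⟩,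
⟨88,6,4,2,false,[.edge 15,.eqn 29 false,.edge 15],[]⟩,
⟨1632,5,3,2,false,[.edge 8,.eqn 30 false,.edge 8],[]⟩,
⟨419,1,3,2,false,[.edge 7,.eqn 31 false,.eqn 26 true,.eqn 31 false,.edge 7],[]⟩,
⟨0,0,3,2,false,[.edge 24,.eqn 32 false,.eqn 17 false,.eqn 32 true,.edge 25],[]⟩]⟩

/-- Its last walk. -/
def m52 : List Move := [.edge 3,.eqn 33 false]

/-- A collapsing certificate. -/
def c53 : Cert := ⟨[⟨false,0,0⟩,⟨false,928,1⟩,⟨false,416,2⟩],[.edge 3,.code,.edge 4,.code,.edge 5],[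
⟨0,1,3,2,false,[.edge 3,.eqn 1 false,.eqn 0 false,.eqn 1 true,.edge 3],[]⟩,
⟨0,1,3,2,false,[.edge 3,.eqn 1 false,.eqn 2 false,.eqn 1 true,.edge 3],[]⟩,
⟨0,1,3,2,false,[.edge 3,.eqn 2 true,.eqn 1 false,.eqn 2 false,.edge 3],[]⟩,
⟨0,2,3,2,false,[.edge 4,.eqn 9 false,.eqn 8 true,.edge 4],[]⟩,
⟨0,1,3,2,false,[.edge 3,.eqn 0 false,.eqn 1 false,.eqn 2 false,.eqn 1 true,.eqn 0 true,.edge 3],[]⟩,
⟨0,2,3,2,false,[.edge 4,.eqn 7 false,.eqn 8 true,.eqn 11 true,.edge 4],[]⟩,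
⟨0,3,3,2,false,[.edge 5,.eqn 12 false,.eqn 10 true,.edge 5],[]⟩,
⟨416,2,4,2,false,[.edge 5,.eqn 6 false,.eqn 13 false,.eqn 6 false,.eqn 13 false,.eqn 6 true,.edge 5],[]⟩,
⟨0,3,3,2,false,[.edge 5,.eqn 10 false,.eqn 14 false,.eqn 10 false,.edge 5],[]⟩,
⟨928,1,4,2,false,[.edge 4,.eqn 14 false,.eqn 10 false,.eqn 14 true,.edge 4],[]⟩,
⟨416,2,4,2,false,[.edge 5,.eqn 6 false,.eqn 15 false,.eqn 13 false,.eqn 6 true,.edge 5],[]⟩,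
⟨0,0,0,3,false,[.edge 3,.eqn 16 false,.eqn 7 false,.eqn 8 true,.edge 4,.eqn 14 false,.eqn 17 false,.eqn 12 false,.edge 5],[]⟩,
⟨0,0,1,5,false,[.edge 3,.code,.eqn 16 false,.eqn 8 true,.edge 4,.code,.code],[]⟩,
⟨0,3,3,1,true,[.edge 5,.eqn 19 false],[.eqn 18 false]⟩,
⟨0,1,3,2,false,[.edge 3,.eqn 1 false,.edge 20],[]⟩]⟩

/-- Its last walk. -/
def m53 : List Move := [.edge 3,.eqn 21 true]

/-- A collapsing certificate. -/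
def c54 : Cert := ⟨[⟨false,0,0⟩,⟨false,928,1⟩,⟨false,416,2⟩,⟨false,0,1⟩,⟨true,433,1⟩,⟨true,1632,5⟩,⟨false,4,5⟩,⟨false,416,7⟩,⟨true,464,8⟩,⟨true,416,9⟩,⟨true,1632,10⟩,⟨true,1686,6⟩,⟨false,89,6⟩],[.edge 3,.code,.edge 4,.code,.edge 5],[
⟨0,1,3,2,false,[.edge 3,.eqn 1 false,.eqn 0 false,.eqn 1 true,.edge 3],[]⟩,
⟨0,1,3,2,false,[.edge 3,.eqn 1 false,.eqn 2 false,.eqn 1 true,.edge 3],[]⟩,
⟨0,1,3,2,false,[.edge 3,.eqn 2 true,.eqn 1 false,.eqn 2 false,.edge 3],[]⟩,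
⟨0,2,3,2,false,[.edge 4,.eqn 19 false,.eqn 18 true,.edge 4],[]⟩,
⟨0,1,3,2,false,[.edge 3,.eqn 0 false,.eqn 1 false,.eqn 2 false,.eqn 1 true,.eqn 0 true,.edge 3],[]⟩,
⟨0,0,0,2,true,[.edge 3,.edge 6],[]⟩,
⟨0,0,1,2,false,[.edge 3,.code],[.code,.code,.eqn 0 false,.edge 22]⟩,
⟨0,0,3,1,true,[.edge 22,.eqn 23 true],[]⟩,
⟨0,4,3,1,true,[.edge 6],[.eqn 23 true]⟩,
⟨0,5,4,2,false,[.edge 7,.eqn 17 false,.eqn 18 false,.eqn 21 false,.edge 7],[]⟩,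
⟨0,5,4,2,false,[.edge 7,.eqn 17 false,.eqn 19 false,.eqn 21 true,.edge 7],[]⟩,
⟨0,1,2,11,true,[.code,.edge 7,.code,.eqn 27 true,.edge 8,.code,.edge 14,.code,.edge 14,.code,.edge 15,.code],[.edge 3,.code,.eqn 1 false,.edge 22,.eqn 23 true,.code,.eqn 18 false,.edge 7,.code,.edge 7,.code,.edge 6,.eqn 23 true,.code,.eqn 18 true,.edge 4,.code]⟩,
⟨416,13,4,2,false,[.edge 28,.eqn 20 false,.edge 28],[]⟩,
⟨89,6,4,2,false,[.edge 15,.eqn 29 false,.edge 15],[]⟩,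
⟨1632,5,3,2,false,[.edge 8,.eqn 30 false,.edge 8],[]⟩,
⟨433,1,3,2,false,[.edge 7,.eqn 31 false,.eqn 26 true,.eqn 31 false,.edge 7],[]⟩,
⟨0,0,3,2,false,[.edge 24,.eqn 32 false,.eqn 17 false,.eqn 32 true,.edge 25],[]⟩]⟩

/-- Its last walk. -/
def m54 : List Move := [.edge 3,.eqn 33 false]

/-- A collapsing certificate. -/
def c55 : Cert := ⟨[⟨false,0,0⟩,⟨false,928,1⟩,⟨false,416,2⟩,⟨false,0,1⟩,⟨true,417,1⟩,⟨true,1632,5⟩,⟨false,4,5⟩,⟨false,416,7⟩,⟨true,467,8⟩,⟨true,416,9⟩,⟨true,1632,10⟩,⟨true,1689,6⟩,⟨false,88,6⟩],[.edge 3,.code,.edge 4,.code,.edge 5],[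
⟨0,1,3,2,false,[.edge 3,.eqn 1 false,.eqn 0 false,.eqn 1 true,.edge 3],[]⟩,
⟨0,1,3,2,false,[.edge 3,.eqn 1 false,.eqn 2 false,.eqn 1 true,.edge 3],[]⟩,
⟨0,1,3,2,false,[.edge 3,.eqn 2 true,.eqn 1 false,.eqn 2 false,.edge 3],[]⟩,
⟨0,2,3,2,false,[.edge 4,.eqn 19 false,.eqn 18 true,.edge 4],[]⟩,
⟨0,1,3,2,false,[.edge 3,.eqn 0 false,.eqn 1 false,.eqn 2 false,.eqn 1 true,.eqn 0 true,.edge 3],[]⟩,
⟨0,0,0,2,true,[.edge 3,.edge 6],[]⟩,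
⟨0,0,1,2,false,[.edge 3,.code],[.code,.code,.eqn 0 false,.edge 22]⟩,
⟨0,0,3,1,true,[.edge 22,.eqn 23 true],[]⟩,
⟨0,4,3,1,true,[.edge 6],[.eqn 23 true]⟩,
⟨0,5,4,2,false,[.edge 7,.eqn 17 false,.eqn 18 false,.eqn 21 false,.edge 7],[]⟩,
⟨0,5,4,2,false,[.edge 7,.eqn 17 false,.eqn 19 false,.eqn 21 true,.edge 7],[]⟩,
⟨0,1,2,11,true,[.code,.eqn 17 false,.edge 7,.code,.eqn 27 true,.edge 8,.code,.edge 14,.code,.edge 14,.code,.edge 15,.code],[.edge 3,.code,.eqn 1 false,.edge 22,.eqn 23 true,.code,.eqn 18 false,.edge 7,.code,.edge 7,.code,.edge 6,.eqn 23 true,.code,.eqn 18 true,.edge 4,.code]⟩,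
⟨416,13,4,2,false,[.edge 28,.eqn 20 false,.edge 28],[]⟩,
⟨88,6,4,2,false,[.edge 15,.eqn 29 false,.edge 15],[]⟩,
⟨1632,5,3,2,false,[.edge 8,.eqn 30 false,.edge 8],[]⟩,
⟨417,1,3,2,false,[.edge 7,.eqn 31 false,.eqn 26 true,.eqn 31 false,.edge 7],[]⟩,
⟨0,0,3,2,false,[.edge 24,.eqn 32 false,.eqn 17 false,.eqn 32 true,.edge 25],[]⟩]⟩

/-- Its last walk. -/
def m55 : List Move := [.edge 3,.eqn 33 false]

/-- A collapsing certificate. -/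
def c56 : Cert := ⟨[⟨false,0,0⟩,⟨false,928,1⟩,⟨false,416,2⟩],[.edge 3,.code,.edge 4,.code,.edge 5],[
⟨0,1,3,2,false,[.edge 3,.eqn 1 false,.eqn 0 false,.eqn 1 true,.edge 3],[]⟩,
⟨0,1,3,2,false,[.edge 3,.eqn 1 false,.eqn 2 false,.eqn 1 true,.edge 3],[]⟩,
⟨0,1,3,2,false,[.edge 3,.eqn 2 true,.eqn 1 false,.eqn 2 false,.edge 3],[]⟩,
⟨0,2,3,2,false,[.edge 4,.eqn 9 false,.eqn 8 true,.edge 4],[]⟩,
⟨0,1,3,2,false,[.edge 3,.eqn 0 false,.eqn 1 false,.eqn 2 false,.eqn 1 true,.eqn 0 true,.edge 3],[]⟩,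
⟨0,2,3,2,false,[.edge 4,.eqn 7 false,.eqn 8 true,.eqn 11 true,.edge 4],[]⟩,
⟨0,3,3,2,false,[.edge 5,.eqn 12 false,.eqn 10 true,.edge 5],[]⟩,
⟨416,2,4,2,false,[.edge 5,.eqn 6 false,.eqn 13 false,.eqn 6 false,.eqn 13 false,.eqn 6 true,.edge 5],[]⟩,
⟨0,3,3,2,false,[.edge 5,.eqn 10 false,.eqn 14 false,.eqn 10 false,.edge 5],[]⟩,
⟨928,1,4,2,false,[.edge 4,.eqn 14 false,.eqn 10 false,.eqn 14 true,.edge 4],[]⟩,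
⟨416,2,4,2,false,[.edge 5,.eqn 6 false,.eqn 15 false,.eqn 13 false,.eqn 6 true,.edge 5],[]⟩,
⟨0,0,0,3,false,[.edge 3,.eqn 16 false,.eqn 7 false,.eqn 8 true,.edge 4,.eqn 14 false,.eqn 17 false,.eqn 12 false,.edge 5],[]⟩,
⟨0,0,1,5,false,[.edge 3,.code,.eqn 16 false,.eqn 8 true,.edge 4,.code,.code],[]⟩,
⟨0,3,3,1,true,[.edge 5,.eqn 19 false],[.eqn 18 false]⟩,
⟨0,1,3,2,false,[.edge 3,.eqn 1 false,.edge 20],[]⟩]⟩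

/-- Its last walk. -/
def m56 : List Move := [.edge 3,.eqn 21 true]

/-- A collapsing certificate. -/
def c57 : Cert := ⟨[⟨false,0,0⟩,⟨false,928,1⟩,⟨false,416,2⟩,⟨false,0,1⟩,⟨true,726,1⟩,⟨true,1632,5⟩,⟨false,4,5⟩,⟨false,416,7⟩,⟨true,475,8⟩,⟨true,416,9⟩,⟨true,1632,10⟩,⟨true,1686,6⟩,⟨false,89,6⟩,⟨true,1689,6⟩],[.edge 3,.code,.edge 4,.code,.edge 5],[
⟨0,1,3,2,false,[.edge 3,.eqn 1 false,.eqn 0 false,.eqn 1 true,.edge 3],[]⟩,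
⟨0,1,3,2,false,[.edge 3,.eqn 1 false,.eqn 2 false,.eqn 1 true,.edge 3],[]⟩,
⟨0,1,3,2,false,[.edge 3,.eqn 2 true,.eqn 1 false,.eqn 2 false,.edge 3],[]⟩,
⟨0,2,3,2,false,[.edge 4,.eqn 20 false,.eqn 19 true,.edge 4],[]⟩,
⟨0,1,3,2,false,[.edge 3,.eqn 0 false,.eqn 1 false,.eqn 0 false,.eqn 1 true,.eqn 0 true,.edge 3],[]⟩,
⟨0,2,3,2,false,[.edge 4,.eqn 22 false,.edge 4],[]⟩,
⟨0,1,3,2,false,[.edge 3,.eqn 0 false,.eqn 1 false,.eqn 2 false,.eqn 1 true,.eqn 0 true,.edge 3],[]⟩,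
⟨0,0,0,2,true,[.edge 3,.edge 6],[]⟩,
⟨0,0,1,2,false,[.edge 3,.code],[.code,.code,.eqn 0 false,.edge 25]⟩,
⟨0,0,3,1,true,[.edge 25,.eqn 26 true],[]⟩,
⟨0,4,3,1,true,[.edge 6],[.eqn 26 true]⟩,
⟨0,0,2,21,false,[.code,.eqn 1 false,.edge 25,.eqn 26 true,.code,.edge 7,.code,.edge 8,.code,.edge 8,.code,.edge 9,.code,.edge 10,.code,.edge 11,.code,.edge 12,.code,.edge 13,.code,.edge 13,.code],[.edge 25,.eqn 26 true,.code,.eqn 24 true,.edge 7]⟩,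
⟨416,9,3,1,true,[.edge 12,.eqn 29 false],[]⟩,
⟨0,5,4,2,false,[.edge 7,.eqn 20 false,.eqn 19 true,.edge 7],[]⟩,
⟨0,7,3,2,false,[.edge 9,.eqn 31 false,.edge 9],[]⟩,
⟨416,9,3,2,false,[.edge 30,.edge 9],[]⟩,
⟨475,8,3,1,true,[.edge 11,.eqn 33 true],[]⟩,
⟨475,8,3,2,false,[.edge 34,.eqn 32 false,.edge 34],[]⟩,
⟨0,5,4,2,false,[.edge 7,.eqn 22 false,.edge 7],[]⟩,
⟨0,7,3,2,false,[.edge 9,.eqn 36 false,.edge 9],[]⟩,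
⟨0,5,4,2,false,[.edge 7,.eqn 18 false,.eqn 19 true,.eqn 24 true,.edge 7],[]⟩,
⟨0,6,4,2,false,[.edge 8,.eqn 38 false,.eqn 36 true,.edge 8],[]⟩,
⟨0,1,2,11,true,[.code,.eqn 19 false,.edge 7,.code,.eqn 31 false,.eqn 36 false,.edge 8,.code,.edge 14,.code,.edge 14,.code,.edge 15,.code],[.edge 3,.code,.eqn 1 false,.edge 25,.eqn 26 true,.code,.eqn 19 true,.edge 7,.code,.edge 7,.code,.edge 6,.eqn 26 true,.code,.eqn 19 true,.edge 4,.code]⟩,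
⟨0,13,3,2,false,[.edge 15,.eqn 39 false,.edge 15],[]⟩,
⟨2,1,2,11,true,[.code,.eqn 19 false,.edge 7,.code,.eqn 31 false,.eqn 36 false,.edge 8,.code,.edge 16,.code,.edge 16,.code,.edge 15,.code],[.edge 28,.code,.eqn 19 false,.edge 7,.code,.eqn 31 false,.edge 8,.code,.edge 8,.code,.edge 9,.code,.eqn 37 false,.edge 10,.code]⟩,
⟨384,1,1,2,false,[.eqn 19 false,.edge 4,.code],[.code,.code,.eqn 24 true,.edge 7]⟩,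
⟨726,1,3,1,true,[.edge 7,.eqn 43 true],[]⟩,
⟨1632,5,3,1,true,[.edge 8],[.eqn 43 true]⟩,
⟨416,13,4,2,false,[.edge 40,.eqn 21 false,.edge 45],[]⟩,
⟨482,8,3,1,true,[.edge 42,.eqn 46 true],[]⟩,
⟨0,13,3,1,true,[.edge 15],[.eqn 46 true]⟩,
⟨140,13,5,0,false,[.eqn 41 false,.eqn 46 true],[.eqn 46 true]⟩,
⟨482,8,3,2,false,[.edge 47,.edge 48],[]⟩,
⟨768,8,5,0,false,[.eqn 35 false,.eqn 50 true],[.eqn 50 true]⟩,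
⟨720,6,3,2,false,[.edge 48,.eqn 49 false,.eqn 39 false,.eqn 51 false,.edge 45],[]⟩,
⟨720,6,5,0,false,[.eqn 49 false,.eqn 52 true],[.eqn 52 true]⟩,
⟨726,1,3,2,false,[.edge 44,.eqn 53 true,.eqn 23 false,.edge 5],[]⟩,
⟨475,3,5,0,false,[.eqn 17 false,.eqn 54 false],[.eqn 54 false]⟩,
⟨0,0,3,2,false,[.edge 27,.eqn 55 false,.eqn 18 false,.eqn 55 false,.edge 28],[]⟩]⟩

/-- Its last walk. -/
def m57 : List Move := [.edge 3,.eqn 56 false]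

/-- A collapsing certificate. -/
def c58 : Cert := ⟨[⟨false,0,0⟩,⟨false,928,1⟩,⟨false,416,2⟩],[.edge 3,.code,.edge 4,.code,.edge 5],[
⟨0,1,3,2,false,[.edge 3,.eqn 1 false,.eqn 0 false,.eqn 1 true,.edge 3],[]⟩,
⟨0,1,3,2,false,[.edge 3,.eqn 1 false,.eqn 2 false,.eqn 1 true,.edge 3],[]⟩,
⟨0,1,3,2,false,[.edge 3,.eqn 2 true,.eqn 1 false,.eqn 2 false,.edge 3],[]⟩,
⟨0,2,3,2,false,[.edge 4,.eqn 9 false,.eqn 8 true,.edge 4],[]⟩,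
⟨0,1,3,2,false,[.edge 3,.eqn 0 false,.eqn 1 false,.eqn 0 false,.eqn 1 true,.eqn 0 true,.edge 3],[]⟩,
⟨0,2,3,2,false,[.edge 4,.eqn 11 false,.edge 4],[]⟩,
⟨0,1,3,2,false,[.edge 3,.eqn 0 false,.eqn 1 false,.eqn 2 false,.eqn 1 true,.eqn 0 true,.edge 3],[]⟩,
⟨0,2,3,2,false,[.edge 4,.eqn 7 false,.eqn 8 true,.eqn 13 true,.edge 4],[]⟩,
⟨0,3,3,2,false,[.edge 5,.eqn 14 false,.eqn 10 true,.edge 5],[]⟩,
⟨416,2,4,2,false,[.edge 5,.eqn 6 false,.eqn 15 false,.eqn 6 false,.eqn 15 true,.eqn 6 true,.edge 5],[]⟩,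
⟨928,1,4,2,false,[.edge 4,.eqn 16 false,.eqn 10 false,.eqn 16 false,.eqn 10 true,.eqn 16 true,.edge 4],[]⟩,
⟨0,0,0,3,false,[.edge 3,.eqn 17 false,.eqn 8 false,.edge 4,.eqn 16 false,.eqn 10 false,.eqn 12 false,.edge 5],[]⟩,
⟨0,0,1,5,false,[.edge 3,.code,.eqn 17 false,.eqn 13 true,.edge 4,.code,.code],[]⟩,
⟨0,3,3,1,true,[.edge 5,.eqn 19 false],[.eqn 18 false]⟩,
⟨0,1,3,2,false,[.edge 3,.eqn 2 true,.edge 20],[]⟩]⟩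

/-- Its last walk. -/
def m58 : List Move := [.edge 3,.eqn 21 true]

/-- A collapsing certificate. -/
def c59 : Cert := ⟨[⟨false,0,0⟩,⟨false,928,1⟩,⟨false,416,2⟩],[.edge 3,.code,.edge 4,.code,.edge 5],[
⟨0,1,3,2,false,[.edge 3,.eqn 1 false,.eqn 0 false,.eqn 1 true,.edge 3],[]⟩,
⟨0,1,3,2,false,[.edge 3,.eqn 1 false,.eqn 2 false,.eqn 1 true,.edge 3],[]⟩,
⟨0,1,3,2,false,[.edge 3,.eqn 2 true,.eqn 1 false,.eqn 2 false,.edge 3],[]⟩,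
⟨0,2,3,2,false,[.edge 4,.eqn 9 false,.eqn 8 true,.edge 4],[]⟩,
⟨0,1,3,2,false,[.edge 3,.eqn 0 false,.eqn 1 false,.eqn 0 false,.eqn 1 true,.eqn 0 true,.edge 3],[]⟩,
⟨0,2,3,2,false,[.edge 4,.eqn 11 false,.edge 4],[]⟩,
⟨0,1,3,2,false,[.edge 3,.eqn 0 false,.eqn 1 false,.eqn 2 false,.eqn 1 true,.eqn 0 true,.edge 3],[]⟩,
⟨0,2,3,2,false,[.edge 4,.eqn 7 false,.eqn 8 true,.eqn 13 true,.edge 4],[]⟩,
⟨0,3,3,2,false,[.edge 5,.eqn 14 false,.eqn 10 true,.edge 5],[]⟩,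
⟨416,2,4,2,false,[.edge 5,.eqn 6 false,.eqn 15 false,.eqn 6 false,.eqn 15 true,.eqn 6 true,.edge 5],[]⟩,
⟨928,1,4,2,false,[.edge 4,.eqn 16 false,.eqn 10 false,.eqn 16 true,.edge 4],[]⟩,
⟨0,0,0,3,false,[.edge 3,.eqn 17 false,.eqn 8 true,.edge 4,.eqn 16 false,.eqn 12 false,.eqn 14 false,.edge 5],[]⟩,
⟨0,0,1,5,false,[.edge 3,.code,.eqn 17 true,.eqn 8 false,.edge 4,.code,.code],[]⟩,
⟨0,3,3,1,true,[.edge 5,.eqn 19 false],[.eqn 18 false]⟩,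
⟨0,1,3,2,false,[.edge 3,.eqn 1 false,.edge 20],[]⟩]⟩

/-- Its last walk. -/
def m59 : List Move := [.edge 3,.eqn 21 true]

/-- A collapsing certificate. -/
def c60 : Cert := ⟨[⟨false,0,0⟩,⟨false,928,1⟩,⟨false,416,2⟩],[.edge 3,.code,.edge 4,.code,.edge 5],[
⟨0,1,3,2,false,[.edge 3,.eqn 1 false,.eqn 0 false,.eqn 1 true,.edge 3],[]⟩,
⟨0,1,3,2,false,[.edge 3,.eqn 1 false,.eqn 2 false,.eqn 1 true,.edge 3],[]⟩,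
⟨0,1,3,2,false,[.edge 3,.eqn 2 true,.eqn 1 false,.eqn 2 false,.edge 3],[]⟩,
⟨0,2,3,2,false,[.edge 4,.eqn 9 false,.eqn 8 true,.edge 4],[]⟩,
⟨0,1,3,2,false,[.edge 3,.eqn 0 false,.eqn 1 false,.eqn 0 false,.eqn 1 true,.eqn 0 true,.edge 3],[]⟩,
⟨0,2,3,2,false,[.edge 4,.eqn 11 false,.edge 4],[]⟩,
⟨0,1,3,2,false,[.edge 3,.eqn 0 false,.eqn 1 false,.eqn 2 false,.eqn 1 true,.eqn 0 true,.edge 3],[]⟩,
⟨0,2,3,2,false,[.edge 4,.eqn 7 false,.eqn 8 true,.eqn 13 true,.edge 4],[]⟩,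
⟨0,3,3,2,false,[.edge 5,.eqn 14 false,.eqn 10 true,.edge 5],[]⟩,
⟨416,2,4,2,false,[.edge 5,.eqn 6 false,.eqn 15 false,.eqn 6 false,.eqn 15 true,.eqn 6 true,.edge 5],[]⟩,
⟨928,1,4,2,false,[.edge 4,.eqn 16 false,.eqn 10 false,.eqn 16 false,.eqn 10 true,.eqn 16 true,.edge 4],[]⟩,
⟨0,0,0,3,false,[.edge 3,.eqn 17 false,.eqn 8 false,.edge 4,.eqn 16 false,.eqn 10 false,.eqn 12 false,.edge 5],[]⟩,
⟨0,0,1,5,false,[.edge 3,.code,.eqn 17 false,.eqn 13 true,.edge 4,.code,.code],[]⟩,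
⟨0,3,3,1,true,[.edge 5,.eqn 19 false],[.eqn 18 false]⟩,
⟨0,1,3,2,false,[.edge 3,.eqn 2 true,.edge 20],[]⟩]⟩

/-- Its last walk. -/
def m60 : List Move := [.edge 3,.eqn 21 true]

/-- A collapsing certificate. -/
def c61 : Cert := ⟨[⟨false,0,0⟩,⟨false,928,1⟩,⟨false,416,2⟩],[.edge 3,.code,.edge 4,.code,.edge 5],[
⟨0,1,3,2,false,[.edge 3,.eqn 1 false,.eqn 0 false,.eqn 1 true,.edge 3],[]⟩,
⟨0,1,3,2,false,[.edge 3,.eqn 1 false,.eqn 2 false,.eqn 1 true,.edge 3],[]⟩,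
⟨0,1,3,2,false,[.edge 3,.eqn 2 true,.eqn 1 false,.eqn 2 false,.edge 3],[]⟩,
⟨0,2,3,2,false,[.edge 4,.eqn 9 false,.eqn 8 true,.edge 4],[]⟩,
⟨0,1,3,2,false,[.edge 3,.eqn 0 false,.eqn 1 false,.eqn 0 false,.eqn 1 true,.eqn 0 true,.edge 3],[]⟩,
⟨0,2,3,2,false,[.edge 4,.eqn 11 false,.edge 4],[]⟩,
⟨0,1,3,2,false,[.edge 3,.eqn 0 false,.eqn 1 false,.eqn 2 false,.eqn 1 true,.eqn 0 true,.edge 3],[]⟩,
⟨0,2,3,2,false,[.edge 4,.eqn 7 false,.eqn 8 true,.eqn 13 true,.edge 4],[]⟩,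
⟨0,3,3,2,false,[.edge 5,.eqn 14 false,.eqn 10 true,.edge 5],[]⟩,
⟨416,2,4,2,false,[.edge 5,.eqn 6 false,.eqn 15 false,.eqn 6 false,.eqn 15 true,.eqn 6 true,.edge 5],[]⟩,
⟨928,1,4,2,false,[.edge 4,.eqn 16 false,.eqn 10 false,.eqn 16 true,.edge 4],[]⟩,
⟨0,0,0,3,false,[.edge 3,.eqn 17 false,.eqn 8 true,.edge 4,.eqn 16 false,.eqn 12 false,.eqn 14 false,.edge 5],[]⟩,
⟨0,0,1,5,false,[.edge 3,.code,.eqn 17 true,.eqn 8 false,.edge 4,.code,.code],[]⟩,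
⟨0,3,3,1,true,[.edge 5,.eqn 19 false],[.eqn 18 false]⟩,
⟨0,1,3,2,false,[.edge 3,.eqn 1 false,.edge 20],[]⟩]⟩

/-- Its last walk. -/
def m61 : List Move := [.edge 3,.eqn 21 true]

/-- A collapsing certificate. -/
def c62 : Cert := ⟨[⟨false,0,0⟩,⟨false,928,1⟩,⟨false,416,2⟩],[.edge 3,.code,.edge 4,.code,.edge 5],[
⟨0,1,3,2,false,[.edge 3,.eqn 1 false,.eqn 0 false,.eqn 1 true,.edge 3],[]⟩,
⟨0,1,3,2,false,[.edge 3,.eqn 1 false,.eqn 2 false,.eqn 1 true,.edge 3],[]⟩,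
⟨0,1,3,2,false,[.edge 3,.eqn 2 true,.eqn 1 false,.eqn 2 false,.edge 3],[]⟩,
⟨0,2,3,2,false,[.edge 4,.eqn 9 false,.eqn 8 true,.edge 4],[]⟩,
⟨0,1,3,2,false,[.edge 3,.eqn 0 false,.eqn 1 false,.eqn 0 false,.eqn 1 true,.eqn 0 true,.edge 3],[]⟩,
⟨0,2,3,2,false,[.edge 4,.eqn 11 false,.edge 4],[]⟩,
⟨0,1,3,2,false,[.edge 3,.eqn 0 false,.eqn 1 false,.eqn 2 false,.eqn 1 true,.eqn 0 true,.edge 3],[]⟩,
⟨0,2,3,2,false,[.edge 4,.eqn 7 false,.eqn 8 true,.eqn 13 true,.edge 4],[]⟩,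
⟨0,3,3,2,false,[.edge 5,.eqn 14 false,.eqn 10 true,.edge 5],[]⟩,
⟨416,2,4,2,false,[.edge 5,.eqn 6 false,.eqn 15 false,.eqn 6 false,.eqn 15 true,.eqn 6 true,.edge 5],[]⟩,
⟨928,1,4,2,false,[.edge 4,.eqn 16 false,.eqn 14 false,.eqn 12 true,.eqn 16 true,.edge 4],[]⟩,
⟨0,0,0,3,false,[.edge 3,.eqn 17 false,.eqn 7 false,.eqn 8 true,.edge 4,.eqn 16 false,.eqn 10 false,.edge 5],[]⟩,
⟨0,0,1,5,false,[.edge 3,.code,.eqn 17 false,.eqn 8 true,.edge 4,.code,.code],[]⟩,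
⟨0,3,3,1,true,[.edge 5,.eqn 19 false],[.eqn 18 false]⟩,
⟨0,1,3,2,false,[.edge 3,.eqn 1 false,.edge 20],[]⟩]⟩

/-- Its last walk. -/
def m62 : List Move := [.edge 3,.eqn 21 true]

/-- A collapsing certificate. -/
def c63 : Cert := ⟨[⟨false,0,0⟩,⟨false,928,1⟩,⟨false,416,2⟩],[.edge 3,.code,.edge 4,.code,.edge 5],[
⟨0,1,3,2,false,[.edge 3,.eqn 1 false,.eqn 0 false,.eqn 1 true,.edge 3],[]⟩,
⟨0,1,3,2,false,[.edge 3,.eqn 1 false,.eqn 2 false,.eqn 1 true,.edge 3],[]⟩,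
⟨0,1,3,2,false,[.edge 3,.eqn 2 true,.eqn 1 false,.eqn 2 false,.edge 3],[]⟩,
⟨0,2,3,2,false,[.edge 4,.eqn 9 false,.eqn 8 true,.edge 4],[]⟩,
⟨0,1,3,2,false,[.edge 3,.eqn 0 false,.eqn 1 false,.eqn 2 false,.eqn 1 true,.eqn 0 true,.edge 3],[]⟩,
⟨0,2,3,2,false,[.edge 4,.eqn 7 false,.eqn 8 true,.eqn 11 true,.edge 4],[]⟩,
⟨0,3,3,2,false,[.edge 5,.eqn 12 false,.eqn 10 true,.edge 5],[]⟩,
⟨416,2,4,2,false,[.edge 5,.eqn 6 false,.eqn 13 false,.eqn 6 false,.eqn 13 true,.eqn 6 true,.edge 5],[]⟩,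
⟨928,1,4,2,false,[.edge 4,.eqn 14 false,.eqn 12 false,.eqn 14 false,.eqn 12 true,.eqn 14 true,.edge 4],[]⟩,
⟨0,0,0,3,false,[.edge 3,.eqn 15 false,.eqn 8 false,.edge 4,.eqn 14 false,.eqn 12 false,.edge 5],[]⟩,
⟨0,0,1,5,false,[.edge 3,.code,.eqn 15 false,.eqn 11 true,.edge 4,.code,.code],[]⟩,
⟨0,3,3,1,true,[.edge 5,.eqn 17 false],[.eqn 16 false]⟩,
⟨0,1,3,2,false,[.edge 3,.eqn 0 false,.eqn 2 true,.edge 18],[]⟩]⟩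

/-- Its last walk. -/
def m63 : List Move := [.edge 3,.eqn 19 true]

/-- The certificates of this file. -/
def list1 : List (ℕ × Cert × List Move) := [(369,c32,m32),(380,c33,m33),(381,c34,m34),(384,c35,m35),(387,c36,m36),(388,c37,m37),(391,c38,m38),(400,c39,m39),(403,c40,m40),(404,c41,m41),(407,c42,m42),(416,c43,m43),(419,c44,m44),(428,c45,m45),(431,c46,m46),(432,c47,m47),(435,c48,m48),(444,c49,m49),(447,c50,m50),(448,c51,m51),(451,c52,m52),(459,c53,m53),(464,c54,m54),(467,c55,m55),(472,c56,m56),(475,c57,m57),(864,c58,m58),(866,c59,m59),(869,c60,m60),(871,c61,m61),(880,c62,m62),(882,c63,m63)]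

end Cfsg.Agent.J2Uniq.CData
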