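import Cfsg.Agent.Lib.J2Uniq.Cert

/-!
Certificates for involutions which lead to a collapse.
-/

set_option autoImplicit false
set_option maxRecDepth 100000
set_option maxHeartbeats 4000000

namespace Cfsg.Agent.J2Uniq.CData

/-- A collapsing certificate. -/
def c64 : Cert := ⟨[⟨false,0,0⟩,⟨false,928,1⟩,⟨false,416,2⟩],[.edge 3,.code,.edge 4,.code,.edge 5],[
⟨0,1,3,2,false,[.edge 3,.eqn 1 false,.eqn 0 false,.eqn 1 true,.edge 3],[]⟩,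
⟨0,1,3,2,false,[.edge 3,.eqn 1 false,.eqn 2 false,.eqn 1 true,.edge 3],[]⟩,
⟨0,1,3,2,false,[.edge 3,.eqn 2 true,.eqn 1 false,.eqn 2 false,.edge 3],[]⟩,
⟨0,2,3,2,false,[.edge 4,.eqn 9 false,.eqn 8 true,.edge 4],[]⟩,
⟨0,1,3,2,false,[.edge 3,.eqn 0 false,.eqn 1 false,.eqn 0 false,.eqn 1 true,.eqn 0 true,.edge 3],[]⟩,
⟨0,2,3,2,false,[.edge 4,.eqn 11 false,.edge 4],[]⟩,
⟨0,1,3,2,false,[.edge 3,.eqn 0 false,.eqn 1 false,.eqn 2 false,.eqn 1 true,.eqn 0 true,.edge 3],[]⟩,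
⟨0,2,3,2,false,[.edge 4,.eqn 7 false,.eqn 8 true,.eqn 13 true,.edge 4],[]⟩,
⟨0,3,3,2,false,[.edge 5,.eqn 14 false,.eqn 10 true,.edge 5],[]⟩,
⟨416,2,4,2,false,[.edge 5,.eqn 6 false,.eqn 15 false,.eqn 6 false,.eqn 15 true,.eqn 6 true,.edge 5],[]⟩,
⟨928,1,4,2,false,[.edge 4,.eqn 16 false,.eqn 14 false,.eqn 12 true,.eqn 16 true,.edge 4],[]⟩,
⟨0,0,0,3,false,[.edge 3,.eqn 17 false,.eqn 7 false,.eqn 8 true,.edge 4,.eqn 16 false,.eqn 10 false,.edge 5],[]⟩,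
⟨0,0,1,5,false,[.edge 3,.code,.eqn 17 false,.eqn 8 true,.edge 4,.code,.code],[]⟩,
⟨0,3,3,1,true,[.edge 5,.eqn 19 false],[.eqn 18 false]⟩,
⟨0,1,3,2,false,[.edge 3,.eqn 1 false,.edge 20],[]⟩]⟩

/-- Its last walk. -/
def m64 : List Move := [.edge 3,.eqn 21 true]

/-- A collapsing certificate. -/
def c65 : Cert := ⟨[⟨false,0,0⟩,⟨false,928,1⟩,⟨false,416,2⟩],[.edge 3,.code,.edge 4,.code,.edge 5],[
⟨0,1,3,2,false,[.edge 3,.eqn 1 false,.eqn 0 false,.eqn 1 true,.edge 3],[]⟩,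
⟨0,1,3,2,false,[.edge 3,.eqn 1 false,.eqn 2 false,.eqn 1 true,.edge 3],[]⟩,
⟨0,1,3,2,false,[.edge 3,.eqn 2 true,.eqn 1 false,.eqn 2 false,.edge 3],[]⟩,
⟨0,2,3,2,false,[.edge 4,.eqn 9 false,.eqn 8 true,.edge 4],[]⟩,
⟨0,1,3,2,false,[.edge 3,.eqn 0 false,.eqn 1 false,.eqn 2 false,.eqn 1 true,.eqn 0 true,.edge 3],[]⟩,
⟨0,2,3,2,false,[.edge 4,.eqn 7 false,.eqn 8 true,.eqn 11 true,.edge 4],[]⟩,
⟨0,3,3,2,false,[.edge 5,.eqn 12 false,.eqn 10 true,.edge 5],[]⟩,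
⟨416,2,4,2,false,[.edge 5,.eqn 6 false,.eqn 13 false,.eqn 6 false,.eqn 13 true,.eqn 6 true,.edge 5],[]⟩,
⟨928,1,4,2,false,[.edge 4,.eqn 14 false,.eqn 12 false,.eqn 14 false,.eqn 12 true,.eqn 14 true,.edge 4],[]⟩,
⟨0,0,0,3,false,[.edge 3,.eqn 15 false,.eqn 8 false,.edge 4,.eqn 14 false,.eqn 12 false,.edge 5],[]⟩,
⟨0,0,1,5,false,[.edge 3,.code,.eqn 15 false,.eqn 11 true,.edge 4,.code,.code],[]⟩,
⟨0,3,3,1,true,[.edge 5,.eqn 17 false],[.eqn 16 false]⟩,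
⟨0,1,3,2,false,[.edge 3,.eqn 0 false,.eqn 2 true,.edge 18],[]⟩]⟩

/-- Its last walk. -/
def m65 : List Move := [.edge 3,.eqn 19 true]

/-- A collapsing certificate. -/
def c66 : Cert := ⟨[⟨false,0,0⟩,⟨false,928,1⟩,⟨false,416,2⟩],[.edge 3,.code,.edge 4,.code,.edge 5],[
⟨0,1,3,2,false,[.edge 3,.eqn 1 false,.eqn 0 false,.eqn 1 true,.edge 3],[]⟩,
⟨0,1,3,2,false,[.edge 3,.eqn 1 false,.eqn 2 false,.eqn 1 true,.edge 3],[]⟩,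
⟨0,1,3,2,false,[.edge 3,.eqn 2 true,.eqn 1 false,.eqn 2 false,.edge 3],[]⟩,
⟨0,2,3,2,false,[.edge 4,.eqn 9 false,.eqn 8 true,.edge 4],[]⟩,
⟨0,1,3,2,false,[.edge 3,.eqn 0 false,.eqn 1 false,.eqn 0 false,.eqn 1 true,.eqn 0 true,.edge 3],[]⟩,
⟨0,2,3,2,false,[.edge 4,.eqn 11 false,.edge 4],[]⟩,
⟨0,1,3,2,false,[.edge 3,.eqn 0 false,.eqn 1 false,.eqn 2 false,.eqn 1 true,.eqn 0 true,.edge 3],[]⟩,
⟨0,2,3,2,false,[.edge 4,.eqn 7 false,.eqn 8 true,.eqn 13 true,.edge 4],[]⟩,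
⟨0,3,3,2,false,[.edge 5,.eqn 14 false,.eqn 10 true,.edge 5],[]⟩,
⟨416,2,4,2,false,[.edge 5,.eqn 6 false,.eqn 15 true,.eqn 6 false,.eqn 15 false,.eqn 6 true,.edge 5],[]⟩,
⟨928,1,4,2,false,[.edge 4,.eqn 16 false,.eqn 10 false,.eqn 16 true,.edge 4],[]⟩,
⟨0,0,0,3,false,[.edge 3,.eqn 17 false,.eqn 8 true,.edge 4,.eqn 16 false,.eqn 12 false,.eqn 14 false,.edge 5],[]⟩,
⟨0,0,1,5,false,[.edge 3,.code,.eqn 17 true,.eqn 8 false,.edge 4,.code,.code],[]⟩,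
⟨0,3,3,1,true,[.edge 5,.eqn 19 false],[.eqn 18 false]⟩,
⟨0,1,3,2,false,[.edge 3,.eqn 1 false,.edge 20],[]⟩]⟩

/-- Its last walk. -/
def m66 : List Move := [.edge 3,.eqn 21 true]

/-- A collapsing certificate. -/
def c67 : Cert := ⟨[⟨false,0,0⟩,⟨false,928,1⟩,⟨false,416,2⟩],[.edge 3,.code,.edge 4,.code,.edge 5],[
⟨0,1,3,2,false,[.edge 3,.eqn 1 false,.eqn 0 false,.eqn 1 true,.edge 3],[]⟩,
⟨0,1,3,2,false,[.edge 3,.eqn 1 false,.eqn 2 false,.eqn 1 true,.edge 3],[]⟩,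
⟨0,1,3,2,false,[.edge 3,.eqn 2 true,.eqn 1 false,.eqn 2 false,.edge 3],[]⟩,
⟨0,2,3,2,false,[.edge 4,.eqn 9 false,.eqn 8 true,.edge 4],[]⟩,
⟨0,1,3,2,false,[.edge 3,.eqn 0 false,.eqn 1 false,.eqn 0 false,.eqn 1 true,.eqn 0 true,.edge 3],[]⟩,
⟨0,2,3,2,false,[.edge 4,.eqn 11 false,.edge 4],[]⟩,
⟨0,1,3,2,false,[.edge 3,.eqn 0 false,.eqn 1 false,.eqn 2 false,.eqn 1 true,.eqn 0 true,.edge 3],[]⟩,
⟨0,2,3,2,false,[.edge 4,.eqn 7 false,.eqn 8 true,.eqn 13 true,.edge 4],[]⟩,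
⟨0,3,3,2,false,[.edge 5,.eqn 14 false,.eqn 10 true,.edge 5],[]⟩,
⟨416,2,4,2,false,[.edge 5,.eqn 6 false,.eqn 15 true,.eqn 6 false,.eqn 15 false,.eqn 6 true,.edge 5],[]⟩,
⟨928,1,4,2,false,[.edge 4,.eqn 16 false,.eqn 10 false,.eqn 16 true,.edge 4],[]⟩,
⟨0,0,0,3,false,[.edge 3,.eqn 17 false,.eqn 8 true,.edge 4,.eqn 16 false,.eqn 12 false,.eqn 14 false,.edge 5],[]⟩,
⟨0,0,1,5,false,[.edge 3,.code,.eqn 17 true,.eqn 8 false,.edge 4,.code,.code],[]⟩,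
⟨0,3,3,1,true,[.edge 5,.eqn 19 false],[.eqn 18 false]⟩,
⟨0,1,3,2,false,[.edge 3,.eqn 1 false,.edge 20],[]⟩]⟩

/-- Its last walk. -/
def m67 : List Move := [.edge 3,.eqn 21 true]

/-- A collapsing certificate. -/
def c68 : Cert := ⟨[⟨false,0,0⟩,⟨false,928,1⟩,⟨false,416,2⟩],[.edge 3,.code,.edge 4,.code,.edge 5],[
⟨0,1,3,2,false,[.edge 3,.eqn 1 false,.eqn 0 false,.eqn 1 true,.edge 3],[]⟩,
⟨0,1,3,2,false,[.edge 3,.eqn 1 false,.eqn 2 false,.eqn 1 true,.edge 3],[]⟩,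
⟨0,1,3,2,false,[.edge 3,.eqn 2 true,.eqn 1 false,.eqn 2 false,.edge 3],[]⟩,
⟨0,2,3,2,false,[.edge 4,.eqn 9 false,.eqn 8 true,.edge 4],[]⟩,
⟨0,1,3,2,false,[.edge 3,.eqn 0 false,.eqn 1 false,.eqn 0 false,.eqn 1 true,.eqn 0 true,.edge 3],[]⟩,
⟨0,2,3,2,false,[.edge 4,.eqn 11 false,.edge 4],[]⟩,
⟨0,1,3,2,false,[.edge 3,.eqn 0 false,.eqn 1 false,.eqn 2 false,.eqn 1 true,.eqn 0 true,.edge 3],[]⟩,
⟨0,2,3,2,false,[.edge 4,.eqn 7 false,.eqn 8 true,.eqn 13 true,.edge 4],[]⟩,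
⟨0,3,3,2,false,[.edge 5,.eqn 14 false,.eqn 10 true,.edge 5],[]⟩,
⟨416,2,4,2,false,[.edge 5,.eqn 6 false,.eqn 15 true,.eqn 6 false,.eqn 15 false,.eqn 6 true,.edge 5],[]⟩,
⟨928,1,4,2,false,[.edge 4,.eqn 16 false,.eqn 10 false,.eqn 16 false,.eqn 10 true,.eqn 16 true,.edge 4],[]⟩,
⟨0,0,0,3,false,[.edge 3,.eqn 17 false,.eqn 8 false,.edge 4,.eqn 16 false,.eqn 10 false,.eqn 12 false,.edge 5],[]⟩,
⟨0,0,1,5,false,[.edge 3,.code,.eqn 17 false,.eqn 13 true,.edge 4,.code,.code],[]⟩,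
⟨0,3,3,1,true,[.edge 5,.eqn 19 false],[.eqn 18 false]⟩,
⟨0,1,3,2,false,[.edge 3,.eqn 2 true,.edge 20],[]⟩]⟩

/-- Its last walk. -/
def m68 : List Move := [.edge 3,.eqn 21 true]

/-- A collapsing certificate. -/
def c69 : Cert := ⟨[⟨false,0,0⟩,⟨false,928,1⟩,⟨false,416,2⟩],[.edge 3,.code,.edge 4,.code,.edge 5],[
⟨0,1,3,2,false,[.edge 3,.eqn 1 false,.eqn 0 false,.eqn 1 true,.edge 3],[]⟩,
⟨0,1,3,2,false,[.edge 3,.eqn 1 false,.eqn 2 false,.eqn 1 true,.edge 3],[]⟩,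
⟨0,1,3,2,false,[.edge 3,.eqn 2 true,.eqn 1 false,.eqn 2 false,.edge 3],[]⟩,
⟨0,2,3,2,false,[.edge 4,.eqn 9 false,.eqn 8 true,.edge 4],[]⟩,
⟨0,1,3,2,false,[.edge 3,.eqn 0 false,.eqn 1 false,.eqn 0 false,.eqn 1 true,.eqn 0 true,.edge 3],[]⟩,
⟨0,2,3,2,false,[.edge 4,.eqn 11 false,.edge 4],[]⟩,
⟨0,1,3,2,false,[.edge 3,.eqn 0 false,.eqn 1 false,.eqn 2 false,.eqn 1 true,.eqn 0 true,.edge 3],[]⟩,
⟨0,2,3,2,false,[.edge 4,.eqn 7 false,.eqn 8 true,.eqn 13 true,.edge 4],[]⟩,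
⟨0,3,3,2,false,[.edge 5,.eqn 14 false,.eqn 10 true,.edge 5],[]⟩,
⟨416,2,4,2,false,[.edge 5,.eqn 6 false,.eqn 15 true,.eqn 6 false,.eqn 15 false,.eqn 6 true,.edge 5],[]⟩,
⟨928,1,4,2,false,[.edge 4,.eqn 16 false,.eqn 14 false,.eqn 12 true,.eqn 16 true,.edge 4],[]⟩,
⟨0,0,0,3,false,[.edge 3,.eqn 17 false,.eqn 7 false,.eqn 8 true,.edge 4,.eqn 16 false,.eqn 10 false,.edge 5],[]⟩,
⟨0,0,1,5,false,[.edge 3,.code,.eqn 17 false,.eqn 8 true,.edge 4,.code,.code],[]⟩,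
⟨0,3,3,1,true,[.edge 5,.eqn 19 false],[.eqn 18 false]⟩,
⟨0,1,3,2,false,[.edge 3,.eqn 1 false,.edge 20],[]⟩]⟩

/-- Its last walk. -/
def m69 : List Move := [.edge 3,.eqn 21 true]

/-- A collapsing certificate. -/
def c70 : Cert := ⟨[⟨false,0,0⟩,⟨false,928,1⟩,⟨false,416,2⟩],[.edge 3,.code,.edge 4,.code,.edge 5],[
⟨0,1,3,2,false,[.edge 3,.eqn 1 false,.eqn 0 false,.eqn 1 true,.edge 3],[]⟩,
⟨0,1,3,2,false,[.edge 3,.eqn 1 false,.eqn 2 false,.eqn 1 true,.edge 3],[]⟩,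
⟨0,1,3,2,false,[.edge 3,.eqn 2 true,.eqn 1 false,.eqn 2 false,.edge 3],[]⟩,
⟨0,2,3,2,false,[.edge 4,.eqn 9 false,.eqn 8 true,.edge 4],[]⟩,
⟨0,1,3,2,false,[.edge 3,.eqn 0 false,.eqn 1 false,.eqn 2 false,.eqn 1 true,.eqn 0 true,.edge 3],[]⟩,
⟨0,2,3,2,false,[.edge 4,.eqn 7 false,.eqn 8 true,.eqn 11 true,.edge 4],[]⟩,
⟨0,3,3,2,false,[.edge 5,.eqn 12 false,.eqn 10 true,.edge 5],[]⟩,
⟨416,2,4,2,false,[.edge 5,.eqn 6 false,.eqn 13 true,.eqn 6 false,.eqn 13 false,.eqn 6 true,.edge 5],[]⟩,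
⟨928,1,4,2,false,[.edge 4,.eqn 14 false,.eqn 12 false,.eqn 14 false,.eqn 12 true,.eqn 14 true,.edge 4],[]⟩,
⟨0,0,0,3,false,[.edge 3,.eqn 15 false,.eqn 8 false,.edge 4,.eqn 14 false,.eqn 12 false,.edge 5],[]⟩,
⟨0,0,1,5,false,[.edge 3,.code,.eqn 15 false,.eqn 11 true,.edge 4,.code,.code],[]⟩,
⟨0,3,3,1,true,[.edge 5,.eqn 17 false],[.eqn 16 false]⟩,
⟨0,1,3,2,false,[.edge 3,.eqn 0 false,.eqn 2 true,.edge 18],[]⟩]⟩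

/-- Its last walk. -/
def m70 : List Move := [.edge 3,.eqn 19 true]

/-- A collapsing certificate. -/
def c71 : Cert := ⟨[⟨false,0,0⟩,⟨false,928,1⟩,⟨false,416,2⟩],[.edge 3,.code,.edge 4,.code,.edge 5],[
⟨0,1,3,2,false,[.edge 3,.eqn 1 false,.eqn 0 false,.eqn 1 true,.edge 3],[]⟩,
⟨0,1,3,2,false,[.edge 3,.eqn 1 false,.eqn 2 false,.eqn 1 true,.edge 3],[]⟩,
⟨0,1,3,2,false,[.edge 3,.eqn 2 true,.eqn 1 false,.eqn 2 false,.edge 3],[]⟩,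
⟨0,2,3,2,false,[.edge 4,.eqn 9 false,.eqn 8 true,.edge 4],[]⟩,
⟨0,1,3,2,false,[.edge 3,.eqn 0 false,.eqn 1 false,.eqn 2 false,.eqn 1 true,.eqn 0 true,.edge 3],[]⟩,
⟨0,2,3,2,false,[.edge 4,.eqn 7 false,.eqn 8 true,.eqn 11 true,.edge 4],[]⟩,
⟨0,3,3,2,false,[.edge 5,.eqn 12 false,.eqn 10 true,.edge 5],[]⟩,
⟨416,2,4,2,false,[.edge 5,.eqn 6 false,.eqn 13 true,.eqn 6 false,.eqn 13 false,.eqn 6 true,.edge 5],[]⟩,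
⟨928,1,4,2,false,[.edge 4,.eqn 14 false,.eqn 12 false,.eqn 14 false,.eqn 12 true,.eqn 14 true,.edge 4],[]⟩,
⟨0,0,0,3,false,[.edge 3,.eqn 15 false,.eqn 8 false,.edge 4,.eqn 14 false,.eqn 12 false,.edge 5],[]⟩,
⟨0,0,1,5,false,[.edge 3,.code,.eqn 15 false,.eqn 11 true,.edge 4,.code,.code],[]⟩,
⟨0,3,3,1,true,[.edge 5,.eqn 17 false],[.eqn 16 false]⟩,
⟨0,1,3,2,false,[.edge 3,.eqn 0 false,.eqn 2 true,.edge 18],[]⟩]⟩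

/-- Its last walk. -/
def m71 : List Move := [.edge 3,.eqn 19 true]

/-- A collapsing certificate. -/
def c72 : Cert := ⟨[⟨false,0,0⟩,⟨false,928,1⟩,⟨false,416,2⟩],[.edge 3,.code,.edge 4,.code,.edge 5],[
⟨0,1,3,2,false,[.edge 3,.eqn 1 false,.eqn 0 false,.eqn 1 true,.edge 3],[]⟩,
⟨0,1,3,2,false,[.edge 3,.eqn 1 false,.eqn 2 false,.eqn 1 true,.edge 3],[]⟩,
⟨0,1,3,2,false,[.edge 3,.eqn 2 true,.eqn 1 false,.eqn 2 false,.edge 3],[]⟩,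
⟨0,2,3,2,false,[.edge 4,.eqn 9 false,.eqn 8 true,.edge 4],[]⟩,
⟨0,1,3,2,false,[.edge 3,.eqn 0 false,.eqn 1 false,.eqn 0 false,.eqn 1 true,.eqn 0 true,.edge 3],[]⟩,
⟨0,2,3,2,false,[.edge 4,.eqn 11 false,.edge 4],[]⟩,
⟨0,1,3,2,false,[.edge 3,.eqn 0 false,.eqn 1 false,.eqn 2 false,.eqn 1 true,.eqn 0 true,.edge 3],[]⟩,
⟨0,2,3,2,false,[.edge 4,.eqn 7 false,.eqn 8 true,.eqn 13 true,.edge 4],[]⟩,
⟨0,3,3,2,false,[.edge 5,.eqn 14 false,.eqn 10 true,.edge 5],[]⟩,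
⟨416,2,4,2,false,[.edge 5,.eqn 6 false,.eqn 15 true,.eqn 6 false,.eqn 15 false,.eqn 6 true,.edge 5],[]⟩,
⟨928,1,4,2,false,[.edge 4,.eqn 16 false,.eqn 14 false,.eqn 12 true,.eqn 16 true,.edge 4],[]⟩,
⟨0,0,0,3,false,[.edge 3,.eqn 17 false,.eqn 7 false,.eqn 8 true,.edge 4,.eqn 16 false,.eqn 10 false,.edge 5],[]⟩,
⟨0,0,1,5,false,[.edge 3,.code,.eqn 17 false,.eqn 8 true,.edge 4,.code,.code],[]⟩,
⟨0,3,3,1,true,[.edge 5,.eqn 19 false],[.eqn 18 false]⟩,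
⟨0,1,3,2,false,[.edge 3,.eqn 1 false,.edge 20],[]⟩]⟩

/-- Its last walk. -/
def m72 : List Move := [.edge 3,.eqn 21 true]

/-- A collapsing certificate. -/
def c73 : Cert := ⟨[⟨false,0,0⟩,⟨false,928,1⟩,⟨false,416,2⟩],[.edge 3,.code,.edge 4,.code,.edge 5],[
⟨0,1,3,2,false,[.edge 3,.eqn 1 false,.eqn 0 false,.eqn 1 true,.edge 3],[]⟩,
⟨0,1,3,2,false,[.edge 3,.eqn 1 false,.eqn 2 false,.eqn 1 true,.edge 3],[]⟩,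
⟨0,1,3,2,false,[.edge 3,.eqn 2 true,.eqn 1 false,.eqn 2 false,.edge 3],[]⟩,
⟨0,2,3,2,false,[.edge 4,.eqn 9 false,.eqn 8 true,.edge 4],[]⟩,
⟨0,1,3,2,false,[.edge 3,.eqn 0 false,.eqn 1 false,.eqn 0 false,.eqn 1 true,.eqn 0 true,.edge 3],[]⟩,
⟨0,2,3,2,false,[.edge 4,.eqn 11 false,.edge 4],[]⟩,
⟨0,1,3,2,false,[.edge 3,.eqn 0 false,.eqn 1 false,.eqn 2 false,.eqn 1 true,.eqn 0 true,.edge 3],[]⟩,
⟨0,2,3,2,false,[.edge 4,.eqn 7 false,.eqn 8 true,.eqn 13 true,.edge 4],[]⟩,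
⟨0,3,3,2,false,[.edge 5,.eqn 14 false,.eqn 10 true,.edge 5],[]⟩,
⟨416,2,4,2,false,[.edge 5,.eqn 6 false,.eqn 15 true,.eqn 6 false,.eqn 15 false,.eqn 6 true,.edge 5],[]⟩,
⟨928,1,4,2,false,[.edge 4,.eqn 16 false,.eqn 10 false,.eqn 16 false,.eqn 10 true,.eqn 16 true,.edge 4],[]⟩,
⟨0,0,0,3,false,[.edge 3,.eqn 17 false,.eqn 8 false,.edge 4,.eqn 16 false,.eqn 10 false,.eqn 12 false,.edge 5],[]⟩,
⟨0,0,1,5,false,[.edge 3,.code,.eqn 17 false,.eqn 13 true,.edge 4,.code,.code],[]⟩,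
⟨0,3,3,1,true,[.edge 5,.eqn 19 false],[.eqn 18 false]⟩,
⟨0,1,3,2,false,[.edge 3,.eqn 2 true,.edge 20],[]⟩]⟩

/-- Its last walk. -/
def m73 : List Move := [.edge 3,.eqn 21 true]

/-- A collapsing certificate. -/
def c74 : Cert := ⟨[⟨false,0,0⟩,⟨false,928,1⟩,⟨false,416,2⟩,⟨false,0,1⟩,⟨true,765,1⟩,⟨true,1632,5⟩,⟨false,4,5⟩,⟨false,416,7⟩,⟨true,1056,8⟩,⟨true,416,9⟩,⟨true,1632,10⟩,⟨true,1914,6⟩,⟨false,270,6⟩],[.edge 3,.code,.edge 4,.code,.edge 5],[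
⟨0,1,3,2,false,[.edge 3,.eqn 1 false,.eqn 0 false,.eqn 1 true,.edge 3],[]⟩,
⟨0,1,3,2,false,[.edge 3,.eqn 1 false,.eqn 2 false,.eqn 1 true,.edge 3],[]⟩,
⟨0,1,3,2,false,[.edge 3,.eqn 2 true,.eqn 1 false,.eqn 2 false,.edge 3],[]⟩,
⟨0,2,3,2,false,[.edge 4,.eqn 19 false,.eqn 18 true,.edge 4],[]⟩,
⟨0,1,3,2,false,[.edge 3,.eqn 0 false,.eqn 1 false,.eqn 0 false,.eqn 1 true,.eqn 0 true,.edge 3],[]⟩,
⟨0,1,3,2,false,[.edge 3,.eqn 0 false,.eqn 1 false,.eqn 2 false,.eqn 1 true,.eqn 0 true,.edge 3],[]⟩,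
⟨0,0,0,2,true,[.edge 3,.edge 6],[]⟩,
⟨0,0,1,2,false,[.edge 3,.code],[.code,.code,.eqn 0 false,.edge 23]⟩,
⟨0,0,3,1,true,[.edge 23,.eqn 24 true],[]⟩,
⟨0,4,3,1,true,[.edge 6],[.eqn 24 true]⟩,
⟨0,0,2,21,false,[.code,.eqn 2 true,.edge 23,.eqn 24 true,.code,.edge 7,.code,.edge 8,.code,.edge 8,.code,.edge 9,.code,.edge 10,.code,.edge 11,.code,.edge 12,.code,.edge 13,.code,.edge 13,.code],[.edge 23,.eqn 24 true,.code,.eqn 17 false,.eqn 18 true,.edge 7]⟩,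
⟨1632,10,3,1,true,[.edge 13],[.eqn 27 false]⟩,
⟨0,5,4,2,false,[.edge 7,.eqn 19 false,.eqn 18 false,.edge 7],[]⟩,
⟨0,5,4,2,false,[.edge 7,.eqn 21 false,.edge 7],[]⟩,
⟨0,5,4,2,false,[.edge 7,.eqn 22 false,.edge 7],[]⟩,
⟨0,6,4,2,false,[.edge 8,.eqn 30 false,.eqn 31 false,.edge 28],[]⟩,
⟨0,1,2,11,true,[.code,.eqn 19 false,.eqn 18 true,.edge 7,.code,.eqn 29 true,.edge 28,.eqn 32 false,.code,.edge 14,.code,.edge 14,.code,.edge 15,.code],[.edge 3,.code,.eqn 1 false,.edge 23,.eqn 24 true,.code,.edge 7,.code,.edge 7,.code,.edge 6,.eqn 24 true,.code,.eqn 18 true,.edge 4,.code]⟩,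
⟨416,13,4,2,false,[.edge 33,.eqn 20 false,.edge 33],[]⟩,
⟨270,6,4,2,false,[.edge 15,.eqn 34 false,.edge 15],[]⟩,
⟨1632,5,3,2,false,[.edge 8,.eqn 35 false,.edge 8],[]⟩,
⟨765,1,3,2,false,[.edge 7,.eqn 36 true,.eqn 29 false,.eqn 31 true,.eqn 36 true,.edge 7],[]⟩,
⟨0,0,3,2,false,[.edge 25,.eqn 37 false,.eqn 37 false,.edge 26],[]⟩]⟩

/-- Its last walk. -/
def m74 : List Move := [.edge 3,.eqn 38 false]

/-- A collapsing certificate. -/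
def c75 : Cert := ⟨[⟨false,0,0⟩,⟨false,928,1⟩,⟨false,416,2⟩,⟨false,0,1⟩,⟨true,410,1⟩,⟨true,1632,5⟩,⟨false,4,5⟩,⟨false,416,7⟩,⟨true,1824,6⟩,⟨false,228,6⟩],[.edge 3,.code,.edge 4,.code,.edge 5],[
⟨0,1,3,2,false,[.edge 3,.eqn 1 false,.eqn 0 false,.eqn 1 true,.edge 3],[]⟩,
⟨0,1,3,2,false,[.edge 3,.eqn 1 false,.eqn 2 false,.eqn 1 true,.edge 3],[]⟩,
⟨0,1,3,2,false,[.edge 3,.eqn 2 true,.eqn 1 false,.eqn 2 false,.edge 3],[]⟩,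
⟨0,2,3,2,false,[.edge 4,.eqn 16 false,.eqn 15 true,.edge 4],[]⟩,
⟨0,1,3,2,false,[.edge 3,.eqn 0 false,.eqn 1 false,.eqn 0 false,.eqn 1 true,.eqn 0 true,.edge 3],[]⟩,
⟨0,1,3,2,false,[.edge 3,.eqn 0 false,.eqn 1 false,.eqn 2 false,.eqn 1 true,.eqn 0 true,.edge 3],[]⟩,
⟨0,2,3,2,false,[.edge 4,.eqn 14 false,.eqn 15 true,.eqn 19 true,.edge 4],[]⟩,
⟨0,0,0,2,true,[.edge 3,.edge 6],[]⟩,
⟨0,0,1,2,false,[.edge 3,.code],[.code,.code,.eqn 0 false,.edge 21]⟩,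
⟨0,0,3,1,true,[.edge 21,.eqn 22 true],[]⟩,
⟨0,4,3,1,true,[.edge 6],[.eqn 22 true]⟩,
⟨0,5,4,2,false,[.edge 7,.eqn 18 false,.edge 7],[]⟩,
⟨0,5,4,2,false,[.edge 7,.eqn 14 false,.eqn 16 false,.eqn 19 true,.edge 7],[]⟩,
⟨0,1,2,11,true,[.code,.eqn 19 true,.edge 7,.code,.eqn 25 false,.edge 8,.code,.edge 11,.code,.edge 11,.code,.edge 12,.code],[.edge 3,.code,.eqn 1 false,.edge 21,.eqn 22 true,.code,.eqn 15 false,.edge 7,.code,.edge 7,.code,.edge 6,.eqn 22 true,.code,.eqn 15 true,.edge 4,.code]⟩,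
⟨416,10,4,2,false,[.edge 27,.eqn 20 true,.eqn 17 false,.edge 27],[]⟩,
⟨228,6,4,2,false,[.edge 12,.eqn 28 false,.edge 12],[]⟩,
⟨1632,5,3,2,false,[.edge 8,.eqn 29 false,.edge 8],[]⟩,
⟨410,1,3,2,false,[.edge 7,.eqn 30 false,.eqn 26 false,.eqn 25 true,.eqn 30 true,.edge 7],[]⟩,
⟨0,0,3,2,false,[.edge 23,.eqn 31 false,.eqn 14 false,.eqn 31 true,.edge 24],[]⟩]⟩

/-- Its last walk. -/
def m75 : List Move := [.edge 3,.eqn 32 false]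

/-- A collapsing certificate. -/
def c76 : Cert := ⟨[⟨false,0,0⟩,⟨false,928,1⟩,⟨false,416,2⟩],[.edge 3,.code,.edge 4,.code,.edge 5],[
⟨0,1,3,2,false,[.edge 3,.eqn 1 false,.eqn 0 false,.eqn 1 true,.edge 3],[]⟩,
⟨0,1,3,2,false,[.edge 3,.eqn 1 false,.eqn 2 false,.eqn 1 true,.edge 3],[]⟩,
⟨0,1,3,2,false,[.edge 3,.eqn 2 true,.eqn 1 false,.eqn 2 false,.edge 3],[]⟩,
⟨0,2,3,2,false,[.edge 4,.eqn 9 false,.eqn 8 true,.edge 4],[]⟩,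
⟨0,1,3,2,false,[.edge 3,.eqn 0 false,.eqn 1 false,.eqn 2 false,.eqn 1 true,.eqn 0 true,.edge 3],[]⟩,
⟨0,2,3,2,false,[.edge 4,.eqn 7 false,.eqn 8 true,.eqn 11 true,.edge 4],[]⟩,
⟨0,3,3,2,false,[.edge 5,.eqn 12 false,.eqn 10 true,.edge 5],[]⟩,
⟨416,2,4,2,false,[.edge 5,.eqn 6 false,.eqn 13 false,.eqn 6 false,.eqn 13 false,.eqn 6 true,.edge 5],[]⟩,
⟨0,3,3,2,false,[.edge 5,.eqn 10 false,.eqn 14 false,.eqn 10 false,.edge 5],[]⟩,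
⟨928,1,4,2,false,[.edge 4,.eqn 14 false,.eqn 10 false,.eqn 14 true,.edge 4],[]⟩,
⟨416,2,4,2,false,[.edge 5,.eqn 6 false,.eqn 15 true,.eqn 13 true,.eqn 6 true,.edge 5],[]⟩,
⟨0,0,0,3,false,[.edge 3,.eqn 16 false,.eqn 7 false,.eqn 8 true,.edge 4,.eqn 17 false,.eqn 12 false,.edge 5],[]⟩,
⟨0,0,1,5,false,[.edge 3,.code,.eqn 16 false,.eqn 8 true,.edge 4,.code,.code],[]⟩,
⟨0,3,3,1,true,[.edge 5,.eqn 19 false],[.eqn 18 false]⟩,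
⟨0,1,3,2,false,[.edge 3,.eqn 1 false,.edge 20],[]⟩]⟩

/-- Its last walk. -/
def m76 : List Move := [.edge 3,.eqn 21 true]

/-- A collapsing certificate. -/
def c77 : Cert := ⟨[⟨false,0,0⟩,⟨false,928,1⟩,⟨false,416,2⟩,⟨false,0,1⟩,⟨true,497,1⟩,⟨true,1632,5⟩,⟨false,4,5⟩,⟨false,416,7⟩,⟨true,1069,8⟩,⟨true,416,9⟩,⟨true,1632,10⟩,⟨true,1914,6⟩,⟨false,270,6⟩,⟨true,1893,6⟩],[.edge 3,.code,.edge 4,.code,.edge 5],[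
⟨0,1,3,2,false,[.edge 3,.eqn 1 false,.eqn 0 false,.eqn 1 true,.edge 3],[]⟩,
⟨0,1,3,2,false,[.edge 3,.eqn 1 false,.eqn 2 false,.eqn 1 true,.edge 3],[]⟩,
⟨0,1,3,2,false,[.edge 3,.eqn 2 true,.eqn 1 false,.eqn 2 false,.edge 3],[]⟩,
⟨0,2,3,2,false,[.edge 4,.eqn 20 false,.eqn 19 true,.edge 4],[]⟩,
⟨0,1,3,2,false,[.edge 3,.eqn 0 false,.eqn 1 false,.eqn 0 false,.eqn 1 true,.eqn 0 true,.edge 3],[]⟩,
⟨0,2,3,2,false,[.edge 4,.eqn 22 false,.edge 4],[]⟩,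
⟨0,1,3,2,false,[.edge 3,.eqn 0 false,.eqn 1 false,.eqn 2 false,.eqn 1 true,.eqn 0 true,.edge 3],[]⟩,
⟨0,0,0,2,true,[.edge 3,.edge 6],[]⟩,
⟨0,0,1,2,false,[.edge 3,.code],[.code,.code,.eqn 0 false,.edge 25]⟩,
⟨0,0,3,1,true,[.edge 25,.eqn 26 true],[]⟩,
⟨0,4,3,1,true,[.edge 6],[.eqn 26 true]⟩,
⟨0,0,2,21,false,[.code,.eqn 2 true,.edge 25,.eqn 26 true,.code,.edge 7,.code,.edge 8,.code,.edge 8,.code,.edge 9,.code,.edge 10,.code,.edge 11,.code,.edge 12,.code,.edge 13,.code,.edge 13,.code],[.edge 25,.eqn 26 true,.code,.eqn 24 false,.edge 7]⟩,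
⟨416,9,3,1,true,[.edge 12,.eqn 29 false],[]⟩,
⟨1632,10,3,1,true,[.edge 13],[.eqn 29 false]⟩,
⟨0,5,4,2,false,[.edge 7,.eqn 19 false,.edge 7],[]⟩,
⟨0,7,3,2,false,[.edge 9,.eqn 32 false,.edge 9],[]⟩,
⟨416,9,3,2,false,[.edge 30,.edge 9],[]⟩,
⟨1069,8,3,1,true,[.edge 11,.eqn 34 true],[]⟩,
⟨0,5,4,2,false,[.edge 7,.eqn 22 false,.edge 7],[]⟩,
⟨0,7,3,2,false,[.edge 9,.eqn 36 false,.edge 9],[]⟩,
⟨0,6,4,2,false,[.edge 8,.eqn 32 true,.eqn 36 false,.edge 31],[]⟩,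
⟨0,8,3,2,false,[.edge 10,.eqn 33 false,.eqn 37 false,.edge 35],[]⟩,
⟨0,5,4,2,false,[.edge 7,.eqn 18 false,.eqn 20 false,.eqn 24 false,.edge 7],[]⟩,
⟨0,6,4,2,false,[.edge 8,.eqn 40 false,.eqn 36 true,.edge 8],[]⟩,
⟨0,1,2,11,true,[.code,.edge 7,.code,.eqn 40 false,.edge 31,.eqn 38 false,.code,.edge 14,.code,.edge 14,.code,.edge 15,.code],[.edge 3,.code,.eqn 1 false,.edge 25,.eqn 26 true,.code,.eqn 19 false,.eqn 20 false,.edge 7,.code,.edge 7,.code,.edge 6,.eqn 26 true,.code,.eqn 24 true,.edge 4,.code]⟩,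
⟨0,13,3,2,false,[.edge 15,.eqn 41 false,.edge 15],[]⟩,
⟨2,1,2,11,true,[.code,.eqn 18 false,.edge 7,.code,.eqn 32 true,.edge 8,.code,.edge 16,.code,.edge 16,.code,.edge 15,.code],[.edge 28,.code,.eqn 20 false,.edge 7,.code,.edge 8,.code,.edge 8,.code,.edge 9,.code,.eqn 37 false,.edge 10,.code]⟩,
⟨384,1,1,2,false,[.eqn 19 false,.edge 4,.code],[.code,.code,.eqn 24 false,.edge 7]⟩,
⟨497,1,3,1,true,[.edge 7,.eqn 45 true],[]⟩,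
⟨1632,5,3,1,true,[.edge 8],[.eqn 45 true]⟩,
⟨416,13,4,2,false,[.edge 42,.eqn 21 true,.edge 47],[]⟩,
⟨1081,8,3,1,true,[.edge 44,.eqn 48 true],[]⟩,
⟨0,13,3,1,true,[.edge 15],[.eqn 48 true]⟩,
⟨288,13,5,0,false,[.eqn 43 false,.eqn 48 true],[.eqn 48 true]⟩,
⟨1081,8,3,2,false,[.edge 49,.edge 50],[]⟩,
⟨480,8,5,0,false,[.eqn 39 false,.eqn 52 true],[.eqn 52 true]⟩,
⟨636,6,3,2,false,[.edge 50,.eqn 51 false,.eqn 41 false,.eqn 53 false,.edge 47],[]⟩,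
⟨44,6,5,0,false,[.eqn 41 false,.eqn 54 true],[.eqn 54 true]⟩,
⟨497,1,3,2,false,[.edge 46,.eqn 55 true,.eqn 23 false,.edge 5],[]⟩,
⟨1069,3,5,0,false,[.eqn 17 false,.eqn 56 false],[.eqn 56 false]⟩,
⟨0,0,3,2,false,[.edge 27,.eqn 57 false,.eqn 18 false,.eqn 57 false,.edge 28],[]⟩]⟩

/-- Its last walk. -/
def m77 : List Move := [.edge 3,.eqn 58 false]

/-- A collapsing certificate. -/
def c78 : Cert := ⟨[⟨false,0,0⟩,⟨false,928,1⟩,⟨false,416,2⟩,⟨false,0,1⟩,⟨true,767,1⟩,⟨true,1632,5⟩,⟨false,4,5⟩,⟨false,416,7⟩,⟨true,1072,8⟩,⟨true,416,9⟩,⟨true,1632,10⟩,⟨true,1855,6⟩,⟨false,229,6⟩],[.edge 3,.code,.edge 4,.code,.edge 5],[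
⟨0,1,3,2,false,[.edge 3,.eqn 1 false,.eqn 0 false,.eqn 1 true,.edge 3],[]⟩,
⟨0,1,3,2,false,[.edge 3,.eqn 1 false,.eqn 2 false,.eqn 1 true,.edge 3],[]⟩,
⟨0,1,3,2,false,[.edge 3,.eqn 2 true,.eqn 1 false,.eqn 2 false,.edge 3],[]⟩,
⟨0,2,3,2,false,[.edge 4,.eqn 19 false,.eqn 18 true,.edge 4],[]⟩,
⟨0,1,3,2,false,[.edge 3,.eqn 0 false,.eqn 1 false,.eqn 0 false,.eqn 1 true,.eqn 0 true,.edge 3],[]⟩,
⟨0,1,3,2,false,[.edge 3,.eqn 0 false,.eqn 1 false,.eqn 2 false,.eqn 1 true,.eqn 0 true,.edge 3],[]⟩,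
⟨0,0,0,2,true,[.edge 3,.edge 6],[]⟩,
⟨0,0,1,2,false,[.edge 3,.code],[.code,.code,.eqn 0 false,.edge 23]⟩,
⟨0,0,3,1,true,[.edge 23,.eqn 24 true],[]⟩,
⟨0,4,3,1,true,[.edge 6],[.eqn 24 true]⟩,
⟨0,0,2,21,false,[.code,.eqn 2 true,.edge 23,.eqn 24 true,.code,.edge 7,.code,.edge 8,.code,.edge 8,.code,.edge 9,.code,.edge 10,.code,.edge 11,.code,.edge 12,.code,.edge 13,.code,.edge 13,.code],[.edge 23,.eqn 24 true,.code,.eqn 18 true,.edge 7]⟩,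
⟨1632,10,3,1,true,[.edge 13],[.eqn 27 false]⟩,
⟨0,5,4,2,false,[.edge 7,.eqn 19 false,.eqn 18 false,.edge 7],[]⟩,
⟨0,5,4,2,false,[.edge 7,.eqn 21 false,.edge 7],[]⟩,
⟨0,5,4,2,false,[.edge 7,.eqn 22 false,.edge 7],[]⟩,
⟨0,6,4,2,false,[.edge 8,.eqn 31 false,.edge 28],[]⟩,
⟨0,1,2,11,true,[.code,.eqn 22 true,.eqn 18 true,.edge 7,.code,.eqn 30 false,.edge 28,.eqn 32 false,.code,.edge 14,.code,.edge 14,.code,.edge 15,.code],[.edge 3,.code,.eqn 1 false,.edge 23,.eqn 24 true,.code,.eqn 17 false,.edge 7,.code,.edge 7,.code,.edge 6,.eqn 24 true,.code,.eqn 18 true,.edge 4,.code]⟩,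
⟨416,13,4,2,false,[.edge 33,.eqn 20 false,.edge 33],[]⟩,
⟨229,6,4,2,false,[.edge 15,.eqn 34 false,.edge 15],[]⟩,
⟨1632,5,3,2,false,[.edge 8,.eqn 35 false,.edge 8],[]⟩,
⟨767,1,3,2,false,[.edge 7,.eqn 36 true,.eqn 29 true,.eqn 30 true,.eqn 36 true,.edge 7],[]⟩,
⟨0,0,3,2,false,[.edge 25,.eqn 37 false,.eqn 17 false,.eqn 37 true,.edge 26],[]⟩]⟩

/-- Its last walk. -/
def m78 : List Move := [.edge 3,.eqn 38 false]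

/-- A collapsing certificate. -/
def c79 : Cert := ⟨[⟨false,0,0⟩,⟨false,928,1⟩,⟨false,416,2⟩,⟨false,0,1⟩,⟨true,392,1⟩,⟨true,1632,5⟩,⟨false,4,5⟩,⟨false,416,7⟩,⟨true,1077,8⟩,⟨true,416,9⟩,⟨true,1632,10⟩,⟨true,1824,6⟩,⟨false,228,6⟩],[.edge 3,.code,.edge 4,.code,.edge 5],[
⟨0,1,3,2,false,[.edge 3,.eqn 1 false,.eqn 0 false,.eqn 1 true,.edge 3],[]⟩,
⟨0,1,3,2,false,[.edge 3,.eqn 1 false,.eqn 2 false,.eqn 1 true,.edge 3],[]⟩,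
⟨0,1,3,2,false,[.edge 3,.eqn 2 true,.eqn 1 false,.eqn 2 false,.edge 3],[]⟩,
⟨0,2,3,2,false,[.edge 4,.eqn 19 false,.eqn 18 true,.edge 4],[]⟩,
⟨0,1,3,2,false,[.edge 3,.eqn 0 false,.eqn 1 false,.eqn 0 false,.eqn 1 true,.eqn 0 true,.edge 3],[]⟩,
⟨0,1,3,2,false,[.edge 3,.eqn 0 false,.eqn 1 false,.eqn 2 false,.eqn 1 true,.eqn 0 true,.edge 3],[]⟩,
⟨0,2,3,2,false,[.edge 4,.eqn 17 false,.eqn 18 true,.eqn 22 true,.edge 4],[]⟩,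
⟨0,0,0,2,true,[.edge 3,.edge 6],[]⟩,
⟨0,0,1,2,false,[.edge 3,.code],[.code,.code,.eqn 0 false,.edge 24]⟩,
⟨0,0,3,1,true,[.edge 24,.eqn 25 true],[]⟩,
⟨0,4,3,1,true,[.edge 6],[.eqn 25 true]⟩,
⟨0,0,2,21,false,[.code,.eqn 0 false,.eqn 2 true,.edge 24,.eqn 25 true,.code,.edge 7,.code,.edge 8,.code,.edge 8,.code,.edge 9,.code,.edge 10,.code,.edge 11,.code,.edge 12,.code,.edge 13,.code,.edge 13,.code],[.edge 24,.eqn 25 true,.code,.edge 7]⟩,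
⟨1632,10,3,1,true,[.edge 13],[.eqn 28 false]⟩,
⟨0,5,4,2,false,[.edge 7,.eqn 21 false,.edge 7],[]⟩,
⟨0,6,4,2,false,[.edge 8,.eqn 30 false,.edge 29],[]⟩,
⟨0,5,4,2,false,[.edge 7,.eqn 17 false,.eqn 19 false,.eqn 22 true,.edge 7],[]⟩,
⟨0,1,2,11,true,[.code,.eqn 19 false,.edge 7,.code,.eqn 32 true,.edge 29,.eqn 31 false,.code,.edge 14,.code,.edge 14,.code,.edge 15,.code],[.edge 3,.code,.eqn 1 false,.edge 24,.eqn 25 true,.code,.eqn 17 false,.eqn 18 false,.edge 7,.code,.edge 7,.code,.edge 6,.eqn 25 true,.code,.eqn 18 true,.edge 4,.code]⟩,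
⟨416,13,4,2,false,[.edge 33,.eqn 23 true,.eqn 20 false,.edge 33],[]⟩,
⟨228,6,4,2,false,[.edge 15,.eqn 34 false,.edge 15],[]⟩,
⟨1632,5,3,2,false,[.edge 8,.eqn 35 false,.edge 8],[]⟩,
⟨392,1,3,2,false,[.edge 7,.eqn 36 false,.eqn 32 false,.eqn 30 true,.eqn 36 true,.edge 7],[]⟩,
⟨0,0,3,2,false,[.edge 26,.eqn 37 false,.eqn 17 false,.eqn 37 true,.edge 27],[]⟩]⟩

/-- Its last walk. -/
def m79 : List Move := [.edge 3,.eqn 38 false]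

/-- A collapsing certificate. -/
def c80 : Cert := ⟨[⟨false,0,0⟩,⟨false,928,1⟩,⟨false,416,2⟩],[.edge 3,.code,.edge 4,.code,.edge 5],[
⟨0,1,3,2,false,[.edge 3,.eqn 1 false,.eqn 0 false,.eqn 1 true,.edge 3],[]⟩,
⟨0,1,3,2,false,[.edge 3,.eqn 1 false,.eqn 2 false,.eqn 1 true,.edge 3],[]⟩,
⟨0,1,3,2,false,[.edge 3,.eqn 2 true,.eqn 1 false,.eqn 2 false,.edge 3],[]⟩,
⟨0,2,3,2,false,[.edge 4,.eqn 9 false,.eqn 8 true,.edge 4],[]⟩,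
⟨0,1,3,2,false,[.edge 3,.eqn 0 false,.eqn 1 false,.eqn 2 false,.eqn 1 true,.eqn 0 true,.edge 3],[]⟩,
⟨0,2,3,2,false,[.edge 4,.eqn 7 false,.eqn 8 true,.eqn 11 true,.edge 4],[]⟩,
⟨0,3,3,2,false,[.edge 5,.eqn 12 false,.eqn 10 true,.edge 5],[]⟩,
⟨416,2,4,2,false,[.edge 5,.eqn 6 false,.eqn 13 false,.eqn 6 false,.eqn 13 false,.eqn 6 true,.edge 5],[]⟩,
⟨0,3,3,2,false,[.edge 5,.eqn 10 false,.eqn 14 false,.eqn 10 false,.edge 5],[]⟩,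
⟨928,1,4,2,false,[.edge 4,.eqn 14 false,.eqn 10 false,.eqn 14 true,.edge 4],[]⟩,
⟨416,2,4,2,false,[.edge 5,.eqn 6 false,.eqn 15 true,.eqn 13 true,.eqn 6 true,.edge 5],[]⟩,
⟨0,0,0,3,false,[.edge 3,.eqn 16 false,.eqn 7 false,.eqn 8 true,.edge 4,.eqn 17 false,.eqn 12 false,.edge 5],[]⟩,
⟨0,0,1,5,false,[.edge 3,.code,.eqn 16 false,.eqn 8 true,.edge 4,.code,.code],[]⟩,
⟨0,3,3,1,true,[.edge 5,.eqn 19 false],[.eqn 18 false]⟩,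
⟨0,1,3,2,false,[.edge 3,.eqn 1 false,.edge 20],[]⟩]⟩

/-- Its last walk. -/
def m80 : List Move := [.edge 3,.eqn 21 true]

/-- A collapsing certificate. -/
def c81 : Cert := ⟨[⟨false,0,0⟩,⟨false,928,1⟩,⟨false,416,2⟩],[.edge 3,.code,.edge 4,.code,.edge 5],[
⟨0,1,3,2,false,[.edge 3,.eqn 1 false,.eqn 0 false,.eqn 1 true,.edge 3],[]⟩,
⟨0,1,3,2,false,[.edge 3,.eqn 1 false,.eqn 2 false,.eqn 1 true,.edge 3],[]⟩,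
⟨0,1,3,2,false,[.edge 3,.eqn 2 true,.eqn 1 false,.eqn 2 false,.edge 3],[]⟩,
⟨0,2,3,2,false,[.edge 4,.eqn 9 false,.eqn 8 true,.edge 4],[]⟩,
⟨0,1,3,2,false,[.edge 3,.eqn 0 false,.eqn 1 false,.eqn 0 false,.eqn 1 true,.eqn 0 true,.edge 3],[]⟩,
⟨0,2,3,2,false,[.edge 4,.eqn 11 false,.edge 4],[]⟩,
⟨0,1,3,2,false,[.edge 3,.eqn 0 false,.eqn 1 false,.eqn 2 false,.eqn 1 true,.eqn 0 true,.edge 3],[]⟩,
⟨0,2,3,2,false,[.edge 4,.eqn 7 false,.eqn 8 true,.eqn 13 true,.edge 4],[]⟩,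
⟨0,3,3,2,false,[.edge 5,.eqn 14 false,.eqn 10 true,.edge 5],[]⟩,
⟨416,2,4,2,false,[.edge 5,.eqn 6 false,.eqn 15 false,.eqn 6 true,.edge 5],[]⟩,
⟨928,1,4,2,false,[.edge 4,.eqn 16 false,.eqn 14 true,.eqn 10 false,.eqn 16 true,.edge 4],[]⟩,
⟨0,0,0,3,false,[.edge 3,.eqn 17 true,.eqn 8 false,.edge 4,.eqn 16 false,.eqn 10 true,.eqn 12 false,.edge 5],[]⟩,
⟨0,0,1,5,false,[.edge 3,.code,.eqn 17 false,.eqn 13 false,.edge 4,.code,.code],[]⟩,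
⟨0,3,3,1,true,[.edge 5,.eqn 19 false],[.eqn 18 false]⟩,
⟨0,1,3,2,false,[.edge 3,.eqn 2 true,.edge 20],[]⟩]⟩

/-- Its last walk. -/
def m81 : List Move := [.edge 3,.eqn 21 true]

/-- A collapsing certificate. -/
def c82 : Cert := ⟨[⟨false,0,0⟩,⟨false,928,1⟩,⟨false,416,2⟩,⟨false,0,1⟩,⟨true,486,1⟩,⟨true,1632,5⟩,⟨false,4,5⟩,⟨false,416,7⟩,⟨true,1558,6⟩,⟨false,121,6⟩,⟨true,1561,6⟩,⟨true,1735,3⟩,⟨false,1614,3⟩,⟨true,1568,12⟩,⟨false,164,12⟩,⟨true,1603,12⟩,⟨false,256,13⟩,⟨true,1314,17⟩,⟨true,416,18⟩,⟨true,1632,19⟩],[.edge 3,.code,.edge 4,.code,.edge 5],[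
⟨0,1,3,2,false,[.edge 3,.eqn 1 false,.eqn 0 false,.eqn 1 true,.edge 3],[]⟩,
⟨0,1,3,2,false,[.edge 3,.eqn 1 false,.eqn 2 false,.eqn 1 true,.edge 3],[]⟩,
⟨0,1,3,2,false,[.edge 3,.eqn 2 true,.eqn 1 false,.eqn 2 false,.edge 3],[]⟩,
⟨0,2,3,2,false,[.edge 4,.eqn 26 false,.eqn 25 true,.edge 4],[]⟩,
⟨0,1,3,2,false,[.edge 3,.eqn 0 false,.eqn 1 false,.eqn 0 false,.eqn 1 true,.eqn 0 true,.edge 3],[]⟩,
⟨0,2,3,2,false,[.edge 4,.eqn 28 false,.edge 4],[]⟩,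
⟨0,1,3,2,false,[.edge 3,.eqn 0 false,.eqn 1 false,.eqn 2 false,.eqn 1 true,.eqn 0 true,.edge 3],[]⟩,
⟨0,2,3,2,false,[.edge 4,.eqn 24 false,.eqn 25 true,.eqn 30 true,.edge 4],[]⟩,
⟨0,3,3,2,false,[.edge 5,.eqn 31 false,.eqn 27 true,.edge 5],[]⟩,
⟨0,0,0,2,true,[.edge 3,.edge 6],[]⟩,
⟨0,0,1,2,false,[.edge 3,.code],[.code,.code,.eqn 0 false,.edge 33]⟩,
⟨0,0,3,1,true,[.edge 33,.eqn 34 true],[]⟩,
⟨0,4,3,1,true,[.edge 6],[.eqn 34 true]⟩,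
⟨0,5,4,2,false,[.edge 7,.eqn 25 false,.edge 7],[]⟩,
⟨0,5,4,2,false,[.edge 7,.eqn 28 false,.edge 7],[]⟩,
⟨0,7,3,2,false,[.edge 9,.eqn 38 false,.edge 9],[]⟩,
⟨0,1,2,11,true,[.code,.eqn 25 false,.eqn 30 false,.edge 7,.code,.eqn 37 true,.eqn 38 false,.edge 8,.code,.edge 11,.code,.edge 11,.code,.edge 12,.code],[.edge 3,.code,.eqn 1 false,.edge 33,.eqn 34 true,.code,.eqn 25 false,.eqn 26 false,.edge 7,.code,.edge 7,.code,.edge 6,.eqn 34 true,.code,.eqn 30 true,.edge 4,.code]⟩,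
⟨2,1,2,11,true,[.code,.eqn 25 false,.eqn 26 false,.edge 7,.code,.eqn 37 false,.edge 8,.code,.edge 13,.code,.edge 13,.code,.edge 12,.code],[.edge 36,.code,.eqn 26 false,.edge 7,.code,.eqn 37 true,.eqn 38 false,.edge 8,.code,.edge 8,.code,.edge 9,.code,.eqn 39 false,.edge 10,.code]⟩,
⟨384,1,0,1,true,[.eqn 25 false,.edge 4],[.eqn 26 false,.edge 7]⟩,
⟨384,1,1,2,false,[.eqn 25 false,.edge 4,.code],[.code,.code,.eqn 30 false,.edge 7]⟩,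
⟨486,1,3,1,true,[.edge 7,.eqn 43 true],[]⟩,
⟨0,7,3,1,true,[.edge 9,.eqn 43 true],[]⟩,
⟨1632,5,3,1,true,[.edge 8],[.eqn 43 true]⟩,
⟨268,5,3,1,true,[.edge 42],[.eqn 43 true]⟩,
⟨0,7,3,2,false,[.edge 45,.edge 47],[]⟩,
⟨0,8,3,1,true,[.edge 10,.eqn 48 true],[]⟩,
⟨416,10,4,2,false,[.edge 40,.eqn 29 false,.eqn 31 false,.edge 46],[]⟩,
⟨1393,8,3,1,true,[.edge 41,.eqn 50 true],[]⟩,
⟨0,10,3,1,true,[.edge 12],[.eqn 50 true]⟩,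
⟨1393,8,3,2,false,[.edge 51,.edge 52],[]⟩,
⟨0,8,3,1,true,[.edge 49],[.eqn 53 true]⟩,
⟨0,3,3,2,false,[.edge 5,.eqn 31 true,.edge 54],[]⟩,
⟨1632,5,3,1,true,[.edge 8,.eqn 55 false],[.eqn 43 true]⟩,
⟨0,10,3,1,true,[.edge 12,.eqn 55 false],[.eqn 50 true,.eqn 55 false]⟩,
⟨384,1,2,13,false,[.code,.eqn 24 false,.eqn 30 true,.edge 7,.eqn 43 true,.code,.eqn 31 true,.edge 40,.eqn 50 true,.eqn 55 false,.code,.edge 14,.code,.edge 14,.code,.edge 57,.code,.edge 15,.code],[.eqn 26 false,.edge 7,.eqn 43 true,.code,.eqn 27 false,.edge 46,.eqn 55 false,.code,.eqn 32 true,.edge 14,.code,.edge 14,.code,.edge 57,.code,.edge 15]⟩,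
⟨0,13,3,2,false,[.edge 15,.eqn 23 false,.edge 15],[]⟩,
⟨0,12,4,2,false,[.edge 14,.eqn 32 true,.eqn 23 true,.edge 14],[]⟩,
⟨0,2,2,11,true,[.code,.eqn 31 false,.edge 40,.eqn 50 true,.eqn 55 false,.code,.eqn 32 true,.edge 14,.code,.edge 16,.code,.edge 16,.code,.edge 17,.code],[.edge 4,.code,.eqn 26 false,.edge 7,.eqn 43 true,.code,.edge 46,.eqn 55 false,.code,.edge 56,.code,.edge 42,.eqn 43 true,.code,.eqn 29 false,.edge 5,.code]⟩,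
⟨416,15,4,2,false,[.edge 61,.eqn 32 false,.eqn 23 true,.edge 61],[]⟩,
⟨0,15,3,2,false,[.edge 17,.eqn 60 false,.edge 17],[]⟩,
⟨2,2,2,11,true,[.code,.eqn 27 true,.eqn 31 true,.edge 40,.eqn 50 true,.eqn 55 false,.code,.eqn 32 true,.edge 14,.code,.edge 18,.code,.edge 18,.code,.edge 17,.code],[.edge 47,.code,.edge 40,.eqn 50 true,.eqn 55 false,.code,.eqn 23 false,.edge 61,.code,.edge 61,.code,.eqn 23 false,.edge 57,.code,.edge 15,.code]⟩,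
⟨384,2,2,21,false,[.code,.eqn 27 false,.edge 46,.eqn 55 false,.code,.edge 61,.code,.eqn 62 false,.eqn 63 false,.eqn 62 false,.edge 17,.code,.edge 17,.code,.eqn 62 false,.eqn 63 false,.edge 64,.code,.edge 19,.code,.edge 20,.code,.edge 21,.code,.edge 22,.code,.edge 22,.code],[.eqn 31 true,.edge 40,.eqn 50 true,.eqn 55 false,.code,.edge 61]⟩,
⟨416,18,3,1,true,[.edge 21,.eqn 65 false],[]⟩,
⟨1393,13,3,2,false,[.edge 64,.edge 66],[]⟩,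
⟨1314,17,3,1,true,[.edge 20,.eqn 67 false],[]⟩,
⟨0,17,3,2,false,[.edge 19,.eqn 58 false,.eqn 59 false,.eqn 58 false,.eqn 59 false,.edge 68],[]⟩,
⟨256,13,4,2,false,[.edge 19,.eqn 69 true,.eqn 69 true,.eqn 69 true,.eqn 69 true,.edge 19],[]⟩,
⟨1614,3,4,2,false,[.edge 15,.eqn 70 false,.edge 15],[]⟩,
⟨1538,2,3,2,false,[.edge 56,.eqn 71 false,.eqn 32 false,.eqn 71 true,.edge 56],[]⟩,
⟨486,1,3,2,false,[.edge 44,.eqn 72 false,.eqn 31 false,.eqn 29 true,.eqn 72 true,.edge 44],[]⟩,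
⟨0,0,3,2,false,[.edge 35,.eqn 73 false,.eqn 24 false,.eqn 73 true,.edge 36],[]⟩]⟩

/-- Its last walk. -/
def m82 : List Move := [.edge 3,.eqn 74 false]

/-- A collapsing certificate. -/
def c83 : Cert := ⟨[⟨false,0,0⟩,⟨false,928,1⟩,⟨false,416,2⟩],[.edge 3,.code,.edge 4,.code,.edge 5],[
⟨0,1,3,2,false,[.edge 3,.eqn 1 false,.eqn 0 false,.eqn 1 true,.edge 3],[]⟩,
⟨0,1,3,2,false,[.edge 3,.eqn 1 false,.eqn 2 false,.eqn 1 true,.edge 3],[]⟩,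
⟨0,1,3,2,false,[.edge 3,.eqn 2 true,.eqn 1 false,.eqn 2 false,.edge 3],[]⟩,
⟨0,2,3,2,false,[.edge 4,.eqn 9 false,.eqn 8 true,.edge 4],[]⟩,
⟨0,1,3,2,false,[.edge 3,.eqn 0 false,.eqn 1 false,.eqn 0 false,.eqn 1 true,.eqn 0 true,.edge 3],[]⟩,
⟨0,2,3,2,false,[.edge 4,.eqn 11 false,.edge 4],[]⟩,
⟨0,1,3,2,false,[.edge 3,.eqn 0 false,.eqn 1 false,.eqn 2 false,.eqn 1 true,.eqn 0 true,.edge 3],[]⟩,
⟨0,2,3,2,false,[.edge 4,.eqn 7 false,.eqn 8 true,.eqn 13 true,.edge 4],[]⟩,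
⟨0,3,3,2,false,[.edge 5,.eqn 14 false,.eqn 10 true,.edge 5],[]⟩,
⟨416,2,4,2,false,[.edge 5,.eqn 6 false,.eqn 15 false,.eqn 6 true,.edge 5],[]⟩,
⟨928,1,4,2,false,[.edge 4,.eqn 16 false,.eqn 14 true,.eqn 10 false,.eqn 16 true,.edge 4],[]⟩,
⟨0,0,0,3,false,[.edge 3,.eqn 17 true,.eqn 8 false,.edge 4,.eqn 16 false,.eqn 10 true,.eqn 12 false,.edge 5],[]⟩,
⟨0,0,1,5,false,[.edge 3,.code,.eqn 17 false,.eqn 13 false,.edge 4,.code,.code],[]⟩,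
⟨0,3,3,1,true,[.edge 5,.eqn 19 false],[.eqn 18 false]⟩,
⟨0,1,3,2,false,[.edge 3,.eqn 2 true,.edge 20],[]⟩]⟩

/-- Its last walk. -/
def m83 : List Move := [.edge 3,.eqn 21 true]

/-- A collapsing certificate. -/
def c84 : Cert := ⟨[⟨false,0,0⟩,⟨false,928,1⟩,⟨false,416,2⟩,⟨false,0,1⟩,⟨true,643,1⟩,⟨true,1632,5⟩,⟨false,4,5⟩,⟨false,416,7⟩,⟨true,1323,8⟩,⟨true,416,9⟩,⟨true,1632,10⟩,⟨true,1603,6⟩,⟨false,130,6⟩,⟨true,1568,6⟩,⟨true,531,3⟩,⟨false,593,3⟩,⟨true,1599,15⟩,⟨true,1461,3⟩,⟨true,1632,18⟩,⟨false,4,18⟩],[.edge 3,.code,.edge 4,.code,.edge 5],[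
⟨0,1,3,2,false,[.edge 3,.eqn 1 false,.eqn 0 false,.eqn 1 true,.edge 3],[]⟩,
⟨0,1,3,2,false,[.edge 3,.eqn 1 false,.eqn 2 false,.eqn 1 true,.edge 3],[]⟩,
⟨0,1,3,2,false,[.edge 3,.eqn 2 true,.eqn 1 false,.eqn 2 false,.edge 3],[]⟩,
⟨0,2,3,2,false,[.edge 4,.eqn 26 false,.eqn 25 true,.edge 4],[]⟩,
⟨0,1,3,2,false,[.edge 3,.eqn 0 false,.eqn 1 false,.eqn 0 false,.eqn 1 true,.eqn 0 true,.edge 3],[]⟩,
⟨0,1,3,2,false,[.edge 3,.eqn 0 false,.eqn 1 false,.eqn 2 false,.eqn 1 true,.eqn 0 true,.edge 3],[]⟩,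
⟨0,2,3,2,false,[.edge 4,.eqn 24 false,.eqn 25 true,.eqn 29 true,.edge 4],[]⟩,
⟨0,3,3,2,false,[.edge 5,.eqn 30 false,.eqn 27 true,.edge 5],[]⟩,
⟨0,0,0,2,true,[.edge 3,.edge 6],[]⟩,
⟨0,0,1,2,false,[.edge 3,.code],[.code,.code,.eqn 0 false,.edge 32]⟩,
⟨0,0,3,1,true,[.edge 32,.eqn 33 true],[]⟩,
⟨0,4,3,1,true,[.edge 6],[.eqn 33 true]⟩,
⟨0,0,2,21,false,[.code,.eqn 1 false,.eqn 2 true,.edge 32,.eqn 33 true,.code,.edge 7,.code,.edge 8,.code,.edge 8,.code,.edge 9,.code,.edge 10,.code,.edge 11,.code,.edge 12,.code,.edge 13,.code,.edge 13,.code],[.edge 32,.eqn 33 true,.code,.eqn 25 false,.edge 7]⟩,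
⟨416,9,3,1,true,[.edge 12,.eqn 36 false],[]⟩,
⟨1632,10,3,1,true,[.edge 13],[.eqn 36 false]⟩,
⟨0,5,4,2,false,[.edge 7,.eqn 26 false,.eqn 25 true,.edge 7],[]⟩,
⟨416,9,3,2,false,[.edge 37,.edge 9],[]⟩,
⟨1323,8,3,1,true,[.edge 11,.eqn 40 true],[]⟩,
⟨0,5,4,2,false,[.edge 7,.eqn 28 false,.edge 7],[]⟩,
⟨0,6,4,2,false,[.edge 8,.eqn 42 false,.edge 38],[]⟩,
⟨1632,10,3,1,true,[.edge 13,.eqn 43 false],[.eqn 36 false]⟩,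
⟨0,1,2,11,true,[.code,.eqn 24 false,.eqn 25 true,.edge 7,.code,.eqn 39 true,.edge 8,.code,.edge 14,.code,.edge 14,.code,.edge 15,.code],[.edge 3,.code,.eqn 1 false,.edge 32,.eqn 33 true,.code,.eqn 24 false,.eqn 25 true,.edge 7,.code,.edge 7,.code,.edge 6,.eqn 33 true,.code,.eqn 25 true,.edge 4,.code]⟩,
⟨2,1,2,11,true,[.code,.eqn 25 true,.edge 7,.code,.edge 38,.eqn 43 false,.code,.edge 16,.code,.edge 16,.code,.edge 15,.code],[.edge 35,.code,.eqn 29 true,.edge 7,.code,.edge 8,.code,.edge 8,.code,.edge 9,.code,.edge 41,.code]⟩,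
⟨384,1,0,1,true,[.eqn 25 false,.edge 4],[.eqn 29 true,.edge 7]⟩,
⟨384,1,1,2,false,[.eqn 25 false,.edge 4,.code],[.code,.code,.eqn 25 false,.edge 7]⟩,
⟨643,1,3,1,true,[.edge 7,.eqn 48 true],[]⟩,
⟨0,7,3,1,true,[.edge 9,.eqn 48 true],[]⟩,
⟨1632,5,3,1,true,[.edge 8],[.eqn 48 true]⟩,
⟨1662,5,3,1,true,[.edge 44],[.eqn 48 true]⟩,
⟨236,5,3,1,true,[.edge 47],[.eqn 48 true]⟩,
⟨0,7,3,2,false,[.edge 50,.edge 53],[]⟩,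
⟨0,8,3,1,true,[.edge 10,.eqn 54 true],[]⟩,
⟨416,13,4,2,false,[.edge 45,.eqn 30 false,.edge 51],[]⟩,
⟨307,8,3,1,true,[.edge 46,.eqn 56 true],[]⟩,
⟨0,13,3,1,true,[.edge 15],[.eqn 56 true]⟩,
⟨307,8,3,2,false,[.edge 57,.edge 58],[]⟩,
⟨0,8,3,1,true,[.edge 55],[.eqn 59 true]⟩,
⟨0,3,3,2,false,[.edge 5,.eqn 30 true,.edge 60],[]⟩,
⟨1632,5,3,1,true,[.edge 8,.eqn 61 false],[.eqn 48 true]⟩,
⟨0,13,3,1,true,[.edge 15,.eqn 61 false],[.eqn 56 true,.eqn 61 false]⟩,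
⟨384,1,2,13,false,[.code,.eqn 24 false,.edge 7,.eqn 48 true,.code,.eqn 27 true,.edge 51,.eqn 61 false,.code,.edge 17,.code,.edge 17,.code,.edge 63,.code,.edge 18,.code],[.eqn 29 true,.edge 7,.eqn 48 true,.code,.eqn 27 true,.edge 51,.eqn 61 false,.code,.eqn 31 false,.edge 17,.code,.edge 17,.code,.edge 63,.code,.edge 18]⟩,
⟨0,16,3,2,false,[.edge 18,.eqn 31 true,.eqn 23 true,.edge 18],[]⟩,
⟨2,2,2,11,true,[.code,.eqn 30 false,.edge 45,.eqn 56 true,.eqn 61 false,.code,.edge 20,.code,.edge 21,.code,.edge 21,.code,.edge 22,.code],[.edge 53,.code,.eqn 27 false,.edge 52,.eqn 61 false,.code,.eqn 23 false,.edge 20,.code,.edge 20,.code,.eqn 23 false,.edge 63,.code,.edge 18,.code]⟩,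
⟨0,18,4,2,false,[.edge 20,.eqn 31 true,.eqn 23 true,.edge 20],[]⟩,
⟨416,20,4,2,false,[.edge 66,.eqn 64 false,.eqn 65 false,.eqn 64 true,.edge 66],[]⟩,
⟨0,20,3,2,false,[.edge 22,.eqn 67 false,.edge 22],[]⟩,
⟨1400,16,3,2,false,[.edge 66,.eqn 69 false,.eqn 68 false,.eqn 69 false,.eqn 68 false,.eqn 69 false,.eqn 68 true,.eqn 69 true,.eqn 68 true,.eqn 69 true,.edge 66],[]⟩,
⟨593,3,4,2,false,[.edge 18,.eqn 64 false,.eqn 70 false,.eqn 64 true,.edge 18],[]⟩,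
⟨1565,2,3,2,false,[.edge 62,.eqn 71 false,.eqn 23 false,.eqn 71 true,.eqn 23 true,.edge 62],[]⟩,
⟨643,1,3,2,false,[.edge 49,.eqn 72 false,.eqn 27 false,.eqn 72 true,.edge 49],[]⟩,
⟨0,0,3,2,false,[.edge 34,.eqn 73 false,.eqn 24 false,.eqn 73 true,.edge 35],[]⟩]⟩

/-- Its last walk. -/
def m84 : List Move := [.edge 3,.eqn 74 false]

/-- A collapsing certificate. -/
def c85 : Cert := ⟨[⟨false,0,0⟩,⟨false,928,1⟩,⟨false,416,2⟩],[.edge 3,.code,.edge 4,.code,.edge 5],[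
⟨0,1,3,2,false,[.edge 3,.eqn 1 false,.eqn 0 false,.eqn 1 true,.edge 3],[]⟩,
⟨0,1,3,2,false,[.edge 3,.eqn 1 false,.eqn 2 false,.eqn 1 true,.edge 3],[]⟩,
⟨0,1,3,2,false,[.edge 3,.eqn 2 true,.eqn 1 false,.eqn 2 false,.edge 3],[]⟩,
⟨0,2,3,2,false,[.edge 4,.eqn 9 false,.eqn 8 true,.edge 4],[]⟩,
⟨0,1,3,2,false,[.edge 3,.eqn 0 false,.eqn 1 false,.eqn 0 false,.eqn 1 true,.eqn 0 true,.edge 3],[]⟩,
⟨0,2,3,2,false,[.edge 4,.eqn 11 false,.edge 4],[]⟩,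
⟨0,1,3,2,false,[.edge 3,.eqn 0 false,.eqn 1 false,.eqn 2 false,.eqn 1 true,.eqn 0 true,.edge 3],[]⟩,
⟨0,2,3,2,false,[.edge 4,.eqn 7 false,.eqn 8 true,.eqn 13 true,.edge 4],[]⟩,
⟨0,3,3,2,false,[.edge 5,.eqn 14 false,.eqn 10 true,.edge 5],[]⟩,
⟨416,2,4,2,false,[.edge 5,.eqn 6 false,.eqn 15 false,.eqn 6 true,.edge 5],[]⟩,
⟨928,1,4,2,false,[.edge 4,.eqn 16 false,.eqn 14 true,.eqn 10 false,.eqn 16 true,.edge 4],[]⟩,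
⟨0,0,0,3,false,[.edge 3,.eqn 17 true,.eqn 8 false,.edge 4,.eqn 16 false,.eqn 10 true,.eqn 12 false,.edge 5],[]⟩,
⟨0,0,1,5,false,[.edge 3,.code,.eqn 17 false,.eqn 13 false,.edge 4,.code,.code],[]⟩,
⟨0,3,3,1,true,[.edge 5,.eqn 19 false],[.eqn 18 false]⟩,
⟨0,1,3,2,false,[.edge 3,.eqn 2 true,.edge 20],[]⟩]⟩

/-- Its last walk. -/
def m85 : List Move := [.edge 3,.eqn 21 true]

/-- A collapsing certificate. -/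
def c86 : Cert := ⟨[⟨false,0,0⟩,⟨false,928,1⟩,⟨false,416,2⟩,⟨false,0,1⟩,⟨true,500,1⟩,⟨true,1632,5⟩,⟨false,4,5⟩,⟨false,416,7⟩,⟨true,1330,8⟩,⟨true,416,9⟩,⟨true,1632,10⟩,⟨true,1568,6⟩,⟨false,164,6⟩,⟨true,1599,6⟩,⟨true,1606,3⟩,⟨false,1612,3⟩,⟨true,702,3⟩,⟨true,1632,17⟩,⟨true,1731,17⟩],[.edge 3,.code,.edge 4,.code,.edge 5],[
⟨0,1,3,2,false,[.edge 3,.eqn 1 false,.eqn 0 false,.eqn 1 true,.edge 3],[]⟩,
⟨0,1,3,2,false,[.edge 3,.eqn 1 false,.eqn 2 false,.eqn 1 true,.edge 3],[]⟩,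
⟨0,1,3,2,false,[.edge 3,.eqn 2 true,.eqn 1 false,.eqn 2 false,.edge 3],[]⟩,
⟨0,2,3,2,false,[.edge 4,.eqn 25 false,.eqn 24 true,.edge 4],[]⟩,
⟨0,1,3,2,false,[.edge 3,.eqn 0 false,.eqn 1 false,.eqn 0 false,.eqn 1 true,.eqn 0 true,.edge 3],[]⟩,
⟨0,2,3,2,false,[.edge 4,.eqn 27 false,.edge 4],[]⟩,
⟨0,1,3,2,false,[.edge 3,.eqn 0 false,.eqn 1 false,.eqn 2 false,.eqn 1 true,.eqn 0 true,.edge 3],[]⟩,
⟨0,2,3,2,false,[.edge 4,.eqn 23 false,.eqn 24 true,.eqn 29 true,.edge 4],[]⟩,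
⟨0,3,3,2,false,[.edge 5,.eqn 30 false,.eqn 26 true,.edge 5],[]⟩,
⟨0,0,0,2,true,[.edge 3,.edge 6],[]⟩,
⟨0,0,1,2,false,[.edge 3,.code],[.code,.code,.eqn 0 false,.edge 32]⟩,
⟨0,0,3,1,true,[.edge 32,.eqn 33 true],[]⟩,
⟨0,4,3,1,true,[.edge 6],[.eqn 33 true]⟩,
⟨0,0,2,21,false,[.code,.eqn 0 false,.eqn 1 false,.eqn 2 true,.edge 32,.eqn 33 true,.code,.edge 7,.code,.edge 8,.code,.edge 8,.code,.edge 9,.code,.edge 10,.code,.edge 11,.code,.edge 12,.code,.edge 13,.code,.edge 13,.code],[.edge 32,.eqn 33 true,.code,.eqn 25 false,.edge 7]⟩,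
⟨416,9,3,1,true,[.edge 12,.eqn 36 false],[]⟩,
⟨1632,10,3,1,true,[.edge 13],[.eqn 36 false]⟩,
⟨0,5,4,2,false,[.edge 7,.eqn 24 false,.edge 7],[]⟩,
⟨416,9,3,2,false,[.edge 37,.edge 9],[]⟩,
⟨1330,8,3,1,true,[.edge 11,.eqn 40 true],[]⟩,
⟨0,5,4,2,false,[.edge 7,.eqn 27 false,.edge 7],[]⟩,
⟨0,7,3,2,false,[.edge 9,.eqn 42 false,.edge 9],[]⟩,
⟨0,6,4,2,false,[.edge 8,.eqn 39 true,.eqn 42 false,.edge 38],[]⟩,
⟨0,1,2,11,true,[.code,.eqn 24 false,.eqn 25 false,.edge 7,.code,.eqn 39 true,.edge 8,.code,.edge 14,.code,.edge 14,.code,.edge 15,.code],[.edge 3,.code,.eqn 1 false,.edge 32,.eqn 33 true,.code,.eqn 24 false,.eqn 29 false,.edge 7,.code,.edge 7,.code,.edge 6,.eqn 33 true,.code,.eqn 24 false,.edge 4,.code]⟩,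
⟨2,1,2,11,true,[.code,.eqn 24 false,.eqn 29 false,.edge 7,.code,.edge 8,.code,.edge 16,.code,.edge 16,.code,.edge 15,.code],[.edge 35,.code,.eqn 29 false,.edge 7,.code,.eqn 39 false,.edge 38,.eqn 44 false,.code,.edge 8,.code,.edge 9,.code,.eqn 43 false,.edge 10,.code]⟩,
⟨384,1,0,1,true,[.eqn 24 false,.edge 4],[.eqn 29 false,.edge 7]⟩,
⟨384,1,1,2,false,[.eqn 24 false,.edge 4,.code],[.code,.code,.eqn 25 false,.edge 7]⟩,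
⟨500,1,3,1,true,[.edge 7,.eqn 48 true],[]⟩,
⟨0,7,3,1,true,[.edge 9,.eqn 48 true],[]⟩,
⟨1632,5,3,1,true,[.edge 8],[.eqn 48 true]⟩,
⟨33,5,3,1,true,[.edge 47],[.eqn 48 true]⟩,
⟨0,7,3,2,false,[.edge 50,.edge 52],[]⟩,
⟨0,8,3,1,true,[.edge 10,.eqn 53 true],[]⟩,
⟨1330,8,3,1,true,[.edge 41,.eqn 53 true],[]⟩,
⟨416,13,4,2,false,[.edge 45,.eqn 26 true,.eqn 28 false,.edge 51],[]⟩,
⟨1516,8,3,1,true,[.edge 46,.eqn 56 true],[]⟩,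
⟨0,13,3,1,true,[.edge 15],[.eqn 56 true]⟩,
⟨1516,8,3,2,false,[.edge 57,.edge 58],[]⟩,
⟨0,8,3,1,true,[.edge 54],[.eqn 59 true]⟩,
⟨0,3,3,2,false,[.edge 5,.eqn 30 true,.edge 60],[]⟩,
⟨1632,5,3,1,true,[.edge 8,.eqn 61 false],[.eqn 48 true]⟩,
⟨0,13,3,1,true,[.edge 15,.eqn 61 false],[.eqn 56 true,.eqn 61 false]⟩,
⟨0,2,2,9,true,[.code,.eqn 26 true,.edge 45,.eqn 56 true,.eqn 61 false,.code,.edge 19,.code,.edge 20,.code,.edge 20,.code],[.edge 4,.code,.eqn 29 false,.edge 7,.eqn 48 true,.code,.eqn 30 false,.edge 45,.eqn 56 true,.eqn 61 false,.code,.edge 62,.code,.edge 47,.eqn 48 true,.code,.edge 55,.eqn 59 true,.eqn 61 false,.code,.eqn 22 false,.edge 19,.code]⟩,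
⟨0,17,4,2,false,[.edge 19,.eqn 31 true,.eqn 22 true,.edge 19],[]⟩,
⟨725,17,3,2,false,[.edge 64,.eqn 65 false,.edge 64],[]⟩,
⟨0,18,4,2,false,[.edge 20,.eqn 66 false,.eqn 65 true,.edge 20],[]⟩,
⟨2,2,2,15,false,[.code,.eqn 26 false,.edge 51,.eqn 61 false,.code,.eqn 31 true,.edge 19,.code,.edge 21,.code,.edge 21,.code,.edge 64,.code,.edge 64,.code,.edge 20,.code],[.edge 52,.code,.eqn 28 false,.edge 45,.eqn 56 true,.eqn 61 false,.code,.eqn 31 true,.edge 19,.code,.edge 19,.code,.edge 63]⟩,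
⟨160,18,5,0,false,[.eqn 67 false,.eqn 68 false],[.eqn 68 false]⟩,
⟨1713,2,3,2,false,[.edge 62,.eqn 22 false,.eqn 69 false,.eqn 22 true,.edge 62],[]⟩,
⟨500,1,3,2,false,[.edge 49,.eqn 70 false,.eqn 30 false,.eqn 26 true,.eqn 70 true,.edge 49],[]⟩,
⟨0,0,3,2,false,[.edge 34,.eqn 71 false,.eqn 23 false,.eqn 71 true,.edge 35],[]⟩]⟩

/-- Its last walk. -/
def m86 : List Move := [.edge 3,.eqn 72 false]

/-- A collapsing certificate. -/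
def c87 : Cert := ⟨[⟨false,0,0⟩,⟨false,928,1⟩,⟨false,416,2⟩],[.edge 3,.code,.edge 4,.code,.edge 5],[
⟨0,1,3,2,false,[.edge 3,.eqn 1 false,.eqn 0 false,.eqn 1 true,.edge 3],[]⟩,
⟨0,1,3,2,false,[.edge 3,.eqn 1 false,.eqn 2 false,.eqn 1 true,.edge 3],[]⟩,
⟨0,1,3,2,false,[.edge 3,.eqn 2 true,.eqn 1 false,.eqn 2 false,.edge 3],[]⟩,
⟨0,2,3,2,false,[.edge 4,.eqn 9 false,.eqn 8 true,.edge 4],[]⟩,
⟨0,1,3,2,false,[.edge 3,.eqn 0 false,.eqn 1 false,.eqn 0 false,.eqn 1 true,.eqn 0 true,.edge 3],[]⟩,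
⟨0,2,3,2,false,[.edge 4,.eqn 11 false,.edge 4],[]⟩,
⟨0,1,3,2,false,[.edge 3,.eqn 0 false,.eqn 1 false,.eqn 2 false,.eqn 1 true,.eqn 0 true,.edge 3],[]⟩,
⟨0,2,3,2,false,[.edge 4,.eqn 7 false,.eqn 8 true,.eqn 13 true,.edge 4],[]⟩,
⟨0,3,3,2,false,[.edge 5,.eqn 14 false,.eqn 10 true,.edge 5],[]⟩,
⟨416,2,4,2,false,[.edge 5,.eqn 6 false,.eqn 15 false,.eqn 6 true,.edge 5],[]⟩,
⟨928,1,4,2,false,[.edge 4,.eqn 16 false,.eqn 14 true,.eqn 10 false,.eqn 16 true,.edge 4],[]⟩,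
⟨0,0,0,3,false,[.edge 3,.eqn 17 true,.eqn 8 false,.edge 4,.eqn 16 false,.eqn 10 true,.eqn 12 false,.edge 5],[]⟩,
⟨0,0,1,5,false,[.edge 3,.code,.eqn 17 false,.eqn 13 false,.edge 4,.code,.code],[]⟩,
⟨0,3,3,1,true,[.edge 5,.eqn 19 false],[.eqn 18 false]⟩,
⟨0,1,3,2,false,[.edge 3,.eqn 2 true,.edge 20],[]⟩]⟩

/-- Its last walk. -/
def m87 : List Move := [.edge 3,.eqn 21 true]

/-- A collapsing certificate. -/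
def c88 : Cert := ⟨[⟨false,0,0⟩,⟨false,928,1⟩,⟨false,416,2⟩,⟨false,0,1⟩,⟨true,641,1⟩,⟨true,1632,5⟩,⟨false,4,5⟩,⟨false,416,7⟩,⟨true,1339,8⟩,⟨true,416,9⟩,⟨true,1632,10⟩,⟨true,1603,6⟩,⟨false,130,6⟩,⟨true,1568,6⟩,⟨true,391,3⟩,⟨false,415,3⟩,⟨true,840,3⟩,⟨true,1632,17⟩,⟨false,131,15⟩,⟨true,1881,17⟩],[.edge 3,.code,.edge 4,.code,.edge 5],[
⟨0,1,3,2,false,[.edge 3,.eqn 1 false,.eqn 0 false,.eqn 1 true,.edge 3],[]⟩,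
⟨0,1,3,2,false,[.edge 3,.eqn 1 false,.eqn 2 false,.eqn 1 true,.edge 3],[]⟩,
⟨0,1,3,2,false,[.edge 3,.eqn 2 true,.eqn 1 false,.eqn 2 false,.edge 3],[]⟩,
⟨0,2,3,2,false,[.edge 4,.eqn 26 false,.eqn 25 true,.edge 4],[]⟩,
⟨0,1,3,2,false,[.edge 3,.eqn 0 false,.eqn 1 false,.eqn 0 false,.eqn 1 true,.eqn 0 true,.edge 3],[]⟩,
⟨0,2,3,2,false,[.edge 4,.eqn 28 false,.edge 4],[]⟩,
⟨0,1,3,2,false,[.edge 3,.eqn 0 false,.eqn 1 false,.eqn 2 false,.eqn 1 true,.eqn 0 true,.edge 3],[]⟩,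
⟨0,2,3,2,false,[.edge 4,.eqn 24 false,.eqn 25 true,.eqn 30 true,.edge 4],[]⟩,
⟨0,3,3,2,false,[.edge 5,.eqn 31 false,.eqn 27 true,.edge 5],[]⟩,
⟨0,0,0,2,true,[.edge 3,.edge 6],[]⟩,
⟨0,0,1,2,false,[.edge 3,.code],[.code,.code,.eqn 0 false,.edge 33]⟩,
⟨0,0,3,1,true,[.edge 33,.eqn 34 true],[]⟩,
⟨0,4,3,1,true,[.edge 6],[.eqn 34 true]⟩,
⟨0,0,2,21,false,[.code,.eqn 1 false,.eqn 2 true,.edge 33,.eqn 34 true,.code,.edge 7,.code,.edge 8,.code,.edge 8,.code,.edge 9,.code,.edge 10,.code,.edge 11,.code,.edge 12,.code,.edge 13,.code,.edge 13,.code],[.edge 33,.eqn 34 true,.code,.eqn 30 true,.edge 7]⟩,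
⟨416,9,3,1,true,[.edge 12,.eqn 37 false],[]⟩,
⟨1632,10,3,1,true,[.edge 13],[.eqn 37 false]⟩,
⟨0,5,4,2,false,[.edge 7,.eqn 26 false,.eqn 25 true,.edge 7],[]⟩,
⟨0,7,3,2,false,[.edge 9,.eqn 40 false,.edge 9],[]⟩,
⟨416,9,3,2,false,[.edge 38,.edge 9],[]⟩,
⟨1339,8,3,1,true,[.edge 11,.eqn 42 true],[]⟩,
⟨1339,8,3,2,false,[.edge 43,.eqn 41 false,.edge 43],[]⟩,
⟨416,7,4,2,false,[.edge 10,.eqn 44 false,.edge 10],[]⟩,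
⟨0,5,4,2,false,[.edge 7,.eqn 28 false,.edge 7],[]⟩,
⟨4,5,4,2,false,[.edge 9,.eqn 45 false,.edge 9],[]⟩,
⟨0,11,4,2,false,[.edge 39,.eqn 47 true,.eqn 40 false,.edge 8],[]⟩,
⟨1632,10,3,1,true,[.edge 13,.eqn 48 true],[.eqn 37 false]⟩,
⟨0,1,2,11,true,[.code,.eqn 25 true,.edge 7,.code,.eqn 40 true,.edge 8,.code,.edge 14,.code,.edge 14,.code,.edge 15,.code],[.edge 3,.code,.eqn 1 false,.edge 33,.eqn 34 true,.code,.eqn 25 true,.edge 7,.code,.edge 7,.code,.edge 6,.eqn 34 true,.code,.eqn 25 true,.edge 4,.code]⟩,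
⟨2,1,2,11,true,[.code,.eqn 24 false,.eqn 25 true,.edge 7,.code,.eqn 46 false,.edge 8,.code,.edge 16,.code,.edge 16,.code,.edge 15,.code],[.edge 36,.code,.eqn 25 false,.edge 7,.code,.eqn 47 true,.edge 39,.eqn 48 true,.code,.edge 8,.code,.edge 9,.code,.eqn 41 true,.eqn 45 false,.edge 43,.code]⟩,
⟨384,1,0,1,true,[.eqn 25 false,.edge 4],[.eqn 25 false,.edge 7]⟩,
⟨384,1,1,2,false,[.eqn 25 false,.edge 4,.code],[.code,.code,.eqn 30 true,.edge 7]⟩,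
⟨641,1,3,1,true,[.edge 7,.eqn 53 true],[]⟩,
⟨0,7,3,1,true,[.edge 9,.eqn 53 true],[]⟩,
⟨1632,5,3,1,true,[.edge 8],[.eqn 53 true]⟩,
⟨1595,5,3,1,true,[.edge 49],[.eqn 53 true]⟩,
⟨48,5,3,1,true,[.edge 52],[.eqn 53 true]⟩,
⟨0,7,3,2,false,[.edge 55,.edge 58],[]⟩,
⟨0,8,3,1,true,[.edge 10,.eqn 59 true],[]⟩,
⟨1339,8,3,1,true,[.edge 43,.eqn 59 true],[]⟩,
⟨416,13,4,2,false,[.edge 50,.eqn 29 false,.eqn 31 true,.edge 56],[]⟩,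
⟨307,8,3,1,true,[.edge 51,.eqn 62 true],[]⟩,
⟨0,13,3,1,true,[.edge 15],[.eqn 62 true]⟩,
⟨307,8,3,2,false,[.edge 63,.edge 64],[]⟩,
⟨0,8,3,1,true,[.edge 60],[.eqn 65 true]⟩,
⟨0,3,3,2,false,[.edge 5,.eqn 31 true,.edge 66],[]⟩,
⟨1632,5,3,1,true,[.edge 8,.eqn 67 false],[.eqn 53 true]⟩,
⟨0,13,3,1,true,[.edge 15,.eqn 67 false],[.eqn 62 true,.eqn 67 false]⟩,
⟨384,1,2,13,false,[.code,.edge 7,.eqn 53 true,.code,.eqn 29 false,.edge 50,.eqn 62 true,.eqn 67 false,.code,.edge 17,.code,.edge 17,.code,.edge 69,.code,.edge 18,.code],[.eqn 25 false,.edge 7,.eqn 53 true,.code,.edge 57,.eqn 67 false,.code,.eqn 32 false,.edge 17,.code,.edge 17,.code,.edge 69,.code,.edge 18]⟩,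
⟨0,16,3,2,false,[.edge 18,.eqn 23 false,.edge 18],[]⟩,
⟨0,15,4,2,false,[.edge 17,.eqn 23 false,.edge 17],[]⟩,
⟨0,2,2,9,true,[.code,.eqn 31 false,.edge 50,.eqn 62 true,.eqn 67 false,.code,.edge 19,.code,.edge 20,.code,.edge 20,.code],[.edge 4,.code,.eqn 25 false,.edge 7,.eqn 53 true,.code,.eqn 27 true,.eqn 31 false,.edge 50,.eqn 62 true,.eqn 67 false,.code,.edge 68,.code,.edge 52,.eqn 53 true,.code,.eqn 27 true,.edge 61,.eqn 65 true,.eqn 67 false,.code,.edge 17,.code]⟩,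
⟨0,17,4,2,false,[.edge 19,.eqn 23 false,.edge 19],[]⟩,
⟨395,15,3,2,false,[.edge 73,.eqn 74 false,.edge 73],[]⟩,
⟨2,2,2,11,true,[.code,.edge 56,.eqn 67 false,.code,.eqn 32 false,.edge 17,.code,.edge 73,.code,.edge 73,.code,.edge 21,.code],[.edge 58,.code,.eqn 27 true,.edge 56,.eqn 67 false,.code,.eqn 32 false,.edge 19,.code,.edge 19,.code,.edge 69,.code,.edge 18,.code]⟩,
⟨0,19,3,2,false,[.edge 21,.eqn 72 false,.edge 21],[]⟩,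
⟨416,19,4,2,false,[.edge 76,.eqn 70 false,.eqn 71 false,.eqn 70 true,.edge 76],[]⟩,
⟨384,2,2,24,false,[.code,.eqn 27 true,.eqn 31 false,.edge 50,.eqn 62 true,.eqn 67 false,.code,.edge 19,.code,.edge 22,.code,.edge 22,.code,.edge 73,.code,.eqn 75 false,.edge 21,.code,.eqn 77 false,.eqn 78 false,.edge 21,.code,.eqn 72 false,.edge 73,.code,.eqn 74 false,.edge 22,.code,.edge 22,.code,.edge 19,.code,.edge 68],[]⟩,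
⟨641,1,3,2,false,[.edge 54,.eqn 79 false,.eqn 27 true,.edge 5],[]⟩,
⟨1339,3,5,0,false,[.eqn 23 false,.eqn 80 false],[.eqn 80 false]⟩,
⟨0,0,3,2,false,[.edge 35,.eqn 81 false,.eqn 24 false,.eqn 81 false,.edge 36],[]⟩]⟩

/-- Its last walk. -/
def m88 : List Move := [.edge 3,.eqn 82 false]

/-- A collapsing certificate. -/
def c89 : Cert := ⟨[⟨false,0,0⟩,⟨false,928,1⟩,⟨false,416,2⟩,⟨false,0,1⟩,⟨true,518,1⟩,⟨true,1632,5⟩,⟨false,4,5⟩,⟨false,416,7⟩,⟨true,1376,8⟩,⟨true,416,9⟩,⟨true,1632,10⟩,⟨true,1561,6⟩,⟨false,120,6⟩,⟨true,1612,6⟩,⟨true,1181,3⟩,⟨false,447,3⟩,⟨true,1603,3⟩,⟨true,1632,17⟩,⟨false,121,15⟩,⟨true,1696,17⟩],[.edge 3,.code,.edge 4,.code,.edge 5],[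
⟨0,1,3,2,false,[.edge 3,.eqn 1 false,.eqn 0 false,.eqn 1 true,.edge 3],[]⟩,
⟨0,1,3,2,false,[.edge 3,.eqn 1 false,.eqn 2 false,.eqn 1 true,.edge 3],[]⟩,
⟨0,1,3,2,false,[.edge 3,.eqn 2 true,.eqn 1 false,.eqn 2 false,.edge 3],[]⟩,
⟨0,2,3,2,false,[.edge 4,.eqn 26 false,.eqn 25 true,.edge 4],[]⟩,
⟨0,1,3,2,false,[.edge 3,.eqn 0 false,.eqn 1 false,.eqn 0 false,.eqn 1 true,.eqn 0 true,.edge 3],[]⟩,
⟨0,2,3,2,false,[.edge 4,.eqn 28 false,.edge 4],[]⟩,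
⟨0,1,3,2,false,[.edge 3,.eqn 0 false,.eqn 1 false,.eqn 2 false,.eqn 1 true,.eqn 0 true,.edge 3],[]⟩,
⟨0,2,3,2,false,[.edge 4,.eqn 24 false,.eqn 25 true,.eqn 30 true,.edge 4],[]⟩,
⟨0,3,3,2,false,[.edge 5,.eqn 31 false,.eqn 27 true,.edge 5],[]⟩,
⟨0,0,0,2,true,[.edge 3,.edge 6],[]⟩,
⟨0,0,1,2,false,[.edge 3,.code],[.code,.code,.eqn 0 false,.edge 33]⟩,
⟨0,0,3,1,true,[.edge 33,.eqn 34 true],[]⟩,
⟨0,4,3,1,true,[.edge 6],[.eqn 34 true]⟩,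
⟨0,0,2,21,false,[.code,.eqn 1 false,.eqn 2 true,.edge 33,.eqn 34 true,.code,.edge 7,.code,.edge 8,.code,.edge 8,.code,.edge 9,.code,.edge 10,.code,.edge 11,.code,.edge 12,.code,.edge 13,.code,.edge 13,.code],[.edge 33,.eqn 34 true,.code,.eqn 30 true,.edge 7]⟩,
⟨416,9,3,1,true,[.edge 12,.eqn 37 false],[]⟩,
⟨1632,10,3,1,true,[.edge 13],[.eqn 37 false]⟩,
⟨0,5,4,2,false,[.edge 7,.eqn 26 false,.eqn 25 true,.edge 7],[]⟩,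
⟨0,7,3,2,false,[.edge 9,.eqn 40 false,.edge 9],[]⟩,
⟨416,9,3,2,false,[.edge 38,.edge 9],[]⟩,
⟨1376,8,3,1,true,[.edge 11,.eqn 42 true],[]⟩,
⟨1376,8,3,2,false,[.edge 43,.eqn 41 false,.edge 43],[]⟩,
⟨416,7,4,2,false,[.edge 10,.eqn 44 false,.edge 10],[]⟩,
⟨0,5,4,2,false,[.edge 7,.eqn 28 false,.edge 7],[]⟩,
⟨4,5,4,2,false,[.edge 9,.eqn 45 false,.edge 9],[]⟩,
⟨0,11,4,2,false,[.edge 39,.eqn 47 true,.eqn 40 false,.edge 8],[]⟩,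
⟨1632,10,3,1,true,[.edge 13,.eqn 48 true],[.eqn 37 false]⟩,
⟨0,1,2,11,true,[.code,.eqn 25 true,.edge 7,.code,.eqn 40 true,.edge 8,.code,.edge 14,.code,.edge 14,.code,.edge 15,.code],[.edge 3,.code,.eqn 1 false,.edge 33,.eqn 34 true,.code,.eqn 25 true,.edge 7,.code,.edge 7,.code,.edge 6,.eqn 34 true,.code,.eqn 25 true,.edge 4,.code]⟩,
⟨2,1,2,11,true,[.code,.eqn 24 false,.eqn 25 true,.edge 7,.code,.eqn 46 false,.edge 8,.code,.edge 16,.code,.edge 16,.code,.edge 15,.code],[.edge 36,.code,.eqn 25 false,.edge 7,.code,.eqn 47 true,.edge 39,.eqn 48 true,.code,.edge 8,.code,.edge 9,.code,.eqn 41 true,.eqn 45 false,.edge 43,.code]⟩,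
⟨384,1,0,1,true,[.eqn 25 false,.edge 4],[.eqn 25 false,.edge 7]⟩,
⟨384,1,1,2,false,[.eqn 25 false,.edge 4,.code],[.code,.code,.eqn 30 true,.edge 7]⟩,
⟨518,1,3,1,true,[.edge 7,.eqn 53 true],[]⟩,
⟨0,7,3,1,true,[.edge 9,.eqn 53 true],[]⟩,
⟨1632,5,3,1,true,[.edge 8],[.eqn 53 true]⟩,
⟨1665,5,3,1,true,[.edge 49],[.eqn 53 true]⟩,
⟨155,5,3,1,true,[.edge 52],[.eqn 53 true]⟩,
⟨0,7,3,2,false,[.edge 55,.edge 58],[]⟩,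
⟨0,8,3,1,true,[.edge 10,.eqn 59 true],[]⟩,
⟨1376,8,3,1,true,[.edge 43,.eqn 59 true],[]⟩,
⟨416,13,4,2,false,[.edge 50,.eqn 29 false,.eqn 31 true,.edge 56],[]⟩,
⟨307,8,3,1,true,[.edge 51,.eqn 62 true],[]⟩,
⟨0,13,3,1,true,[.edge 15],[.eqn 62 true]⟩,
⟨307,8,3,2,false,[.edge 63,.edge 64],[]⟩,
⟨0,8,3,1,true,[.edge 60],[.eqn 65 true]⟩,
⟨0,3,3,2,false,[.edge 5,.eqn 31 true,.edge 66],[]⟩,
⟨1632,5,3,1,true,[.edge 8,.eqn 67 false],[.eqn 53 true]⟩,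
⟨0,13,3,1,true,[.edge 15,.eqn 67 false],[.eqn 62 true,.eqn 67 false]⟩,
⟨384,1,2,13,false,[.code,.edge 7,.eqn 53 true,.code,.eqn 29 false,.edge 50,.eqn 62 true,.eqn 67 false,.code,.edge 17,.code,.edge 17,.code,.edge 69,.code,.edge 18,.code],[.eqn 25 false,.edge 7,.eqn 53 true,.code,.edge 57,.eqn 67 false,.code,.eqn 23 false,.edge 17,.code,.edge 17,.code,.eqn 23 false,.edge 69,.code,.eqn 32 true,.edge 18]⟩,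
⟨0,16,3,2,false,[.edge 18,.eqn 32 true,.eqn 23 true,.edge 18],[]⟩,
⟨0,15,4,2,false,[.edge 17,.eqn 32 true,.eqn 23 true,.edge 17],[]⟩,
⟨0,2,2,9,true,[.code,.eqn 31 false,.edge 50,.eqn 62 true,.eqn 67 false,.code,.edge 19,.code,.edge 20,.code,.edge 20,.code],[.edge 4,.code,.eqn 25 false,.edge 7,.eqn 53 true,.code,.eqn 27 true,.eqn 31 false,.edge 50,.eqn 62 true,.eqn 67 false,.code,.edge 68,.code,.edge 52,.eqn 53 true,.code,.eqn 27 true,.edge 61,.eqn 65 true,.eqn 67 false,.code,.edge 17,.code]⟩,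
⟨0,17,4,2,false,[.edge 19,.eqn 32 true,.eqn 23 true,.edge 19],[]⟩,
⟨395,15,3,2,false,[.edge 73,.eqn 74 false,.edge 73],[]⟩,
⟨2,2,2,11,true,[.code,.edge 56,.eqn 67 false,.code,.eqn 23 false,.edge 17,.code,.eqn 72 false,.edge 73,.code,.edge 73,.code,.edge 21,.code],[.edge 58,.code,.eqn 27 true,.edge 56,.eqn 67 false,.code,.eqn 23 false,.edge 19,.code,.edge 19,.code,.eqn 23 false,.edge 69,.code,.eqn 32 true,.edge 18,.code]⟩,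
⟨0,19,3,2,false,[.edge 21,.eqn 72 false,.edge 21],[]⟩,
⟨416,19,4,2,false,[.edge 76,.eqn 70 false,.eqn 71 false,.eqn 70 true,.edge 76],[]⟩,
⟨384,2,2,24,false,[.code,.eqn 27 true,.eqn 31 false,.edge 50,.eqn 62 true,.eqn 67 false,.code,.edge 19,.code,.edge 22,.code,.edge 22,.code,.edge 73,.code,.eqn 75 false,.edge 21,.code,.eqn 77 false,.eqn 78 false,.edge 21,.code,.eqn 72 false,.edge 73,.code,.eqn 74 false,.edge 22,.code,.edge 22,.code,.edge 19,.code,.edge 68],[]⟩,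
⟨518,1,3,2,false,[.edge 54,.eqn 79 false,.eqn 27 true,.edge 5],[]⟩,
⟨315,3,5,0,false,[.eqn 32 false,.eqn 80 false],[.eqn 80 false]⟩,
⟨0,0,3,2,false,[.edge 35,.eqn 81 false,.eqn 24 false,.eqn 81 true,.edge 36],[]⟩]⟩

/-- Its last walk. -/
def m89 : List Move := [.edge 3,.eqn 82 false]

/-- A collapsing certificate. -/
def c90 : Cert := ⟨[⟨false,0,0⟩,⟨false,928,1⟩,⟨false,416,2⟩],[.edge 3,.code,.edge 4,.code,.edge 5],[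
⟨0,1,3,2,false,[.edge 3,.eqn 1 false,.eqn 0 false,.eqn 1 true,.edge 3],[]⟩,
⟨0,1,3,2,false,[.edge 3,.eqn 1 false,.eqn 2 false,.eqn 1 true,.edge 3],[]⟩,
⟨0,1,3,2,false,[.edge 3,.eqn 2 true,.eqn 1 false,.eqn 2 false,.edge 3],[]⟩,
⟨0,2,3,2,false,[.edge 4,.eqn 9 false,.eqn 8 true,.edge 4],[]⟩,
⟨0,1,3,2,false,[.edge 3,.eqn 0 false,.eqn 1 false,.eqn 0 false,.eqn 1 true,.eqn 0 true,.edge 3],[]⟩,
⟨0,2,3,2,false,[.edge 4,.eqn 11 false,.edge 4],[]⟩,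
⟨0,1,3,2,false,[.edge 3,.eqn 0 false,.eqn 1 false,.eqn 2 false,.eqn 1 true,.eqn 0 true,.edge 3],[]⟩,
⟨0,2,3,2,false,[.edge 4,.eqn 7 false,.eqn 8 true,.eqn 13 true,.edge 4],[]⟩,
⟨0,3,3,2,false,[.edge 5,.eqn 14 false,.eqn 10 true,.edge 5],[]⟩,
⟨416,2,4,2,false,[.edge 5,.eqn 6 false,.eqn 15 false,.eqn 6 true,.edge 5],[]⟩,
⟨928,1,4,2,false,[.edge 4,.eqn 16 false,.eqn 14 false,.eqn 12 true,.eqn 16 true,.edge 4],[]⟩,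
⟨0,0,0,3,false,[.edge 3,.eqn 17 false,.eqn 8 true,.edge 4,.eqn 16 false,.eqn 10 false,.edge 5],[]⟩,
⟨0,0,1,5,false,[.edge 3,.code,.eqn 17 true,.eqn 13 false,.edge 4,.code,.code],[]⟩,
⟨0,3,3,1,true,[.edge 5,.eqn 19 false],[.eqn 18 false]⟩,
⟨0,1,3,2,false,[.edge 3,.eqn 0 false,.eqn 2 false,.edge 20],[]⟩]⟩

/-- Its last walk. -/
def m90 : List Move := [.edge 3,.eqn 21 true]

/-- A collapsing certificate. -/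
def c91 : Cert := ⟨[⟨false,0,0⟩,⟨false,928,1⟩,⟨false,416,2⟩,⟨false,0,1⟩,⟨true,680,1⟩,⟨true,1632,5⟩,⟨false,4,5⟩,⟨false,416,7⟩,⟨true,1385,8⟩,⟨true,416,9⟩,⟨true,1632,10⟩,⟨true,1612,6⟩,⟨false,131,6⟩,⟨true,1603,6⟩,⟨true,1596,3⟩,⟨false,844,3⟩,⟨true,606,3⟩,⟨true,1632,17⟩,⟨true,1701,17⟩],[.edge 3,.code,.edge 4,.code,.edge 5],[
⟨0,1,3,2,false,[.edge 3,.eqn 1 false,.eqn 0 false,.eqn 1 true,.edge 3],[]⟩,
⟨0,1,3,2,false,[.edge 3,.eqn 1 false,.eqn 2 false,.eqn 1 true,.edge 3],[]⟩,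
⟨0,1,3,2,false,[.edge 3,.eqn 2 true,.eqn 1 false,.eqn 2 false,.edge 3],[]⟩,
⟨0,2,3,2,false,[.edge 4,.eqn 25 false,.eqn 24 true,.edge 4],[]⟩,
⟨0,1,3,2,false,[.edge 3,.eqn 0 false,.eqn 1 false,.eqn 0 false,.eqn 1 true,.eqn 0 true,.edge 3],[]⟩,
⟨0,2,3,2,false,[.edge 4,.eqn 27 false,.edge 4],[]⟩,
⟨0,1,3,2,false,[.edge 3,.eqn 0 false,.eqn 1 false,.eqn 2 false,.eqn 1 true,.eqn 0 true,.edge 3],[]⟩,
⟨0,2,3,2,false,[.edge 4,.eqn 23 false,.eqn 24 true,.eqn 29 true,.edge 4],[]⟩,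
⟨0,3,3,2,false,[.edge 5,.eqn 30 false,.eqn 26 true,.edge 5],[]⟩,
⟨0,0,0,2,true,[.edge 3,.edge 6],[]⟩,
⟨0,0,1,2,false,[.edge 3,.code],[.code,.code,.eqn 0 false,.edge 32]⟩,
⟨0,0,3,1,true,[.edge 32,.eqn 33 true],[]⟩,
⟨0,4,3,1,true,[.edge 6],[.eqn 33 true]⟩,
⟨0,0,2,21,false,[.code,.eqn 0 false,.eqn 1 false,.eqn 2 true,.edge 32,.eqn 33 true,.code,.edge 7,.code,.edge 8,.code,.edge 8,.code,.edge 9,.code,.edge 10,.code,.edge 11,.code,.edge 12,.code,.edge 13,.code,.edge 13,.code],[.edge 32,.eqn 33 true,.code,.eqn 25 false,.edge 7]⟩,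
⟨416,9,3,1,true,[.edge 12,.eqn 36 false],[]⟩,
⟨1632,10,3,1,true,[.edge 13],[.eqn 36 false]⟩,
⟨0,5,4,2,false,[.edge 7,.eqn 24 false,.edge 7],[]⟩,
⟨416,9,3,2,false,[.edge 37,.edge 9],[]⟩,
⟨1385,8,3,1,true,[.edge 11,.eqn 40 true],[]⟩,
⟨0,5,4,2,false,[.edge 7,.eqn 27 false,.edge 7],[]⟩,
⟨0,7,3,2,false,[.edge 9,.eqn 42 false,.edge 9],[]⟩,
⟨0,6,4,2,false,[.edge 8,.eqn 39 true,.eqn 42 false,.edge 38],[]⟩,
⟨0,1,2,11,true,[.code,.eqn 24 false,.eqn 25 false,.edge 7,.code,.eqn 39 true,.edge 8,.code,.edge 14,.code,.edge 14,.code,.edge 15,.code],[.edge 3,.code,.eqn 1 false,.edge 32,.eqn 33 true,.code,.eqn 24 false,.eqn 29 false,.edge 7,.code,.edge 7,.code,.edge 6,.eqn 33 true,.code,.eqn 24 false,.edge 4,.code]⟩,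
⟨2,1,2,11,true,[.code,.eqn 24 false,.eqn 29 false,.edge 7,.code,.edge 8,.code,.edge 16,.code,.edge 16,.code,.edge 15,.code],[.edge 35,.code,.eqn 29 false,.edge 7,.code,.eqn 39 false,.edge 38,.eqn 44 false,.code,.edge 8,.code,.edge 9,.code,.eqn 43 false,.edge 10,.code]⟩,
⟨384,1,0,1,true,[.eqn 24 false,.edge 4],[.eqn 29 false,.edge 7]⟩,
⟨384,1,1,2,false,[.eqn 24 false,.edge 4,.code],[.code,.code,.eqn 25 false,.edge 7]⟩,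
⟨680,1,3,1,true,[.edge 7,.eqn 48 true],[]⟩,
⟨0,7,3,1,true,[.edge 9,.eqn 48 true],[]⟩,
⟨1632,5,3,1,true,[.edge 8],[.eqn 48 true]⟩,
⟨138,5,3,1,true,[.edge 47],[.eqn 48 true]⟩,
⟨0,7,3,2,false,[.edge 50,.edge 52],[]⟩,
⟨0,8,3,1,true,[.edge 10,.eqn 53 true],[]⟩,
⟨1385,8,3,1,true,[.edge 41,.eqn 53 true],[]⟩,
⟨416,13,4,2,false,[.edge 45,.eqn 26 true,.eqn 28 false,.edge 51],[]⟩,
⟨1377,8,3,1,true,[.edge 46,.eqn 56 true],[]⟩,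
⟨0,13,3,1,true,[.edge 15],[.eqn 56 true]⟩,
⟨1377,8,3,2,false,[.edge 57,.edge 58],[]⟩,
⟨0,8,3,1,true,[.edge 54],[.eqn 59 true]⟩,
⟨0,3,3,2,false,[.edge 5,.eqn 30 true,.edge 60],[]⟩,
⟨1632,5,3,1,true,[.edge 8,.eqn 61 false],[.eqn 48 true]⟩,
⟨0,13,3,1,true,[.edge 15,.eqn 61 false],[.eqn 56 true,.eqn 61 false]⟩,
⟨0,2,2,9,true,[.code,.eqn 26 true,.edge 45,.eqn 56 true,.eqn 61 false,.code,.edge 19,.code,.edge 20,.code,.edge 20,.code],[.edge 4,.code,.eqn 29 false,.edge 7,.eqn 48 true,.code,.eqn 30 false,.edge 45,.eqn 56 true,.eqn 61 false,.code,.edge 62,.code,.edge 47,.eqn 48 true,.code,.edge 55,.eqn 59 true,.eqn 61 false,.code,.eqn 31 false,.edge 19,.code]⟩,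
⟨0,17,4,2,false,[.edge 19,.eqn 31 false,.eqn 22 true,.edge 19],[]⟩,
⟨629,17,3,2,false,[.edge 64,.eqn 65 false,.edge 64],[]⟩,
⟨0,18,4,2,false,[.edge 20,.eqn 66 false,.eqn 65 true,.edge 20],[]⟩,
⟨2,2,2,15,false,[.code,.eqn 26 false,.edge 51,.eqn 61 false,.code,.eqn 22 false,.edge 19,.code,.edge 21,.code,.edge 21,.code,.edge 64,.code,.eqn 66 false,.edge 64,.code,.edge 20,.code],[.edge 52,.code,.eqn 28 false,.edge 45,.eqn 56 true,.eqn 61 false,.code,.eqn 22 false,.edge 19,.code,.edge 19,.code,.eqn 22 false,.edge 63]⟩,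
⟨134,18,5,0,false,[.eqn 67 false,.eqn 68 false],[.eqn 68 false]⟩,
⟨1895,2,3,2,false,[.edge 62,.eqn 22 false,.eqn 69 false,.eqn 22 true,.edge 62],[]⟩,
⟨680,1,3,2,false,[.edge 49,.eqn 70 false,.eqn 26 false,.eqn 70 true,.edge 49],[]⟩,
⟨0,0,3,2,false,[.edge 34,.eqn 71 false,.eqn 23 false,.eqn 71 true,.edge 35],[]⟩]⟩

/-- Its last walk. -/
def m91 : List Move := [.edge 3,.eqn 72 false]

/-- A collapsing certificate. -/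
def c92 : Cert := ⟨[⟨false,0,0⟩,⟨false,928,1⟩,⟨false,416,2⟩],[.edge 3,.code,.edge 4,.code,.edge 5],[
⟨0,1,3,2,false,[.edge 3,.eqn 1 false,.eqn 0 false,.eqn 1 true,.edge 3],[]⟩,
⟨0,1,3,2,false,[.edge 3,.eqn 1 false,.eqn 2 false,.eqn 1 true,.edge 3],[]⟩,
⟨0,1,3,2,false,[.edge 3,.eqn 2 true,.eqn 1 false,.eqn 2 false,.edge 3],[]⟩,
⟨0,2,3,2,false,[.edge 4,.eqn 9 false,.eqn 8 true,.edge 4],[]⟩,
⟨0,1,3,2,false,[.edge 3,.eqn 0 false,.eqn 1 false,.eqn 0 false,.eqn 1 true,.eqn 0 true,.edge 3],[]⟩,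
⟨0,2,3,2,false,[.edge 4,.eqn 11 false,.edge 4],[]⟩,
⟨0,1,3,2,false,[.edge 3,.eqn 0 false,.eqn 1 false,.eqn 2 false,.eqn 1 true,.eqn 0 true,.edge 3],[]⟩,
⟨0,2,3,2,false,[.edge 4,.eqn 7 false,.eqn 8 true,.eqn 13 true,.edge 4],[]⟩,
⟨0,3,3,2,false,[.edge 5,.eqn 14 false,.eqn 10 true,.edge 5],[]⟩,
⟨416,2,4,2,false,[.edge 5,.eqn 6 false,.eqn 15 false,.eqn 6 true,.edge 5],[]⟩,
⟨928,1,4,2,false,[.edge 4,.eqn 16 false,.eqn 14 false,.eqn 12 true,.eqn 16 true,.edge 4],[]⟩,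
⟨0,0,0,3,false,[.edge 3,.eqn 17 false,.eqn 8 true,.edge 4,.eqn 16 false,.eqn 10 false,.edge 5],[]⟩,
⟨0,0,1,5,false,[.edge 3,.code,.eqn 17 true,.eqn 13 false,.edge 4,.code,.code],[]⟩,
⟨0,3,3,1,true,[.edge 5,.eqn 19 false],[.eqn 18 false]⟩,
⟨0,1,3,2,false,[.edge 3,.eqn 0 false,.eqn 2 false,.edge 20],[]⟩]⟩

/-- Its last walk. -/
def m92 : List Move := [.edge 3,.eqn 21 true]

/-- A collapsing certificate. -/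
def c93 : Cert := ⟨[⟨false,0,0⟩,⟨false,928,1⟩,⟨false,416,2⟩,⟨false,0,1⟩,⟨true,532,1⟩,⟨true,1632,5⟩,⟨false,4,5⟩,⟨false,416,7⟩,⟨true,1392,8⟩,⟨true,416,9⟩,⟨true,1632,10⟩,⟨true,1561,6⟩,⟨false,120,6⟩,⟨true,1612,6⟩,⟨true,1295,3⟩,⟨false,682,3⟩,⟨true,1603,15⟩,⟨true,969,3⟩,⟨true,1632,18⟩,⟨false,4,18⟩],[.edge 3,.code,.edge 4,.code,.edge 5],[
⟨0,1,3,2,false,[.edge 3,.eqn 1 false,.eqn 0 false,.eqn 1 true,.edge 3],[]⟩,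
⟨0,1,3,2,false,[.edge 3,.eqn 1 false,.eqn 2 false,.eqn 1 true,.edge 3],[]⟩,
⟨0,1,3,2,false,[.edge 3,.eqn 2 true,.eqn 1 false,.eqn 2 false,.edge 3],[]⟩,
⟨0,2,3,2,false,[.edge 4,.eqn 26 false,.eqn 25 true,.edge 4],[]⟩,
⟨0,1,3,2,false,[.edge 3,.eqn 0 false,.eqn 1 false,.eqn 0 false,.eqn 1 true,.eqn 0 true,.edge 3],[]⟩,
⟨0,1,3,2,false,[.edge 3,.eqn 0 false,.eqn 1 false,.eqn 2 false,.eqn 1 true,.eqn 0 true,.edge 3],[]⟩,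
⟨0,2,3,2,false,[.edge 4,.eqn 24 false,.eqn 25 true,.eqn 29 true,.edge 4],[]⟩,
⟨0,3,3,2,false,[.edge 5,.eqn 30 false,.eqn 27 true,.edge 5],[]⟩,
⟨0,0,0,2,true,[.edge 3,.edge 6],[]⟩,
⟨0,0,1,2,false,[.edge 3,.code],[.code,.code,.eqn 0 false,.edge 32]⟩,
⟨0,0,3,1,true,[.edge 32,.eqn 33 true],[]⟩,
⟨0,4,3,1,true,[.edge 6],[.eqn 33 true]⟩,
⟨0,0,2,21,false,[.code,.eqn 1 false,.eqn 2 true,.edge 32,.eqn 33 true,.code,.edge 7,.code,.edge 8,.code,.edge 8,.code,.edge 9,.code,.edge 10,.code,.edge 11,.code,.edge 12,.code,.edge 13,.code,.edge 13,.code],[.edge 32,.eqn 33 true,.code,.eqn 25 false,.edge 7]⟩,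
⟨416,9,3,1,true,[.edge 12,.eqn 36 false],[]⟩,
⟨1632,10,3,1,true,[.edge 13],[.eqn 36 false]⟩,
⟨0,5,4,2,false,[.edge 7,.eqn 26 false,.eqn 25 true,.edge 7],[]⟩,
⟨416,9,3,2,false,[.edge 37,.edge 9],[]⟩,
⟨1392,8,3,1,true,[.edge 11,.eqn 40 true],[]⟩,
⟨0,5,4,2,false,[.edge 7,.eqn 28 false,.edge 7],[]⟩,
⟨0,6,4,2,false,[.edge 8,.eqn 42 false,.edge 38],[]⟩,
⟨1632,10,3,1,true,[.edge 13,.eqn 43 false],[.eqn 36 false]⟩,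
⟨0,1,2,11,true,[.code,.eqn 24 false,.eqn 25 true,.edge 7,.code,.eqn 39 true,.edge 8,.code,.edge 14,.code,.edge 14,.code,.edge 15,.code],[.edge 3,.code,.eqn 1 false,.edge 32,.eqn 33 true,.code,.eqn 24 false,.eqn 25 true,.edge 7,.code,.edge 7,.code,.edge 6,.eqn 33 true,.code,.eqn 25 true,.edge 4,.code]⟩,
⟨2,1,2,11,true,[.code,.eqn 25 true,.edge 7,.code,.edge 38,.eqn 43 false,.code,.edge 16,.code,.edge 16,.code,.edge 15,.code],[.edge 35,.code,.eqn 29 true,.edge 7,.code,.edge 8,.code,.edge 8,.code,.edge 9,.code,.edge 41,.code]⟩,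
⟨384,1,0,1,true,[.eqn 25 false,.edge 4],[.eqn 29 true,.edge 7]⟩,
⟨384,1,1,2,false,[.eqn 25 false,.edge 4,.code],[.code,.code,.eqn 25 false,.edge 7]⟩,
⟨532,1,3,1,true,[.edge 7,.eqn 48 true],[]⟩,
⟨0,7,3,1,true,[.edge 9,.eqn 48 true],[]⟩,
⟨1632,5,3,1,true,[.edge 8],[.eqn 48 true]⟩,
⟨1730,5,3,1,true,[.edge 44],[.eqn 48 true]⟩,
⟨1,5,3,1,true,[.edge 47],[.eqn 48 true]⟩,
⟨0,7,3,2,false,[.edge 50,.edge 53],[]⟩,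
⟨0,8,3,1,true,[.edge 10,.eqn 54 true],[]⟩,
⟨416,13,4,2,false,[.edge 45,.eqn 30 false,.edge 51],[]⟩,
⟨307,8,3,1,true,[.edge 46,.eqn 56 true],[]⟩,
⟨0,13,3,1,true,[.edge 15],[.eqn 56 true]⟩,
⟨307,8,3,2,false,[.edge 57,.edge 58],[]⟩,
⟨0,8,3,1,true,[.edge 55],[.eqn 59 true]⟩,
⟨0,3,3,2,false,[.edge 5,.eqn 30 true,.edge 60],[]⟩,
⟨1632,5,3,1,true,[.edge 8,.eqn 61 false],[.eqn 48 true]⟩,
⟨0,13,3,1,true,[.edge 15,.eqn 61 false],[.eqn 56 true,.eqn 61 false]⟩,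
⟨384,1,2,13,false,[.code,.eqn 24 false,.edge 7,.eqn 48 true,.code,.eqn 27 true,.edge 51,.eqn 61 false,.code,.edge 17,.code,.edge 17,.code,.edge 63,.code,.edge 18,.code],[.eqn 29 true,.edge 7,.eqn 48 true,.code,.eqn 27 true,.edge 51,.eqn 61 false,.code,.eqn 31 false,.edge 17,.code,.edge 17,.code,.edge 63,.code,.edge 18]⟩,
⟨0,16,3,2,false,[.edge 18,.eqn 31 false,.eqn 23 true,.edge 18],[]⟩,
⟨2,2,2,11,true,[.code,.eqn 30 false,.edge 45,.eqn 56 true,.eqn 61 false,.code,.edge 20,.code,.edge 21,.code,.edge 21,.code,.edge 22,.code],[.edge 53,.code,.eqn 27 false,.edge 52,.eqn 61 false,.code,.eqn 31 false,.edge 20,.code,.edge 20,.code,.edge 63,.code,.eqn 31 false,.edge 18,.code]⟩,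
⟨0,18,4,2,false,[.edge 20,.eqn 31 false,.eqn 23 true,.edge 20],[]⟩,
⟨416,20,4,2,false,[.edge 66,.eqn 64 false,.eqn 65 false,.eqn 64 true,.edge 66],[]⟩,
⟨0,20,3,2,false,[.edge 22,.eqn 67 false,.edge 22],[]⟩,
⟨1315,16,3,2,false,[.edge 66,.eqn 69 false,.eqn 68 false,.eqn 69 false,.eqn 68 false,.eqn 69 false,.eqn 68 true,.eqn 69 true,.eqn 68 true,.eqn 69 true,.edge 66],[]⟩,
⟨682,3,4,2,false,[.edge 18,.eqn 64 false,.eqn 70 false,.eqn 64 true,.edge 18],[]⟩,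
⟨1617,2,3,2,false,[.edge 62,.eqn 71 false,.eqn 23 false,.eqn 71 true,.eqn 23 true,.edge 62],[]⟩,
⟨532,1,3,2,false,[.edge 49,.eqn 72 false,.eqn 27 false,.eqn 72 false,.edge 49],[]⟩,
⟨0,0,3,2,false,[.edge 34,.eqn 73 false,.eqn 24 false,.eqn 73 true,.edge 35],[]⟩]⟩

/-- Its last walk. -/
def m93 : List Move := [.edge 3,.eqn 74 false]

/-- A collapsing certificate. -/
def c94 : Cert := ⟨[⟨false,0,0⟩,⟨false,928,1⟩,⟨false,416,2⟩],[.edge 3,.code,.edge 4,.code,.edge 5],[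
⟨0,1,3,2,false,[.edge 3,.eqn 1 false,.eqn 0 false,.eqn 1 true,.edge 3],[]⟩,
⟨0,1,3,2,false,[.edge 3,.eqn 1 false,.eqn 2 false,.eqn 1 true,.edge 3],[]⟩,
⟨0,1,3,2,false,[.edge 3,.eqn 2 true,.eqn 1 false,.eqn 2 false,.edge 3],[]⟩,
⟨0,2,3,2,false,[.edge 4,.eqn 9 false,.eqn 8 true,.edge 4],[]⟩,
⟨0,1,3,2,false,[.edge 3,.eqn 0 false,.eqn 1 false,.eqn 0 false,.eqn 1 true,.eqn 0 true,.edge 3],[]⟩,
⟨0,2,3,2,false,[.edge 4,.eqn 11 false,.edge 4],[]⟩,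
⟨0,1,3,2,false,[.edge 3,.eqn 0 false,.eqn 1 false,.eqn 2 false,.eqn 1 true,.eqn 0 true,.edge 3],[]⟩,
⟨0,2,3,2,false,[.edge 4,.eqn 7 false,.eqn 8 true,.eqn 13 true,.edge 4],[]⟩,
⟨0,3,3,2,false,[.edge 5,.eqn 14 false,.eqn 10 true,.edge 5],[]⟩,
⟨416,2,4,2,false,[.edge 5,.eqn 6 false,.eqn 15 false,.eqn 6 true,.edge 5],[]⟩,
⟨928,1,4,2,false,[.edge 4,.eqn 16 false,.eqn 14 false,.eqn 12 true,.eqn 16 true,.edge 4],[]⟩,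
⟨0,0,0,3,false,[.edge 3,.eqn 17 false,.eqn 8 true,.edge 4,.eqn 16 false,.eqn 10 false,.edge 5],[]⟩,
⟨0,0,1,5,false,[.edge 3,.code,.eqn 17 true,.eqn 13 false,.edge 4,.code,.code],[]⟩,
⟨0,3,3,1,true,[.edge 5,.eqn 19 false],[.eqn 18 false]⟩,
⟨0,1,3,2,false,[.edge 3,.eqn 0 false,.eqn 2 false,.edge 20],[]⟩]⟩

/-- Its last walk. -/
def m94 : List Move := [.edge 3,.eqn 21 true]

/-- A collapsing certificate. -/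
def c95 : Cert := ⟨[⟨false,0,0⟩,⟨false,928,1⟩,⟨false,416,2⟩,⟨false,0,1⟩,⟨true,698,1⟩,⟨true,1632,5⟩,⟨false,4,5⟩,⟨false,416,7⟩,⟨true,1568,6⟩,⟨false,164,6⟩,⟨true,1599,6⟩,⟨true,1661,3⟩,⟨false,846,3⟩,⟨true,1836,12⟩,⟨false,227,12⟩,⟨true,1657,12⟩,⟨false,279,13⟩,⟨true,1401,17⟩,⟨true,416,18⟩,⟨true,1632,19⟩],[.edge 3,.code,.edge 4,.code,.edge 5],[
⟨0,1,3,2,false,[.edge 3,.eqn 1 false,.eqn 0 false,.eqn 1 true,.edge 3],[]⟩,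
⟨0,1,3,2,false,[.edge 3,.eqn 1 false,.eqn 2 false,.eqn 1 true,.edge 3],[]⟩,
⟨0,1,3,2,false,[.edge 3,.eqn 2 true,.eqn 1 false,.eqn 2 false,.edge 3],[]⟩,
⟨0,2,3,2,false,[.edge 4,.eqn 26 false,.eqn 25 true,.edge 4],[]⟩,
⟨0,1,3,2,false,[.edge 3,.eqn 0 false,.eqn 1 false,.eqn 0 false,.eqn 1 true,.eqn 0 true,.edge 3],[]⟩,
⟨0,2,3,2,false,[.edge 4,.eqn 28 false,.edge 4],[]⟩,
⟨0,1,3,2,false,[.edge 3,.eqn 0 false,.eqn 1 false,.eqn 2 false,.eqn 1 true,.eqn 0 true,.edge 3],[]⟩,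
⟨0,2,3,2,false,[.edge 4,.eqn 24 false,.eqn 25 true,.eqn 30 true,.edge 4],[]⟩,
⟨0,3,3,2,false,[.edge 5,.eqn 31 false,.eqn 27 true,.edge 5],[]⟩,
⟨0,0,0,2,true,[.edge 3,.edge 6],[]⟩,
⟨0,0,1,2,false,[.edge 3,.code],[.code,.code,.eqn 0 false,.edge 33]⟩,
⟨0,0,3,1,true,[.edge 33,.eqn 34 true],[]⟩,
⟨0,4,3,1,true,[.edge 6],[.eqn 34 true]⟩,
⟨0,5,4,2,false,[.edge 7,.eqn 25 false,.edge 7],[]⟩,
⟨0,5,4,2,false,[.edge 7,.eqn 28 false,.edge 7],[]⟩,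
⟨0,7,3,2,false,[.edge 9,.eqn 38 false,.edge 9],[]⟩,
⟨0,1,2,11,true,[.code,.eqn 25 false,.eqn 30 false,.edge 7,.code,.eqn 37 true,.eqn 38 false,.edge 8,.code,.edge 11,.code,.edge 11,.code,.edge 12,.code],[.edge 3,.code,.eqn 1 false,.edge 33,.eqn 34 true,.code,.eqn 25 false,.eqn 26 false,.edge 7,.code,.edge 7,.code,.edge 6,.eqn 34 true,.code,.eqn 30 true,.edge 4,.code]⟩,
⟨2,1,2,11,true,[.code,.eqn 25 false,.eqn 26 false,.edge 7,.code,.eqn 37 false,.edge 8,.code,.edge 13,.code,.edge 13,.code,.edge 12,.code],[.edge 36,.code,.eqn 26 false,.edge 7,.code,.eqn 37 true,.eqn 38 false,.edge 8,.code,.edge 8,.code,.edge 9,.code,.eqn 39 false,.edge 10,.code]⟩,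
⟨384,1,0,1,true,[.eqn 25 false,.edge 4],[.eqn 26 false,.edge 7]⟩,
⟨384,1,1,2,false,[.eqn 25 false,.edge 4,.code],[.code,.code,.eqn 30 false,.edge 7]⟩,
⟨698,1,3,1,true,[.edge 7,.eqn 43 true],[]⟩,
⟨0,7,3,1,true,[.edge 9,.eqn 43 true],[]⟩,
⟨1632,5,3,1,true,[.edge 8],[.eqn 43 true]⟩,
⟨170,5,3,1,true,[.edge 42],[.eqn 43 true]⟩,
⟨0,7,3,2,false,[.edge 45,.edge 47],[]⟩,
⟨0,8,3,1,true,[.edge 10,.eqn 48 true],[]⟩,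
⟨416,10,4,2,false,[.edge 40,.eqn 29 false,.eqn 31 false,.edge 46],[]⟩,
⟨1322,8,3,1,true,[.edge 41,.eqn 50 true],[]⟩,
⟨0,10,3,1,true,[.edge 12],[.eqn 50 true]⟩,
⟨1322,8,3,2,false,[.edge 51,.edge 52],[]⟩,
⟨0,8,3,1,true,[.edge 49],[.eqn 53 true]⟩,
⟨0,3,3,2,false,[.edge 5,.eqn 31 true,.edge 54],[]⟩,
⟨1632,5,3,1,true,[.edge 8,.eqn 55 false],[.eqn 43 true]⟩,
⟨0,10,3,1,true,[.edge 12,.eqn 55 false],[.eqn 50 true,.eqn 55 false]⟩,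
⟨384,1,2,13,false,[.code,.eqn 24 false,.eqn 30 true,.edge 7,.eqn 43 true,.code,.eqn 31 true,.edge 40,.eqn 50 true,.eqn 55 false,.code,.edge 14,.code,.edge 14,.code,.edge 57,.code,.edge 15,.code],[.eqn 26 false,.edge 7,.eqn 43 true,.code,.eqn 27 false,.edge 46,.eqn 55 false,.code,.eqn 23 false,.edge 14,.code,.edge 14,.code,.eqn 23 false,.edge 57,.code,.eqn 23 false,.edge 15]⟩,
⟨0,12,4,2,false,[.edge 14,.eqn 32 false,.eqn 23 true,.edge 14],[]⟩,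
⟨0,2,2,11,true,[.code,.eqn 31 false,.edge 40,.eqn 50 true,.eqn 55 false,.code,.eqn 23 false,.edge 14,.code,.edge 16,.code,.edge 16,.code,.edge 17,.code],[.edge 4,.code,.eqn 26 false,.edge 7,.eqn 43 true,.code,.edge 46,.eqn 55 false,.code,.edge 56,.code,.edge 42,.eqn 43 true,.code,.eqn 29 false,.edge 5,.code]⟩,
⟨416,15,4,2,false,[.edge 60,.eqn 23 false,.edge 60],[]⟩,
⟨0,15,3,2,false,[.edge 17,.eqn 59 false,.edge 17],[]⟩,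
⟨2,2,2,11,true,[.code,.eqn 27 true,.eqn 31 true,.edge 40,.eqn 50 true,.eqn 55 false,.code,.eqn 23 false,.edge 14,.code,.edge 18,.code,.edge 18,.code,.edge 17,.code],[.edge 47,.code,.edge 40,.eqn 50 true,.eqn 55 false,.code,.eqn 32 true,.edge 60,.code,.edge 60,.code,.edge 57,.code,.eqn 32 true,.edge 15,.code]⟩,
⟨384,2,2,21,false,[.code,.eqn 27 false,.edge 46,.eqn 55 false,.code,.edge 60,.code,.eqn 61 false,.eqn 62 false,.eqn 61 false,.edge 17,.code,.edge 17,.code,.eqn 61 false,.eqn 62 false,.edge 63,.code,.edge 19,.code,.edge 20,.code,.edge 21,.code,.edge 22,.code,.edge 22,.code],[.eqn 31 true,.edge 40,.eqn 50 true,.eqn 55 false,.code,.edge 60]⟩,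
⟨416,18,3,1,true,[.edge 21,.eqn 64 false],[]⟩,
⟨1322,13,3,2,false,[.edge 63,.edge 65],[]⟩,
⟨1401,17,3,1,true,[.edge 20,.eqn 66 false],[]⟩,
⟨0,17,3,2,false,[.edge 19,.eqn 58 false,.eqn 58 false,.edge 67],[]⟩,
⟨279,13,4,2,false,[.edge 19,.eqn 68 true,.eqn 68 true,.eqn 68 true,.eqn 68 true,.edge 19],[]⟩,
⟨846,3,4,2,false,[.edge 15,.eqn 69 false,.edge 15],[]⟩,
⟨1630,2,3,2,false,[.edge 56,.eqn 70 false,.eqn 23 false,.eqn 70 true,.eqn 23 true,.edge 56],[]⟩,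
⟨698,1,3,2,false,[.edge 44,.eqn 71 false,.eqn 29 false,.eqn 71 false,.edge 44],[]⟩,
⟨0,0,3,2,false,[.edge 35,.eqn 72 false,.eqn 72 false,.edge 36],[]⟩]⟩

/-- Its last walk. -/
def m95 : List Move := [.edge 3,.eqn 73 false]

/-- The certificates of this file. -/
def list2 : List (ℕ × Cert × List Move) := [(885,c64,m64),(887,c65,m65),(960,c66,m66),(965,c67,m67),(970,c68,m68),(975,c69,m69),(976,c70,m70),(981,c71,m71),(986,c72,m72),(991,c73,m73),(1056,c74,m74),(1061,c75,m75),(1064,c76,m76),(1069,c77,m77),(1072,c78,m78),(1077,c79,m79),(1085,c80,m80),(1312,c81,m81),(1314,c82,m82),(1321,c83,m83),(1323,c84,m84),(1328,c85,m85),(1330,c86,m86),(1337,c87,m87),(1339,c88,m88),(1376,c89,m89),(1382,c90,m90),(1385,c91,m91),(1391,c92,m92),(1392,c93,m93),(1398,c94,m94),(1401,c95,m95)]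

end Cfsg.Agent.J2Uniq.CData
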