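import Cfsg.Agent.Lib.J2Uniq.Cert

/-!
Certificates for involutions which lead to a collapse.
-/

set_option autoImplicit false
set_option maxRecDepth 100000
set_option maxHeartbeats 4000000

namespace Cfsg.Agent.J2Uniq.CData

/-- A collapsing certificate. -/
def c96 : Cert := ⟨[⟨false,0,0⟩,⟨false,928,1⟩,⟨false,416,2⟩],[.edge 3,.code,.edge 4,.code,.edge 5],[
⟨0,1,3,2,false,[.edge 3,.eqn 1 false,.eqn 0 false,.eqn 1 true,.edge 3],[]⟩,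
⟨0,1,3,2,false,[.edge 3,.eqn 1 false,.eqn 2 false,.eqn 1 true,.edge 3],[]⟩,
⟨0,1,3,2,false,[.edge 3,.eqn 2 true,.eqn 1 false,.eqn 2 false,.edge 3],[]⟩,
⟨0,2,3,2,false,[.edge 4,.eqn 9 false,.eqn 8 true,.edge 4],[]⟩,
⟨0,1,3,2,false,[.edge 3,.eqn 0 false,.eqn 1 false,.eqn 0 false,.eqn 1 true,.eqn 0 true,.edge 3],[]⟩,
⟨0,2,3,2,false,[.edge 4,.eqn 11 false,.edge 4],[]⟩,
⟨0,1,3,2,false,[.edge 3,.eqn 0 false,.eqn 1 false,.eqn 2 false,.eqn 1 true,.eqn 0 true,.edge 3],[]⟩,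
⟨0,2,3,2,false,[.edge 4,.eqn 7 false,.eqn 8 true,.eqn 13 true,.edge 4],[]⟩,
⟨0,3,3,2,false,[.edge 5,.eqn 14 false,.eqn 10 true,.edge 5],[]⟩,
⟨416,2,4,2,false,[.edge 5,.eqn 6 false,.eqn 15 false,.eqn 6 true,.edge 5],[]⟩,
⟨928,1,4,2,false,[.edge 4,.eqn 16 false,.eqn 14 false,.eqn 12 true,.eqn 16 true,.edge 4],[]⟩,
⟨0,0,0,3,false,[.edge 3,.eqn 17 false,.eqn 8 true,.edge 4,.eqn 16 false,.eqn 10 false,.edge 5],[]⟩,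
⟨0,0,1,5,false,[.edge 3,.code,.eqn 17 true,.eqn 13 false,.edge 4,.code,.code],[]⟩,
⟨0,3,3,1,true,[.edge 5,.eqn 19 false],[.eqn 18 false]⟩,
⟨0,1,3,2,false,[.edge 3,.eqn 0 false,.eqn 2 false,.edge 20],[]⟩]⟩

/-- Its last walk. -/
def m96 : List Move := [.edge 3,.eqn 21 true]

/-- A collapsing certificate. -/
def c97 : Cert := ⟨[⟨false,0,0⟩,⟨false,928,1⟩,⟨false,416,2⟩],[.edge 3,.code,.edge 4,.code,.edge 5],[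
⟨0,1,3,2,false,[.edge 3,.eqn 1 false,.eqn 0 false,.eqn 1 true,.edge 3],[]⟩,
⟨0,1,3,2,false,[.edge 3,.eqn 1 false,.eqn 2 false,.eqn 1 true,.edge 3],[]⟩,
⟨0,1,3,2,false,[.edge 3,.eqn 2 true,.eqn 1 false,.eqn 2 false,.edge 3],[]⟩,
⟨0,2,3,2,false,[.edge 4,.eqn 9 false,.eqn 8 true,.edge 4],[]⟩,
⟨0,1,3,2,false,[.edge 3,.eqn 0 false,.eqn 1 false,.eqn 2 false,.eqn 1 true,.eqn 0 true,.edge 3],[]⟩,
⟨0,2,3,2,false,[.edge 4,.eqn 7 false,.eqn 8 true,.eqn 11 true,.edge 4],[]⟩,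
⟨0,3,3,2,false,[.edge 5,.eqn 12 false,.eqn 10 true,.edge 5],[]⟩,
⟨416,2,4,2,false,[.edge 5,.eqn 6 false,.eqn 13 false,.eqn 6 true,.edge 5],[]⟩,
⟨928,1,4,2,false,[.edge 4,.eqn 14 false,.eqn 10 false,.eqn 14 true,.edge 4],[]⟩,
⟨0,0,0,3,false,[.edge 3,.eqn 15 false,.eqn 8 true,.edge 4,.eqn 14 false,.eqn 12 false,.edge 5],[]⟩,
⟨0,0,1,5,false,[.edge 3,.code,.eqn 15 true,.eqn 11 true,.edge 4,.code,.code],[]⟩,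
⟨0,3,3,1,true,[.edge 5,.eqn 17 false],[.eqn 16 false]⟩,
⟨0,1,3,2,false,[.edge 3,.eqn 0 false,.eqn 2 false,.edge 18],[]⟩]⟩

/-- Its last walk. -/
def m97 : List Move := [.edge 3,.eqn 19 true]

/-- A collapsing certificate. -/
def c98 : Cert := ⟨[⟨false,0,0⟩,⟨false,928,1⟩,⟨false,416,2⟩,⟨false,0,1⟩,⟨true,579,1⟩,⟨true,1632,5⟩,⟨false,4,5⟩,⟨false,416,7⟩,⟨true,1508,8⟩,⟨true,416,9⟩,⟨true,1632,10⟩,⟨true,1558,6⟩,⟨false,121,6⟩,⟨true,1561,6⟩,⟨true,1552,3⟩,⟨false,1196,3⟩,⟨true,510,3⟩,⟨true,1632,17⟩,⟨true,1731,17⟩],[.edge 3,.code,.edge 4,.code,.edge 5],[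
⟨0,1,3,2,false,[.edge 3,.eqn 1 false,.eqn 0 false,.eqn 1 true,.edge 3],[]⟩,
⟨0,1,3,2,false,[.edge 3,.eqn 1 false,.eqn 2 false,.eqn 1 true,.edge 3],[]⟩,
⟨0,1,3,2,false,[.edge 3,.eqn 2 true,.eqn 1 false,.eqn 2 false,.edge 3],[]⟩,
⟨0,2,3,2,false,[.edge 4,.eqn 25 false,.eqn 24 true,.edge 4],[]⟩,
⟨0,1,3,2,false,[.edge 3,.eqn 0 false,.eqn 1 false,.eqn 0 false,.eqn 1 true,.eqn 0 true,.edge 3],[]⟩,
⟨0,2,3,2,false,[.edge 4,.eqn 27 false,.edge 4],[]⟩,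
⟨0,1,3,2,false,[.edge 3,.eqn 0 false,.eqn 1 false,.eqn 2 false,.eqn 1 true,.eqn 0 true,.edge 3],[]⟩,
⟨0,2,3,2,false,[.edge 4,.eqn 23 false,.eqn 24 true,.eqn 29 true,.edge 4],[]⟩,
⟨0,3,3,2,false,[.edge 5,.eqn 30 false,.eqn 26 true,.edge 5],[]⟩,
⟨0,0,0,2,true,[.edge 3,.edge 6],[]⟩,
⟨0,0,1,2,false,[.edge 3,.code],[.code,.code,.eqn 0 false,.edge 32]⟩,
⟨0,0,3,1,true,[.edge 32,.eqn 33 true],[]⟩,
⟨0,4,3,1,true,[.edge 6],[.eqn 33 true]⟩,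
⟨0,0,2,21,false,[.code,.eqn 0 false,.eqn 1 false,.eqn 2 true,.edge 32,.eqn 33 true,.code,.edge 7,.code,.edge 8,.code,.edge 8,.code,.edge 9,.code,.edge 10,.code,.edge 11,.code,.edge 12,.code,.edge 13,.code,.edge 13,.code],[.edge 32,.eqn 33 true,.code,.eqn 25 false,.edge 7]⟩,
⟨416,9,3,1,true,[.edge 12,.eqn 36 false],[]⟩,
⟨1632,10,3,1,true,[.edge 13],[.eqn 36 false]⟩,
⟨0,5,4,2,false,[.edge 7,.eqn 24 false,.edge 7],[]⟩,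
⟨416,9,3,2,false,[.edge 37,.edge 9],[]⟩,
⟨1508,8,3,1,true,[.edge 11,.eqn 40 true],[]⟩,
⟨0,5,4,2,false,[.edge 7,.eqn 27 false,.edge 7],[]⟩,
⟨0,7,3,2,false,[.edge 9,.eqn 42 false,.edge 9],[]⟩,
⟨0,6,4,2,false,[.edge 8,.eqn 39 true,.eqn 42 false,.edge 38],[]⟩,
⟨0,1,2,11,true,[.code,.eqn 24 false,.eqn 25 false,.edge 7,.code,.eqn 39 true,.edge 8,.code,.edge 14,.code,.edge 14,.code,.edge 15,.code],[.edge 3,.code,.eqn 1 false,.edge 32,.eqn 33 true,.code,.eqn 24 false,.eqn 29 false,.edge 7,.code,.edge 7,.code,.edge 6,.eqn 33 true,.code,.eqn 24 false,.edge 4,.code]⟩,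
⟨2,1,2,11,true,[.code,.eqn 24 false,.eqn 29 false,.edge 7,.code,.edge 8,.code,.edge 16,.code,.edge 16,.code,.edge 15,.code],[.edge 35,.code,.eqn 29 false,.edge 7,.code,.eqn 39 false,.edge 38,.eqn 44 false,.code,.edge 8,.code,.edge 9,.code,.eqn 43 false,.edge 10,.code]⟩,
⟨384,1,0,1,true,[.eqn 24 false,.edge 4],[.eqn 29 false,.edge 7]⟩,
⟨384,1,1,2,false,[.eqn 24 false,.edge 4,.code],[.code,.code,.eqn 25 false,.edge 7]⟩,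
⟨579,1,3,1,true,[.edge 7,.eqn 48 true],[]⟩,
⟨0,7,3,1,true,[.edge 9,.eqn 48 true],[]⟩,
⟨1632,5,3,1,true,[.edge 8],[.eqn 48 true]⟩,
⟨375,5,3,1,true,[.edge 47],[.eqn 48 true]⟩,
⟨0,7,3,2,false,[.edge 50,.edge 52],[]⟩,
⟨0,8,3,1,true,[.edge 10,.eqn 53 true],[]⟩,
⟨1508,8,3,1,true,[.edge 41,.eqn 53 true],[]⟩,
⟨416,13,4,2,false,[.edge 45,.eqn 26 true,.eqn 28 false,.edge 51],[]⟩,
⟨1338,8,3,1,true,[.edge 46,.eqn 56 true],[]⟩,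
⟨0,13,3,1,true,[.edge 15],[.eqn 56 true]⟩,
⟨1338,8,3,2,false,[.edge 57,.edge 58],[]⟩,
⟨0,8,3,1,true,[.edge 54],[.eqn 59 true]⟩,
⟨0,3,3,2,false,[.edge 5,.eqn 30 true,.edge 60],[]⟩,
⟨1632,5,3,1,true,[.edge 8,.eqn 61 false],[.eqn 48 true]⟩,
⟨0,13,3,1,true,[.edge 15,.eqn 61 false],[.eqn 56 true,.eqn 61 false]⟩,
⟨0,2,2,9,true,[.code,.eqn 26 true,.edge 45,.eqn 56 true,.eqn 61 false,.code,.edge 19,.code,.edge 20,.code,.edge 20,.code],[.edge 4,.code,.eqn 29 false,.edge 7,.eqn 48 true,.code,.eqn 30 false,.edge 45,.eqn 56 true,.eqn 61 false,.code,.edge 62,.code,.edge 47,.eqn 48 true,.code,.edge 55,.eqn 59 true,.eqn 61 false,.code,.eqn 31 false,.edge 19,.code]⟩,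
⟨0,17,4,2,false,[.edge 19,.eqn 22 false,.edge 19],[]⟩,
⟨640,17,3,2,false,[.edge 64,.eqn 65 false,.edge 64],[]⟩,
⟨0,18,4,2,false,[.edge 20,.eqn 66 false,.eqn 65 true,.edge 20],[]⟩,
⟨2,2,2,15,false,[.code,.eqn 26 false,.edge 51,.eqn 61 false,.code,.eqn 31 true,.edge 19,.code,.edge 21,.code,.edge 21,.code,.edge 64,.code,.edge 64,.code,.edge 20,.code],[.edge 52,.code,.eqn 28 false,.edge 45,.eqn 56 true,.eqn 61 false,.code,.eqn 31 true,.edge 19,.code,.edge 19,.code,.edge 63]⟩,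
⟨237,18,5,0,false,[.eqn 67 false,.eqn 68 false],[.eqn 68 false]⟩,
⟨1789,2,3,2,false,[.edge 62,.eqn 22 false,.eqn 69 false,.eqn 22 true,.edge 62],[]⟩,
⟨579,1,3,2,false,[.edge 49,.eqn 70 false,.eqn 30 false,.eqn 26 true,.eqn 70 true,.edge 49],[]⟩,
⟨0,0,3,2,false,[.edge 34,.eqn 71 false,.eqn 23 false,.eqn 71 true,.edge 35],[]⟩]⟩

/-- Its last walk. -/
def m98 : List Move := [.edge 3,.eqn 72 false]

/-- A collapsing certificate. -/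
def c99 : Cert := ⟨[⟨false,0,0⟩,⟨false,928,1⟩,⟨false,416,2⟩],[.edge 3,.code,.edge 4,.code,.edge 5],[
⟨0,1,3,2,false,[.edge 3,.eqn 1 false,.eqn 0 false,.eqn 1 true,.edge 3],[]⟩,
⟨0,1,3,2,false,[.edge 3,.eqn 1 false,.eqn 2 false,.eqn 1 true,.edge 3],[]⟩,
⟨0,1,3,2,false,[.edge 3,.eqn 2 true,.eqn 1 false,.eqn 2 false,.edge 3],[]⟩,
⟨0,2,3,2,false,[.edge 4,.eqn 9 false,.eqn 8 true,.edge 4],[]⟩,
⟨0,1,3,2,false,[.edge 3,.eqn 0 false,.eqn 1 false,.eqn 2 false,.eqn 1 true,.eqn 0 true,.edge 3],[]⟩,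
⟨0,2,3,2,false,[.edge 4,.eqn 7 false,.eqn 8 true,.eqn 11 true,.edge 4],[]⟩,
⟨0,3,3,2,false,[.edge 5,.eqn 12 false,.eqn 10 true,.edge 5],[]⟩,
⟨416,2,4,2,false,[.edge 5,.eqn 6 false,.eqn 13 false,.eqn 6 true,.edge 5],[]⟩,
⟨928,1,4,2,false,[.edge 4,.eqn 14 false,.eqn 10 false,.eqn 14 true,.edge 4],[]⟩,
⟨0,0,0,3,false,[.edge 3,.eqn 15 false,.eqn 8 true,.edge 4,.eqn 14 false,.eqn 12 false,.edge 5],[]⟩,
⟨0,0,1,5,false,[.edge 3,.code,.eqn 15 true,.eqn 11 true,.edge 4,.code,.code],[]⟩,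
⟨0,3,3,1,true,[.edge 5,.eqn 17 false],[.eqn 16 false]⟩,
⟨0,1,3,2,false,[.edge 3,.eqn 0 false,.eqn 2 false,.edge 18],[]⟩]⟩

/-- Its last walk. -/
def m99 : List Move := [.edge 3,.eqn 19 true]

/-- A collapsing certificate. -/
def c100 : Cert := ⟨[⟨false,0,0⟩,⟨false,928,1⟩,⟨false,416,2⟩,⟨false,0,1⟩,⟨true,730,1⟩,⟨true,1632,5⟩,⟨false,4,5⟩,⟨false,416,7⟩,⟨true,1517,8⟩,⟨true,416,9⟩,⟨true,1632,10⟩,⟨true,1599,6⟩,⟨false,165,6⟩,⟨true,1558,6⟩,⟨true,817,3⟩,⟨false,479,3⟩,⟨true,1204,3⟩,⟨true,1632,17⟩,⟨false,164,15⟩,⟨true,1573,17⟩],[.edge 3,.code,.edge 4,.code,.edge 5],[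
⟨0,1,3,2,false,[.edge 3,.eqn 1 false,.eqn 0 false,.eqn 1 true,.edge 3],[]⟩,
⟨0,1,3,2,false,[.edge 3,.eqn 1 false,.eqn 2 false,.eqn 1 true,.edge 3],[]⟩,
⟨0,1,3,2,false,[.edge 3,.eqn 2 true,.eqn 1 false,.eqn 2 false,.edge 3],[]⟩,
⟨0,2,3,2,false,[.edge 4,.eqn 26 false,.eqn 25 true,.edge 4],[]⟩,
⟨0,1,3,2,false,[.edge 3,.eqn 0 false,.eqn 1 false,.eqn 0 false,.eqn 1 true,.eqn 0 true,.edge 3],[]⟩,
⟨0,2,3,2,false,[.edge 4,.eqn 28 false,.edge 4],[]⟩,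
⟨0,1,3,2,false,[.edge 3,.eqn 0 false,.eqn 1 false,.eqn 2 false,.eqn 1 true,.eqn 0 true,.edge 3],[]⟩,
⟨0,2,3,2,false,[.edge 4,.eqn 24 false,.eqn 25 true,.eqn 30 true,.edge 4],[]⟩,
⟨0,3,3,2,false,[.edge 5,.eqn 31 false,.eqn 27 true,.edge 5],[]⟩,
⟨0,0,0,2,true,[.edge 3,.edge 6],[]⟩,
⟨0,0,1,2,false,[.edge 3,.code],[.code,.code,.eqn 0 false,.edge 33]⟩,
⟨0,0,3,1,true,[.edge 33,.eqn 34 true],[]⟩,
⟨0,4,3,1,true,[.edge 6],[.eqn 34 true]⟩,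
⟨0,0,2,21,false,[.code,.eqn 1 false,.eqn 2 true,.edge 33,.eqn 34 true,.code,.edge 7,.code,.edge 8,.code,.edge 8,.code,.edge 9,.code,.edge 10,.code,.edge 11,.code,.edge 12,.code,.edge 13,.code,.edge 13,.code],[.edge 33,.eqn 34 true,.code,.eqn 30 true,.edge 7]⟩,
⟨416,9,3,1,true,[.edge 12,.eqn 37 false],[]⟩,
⟨1632,10,3,1,true,[.edge 13],[.eqn 37 false]⟩,
⟨0,5,4,2,false,[.edge 7,.eqn 26 false,.eqn 25 true,.edge 7],[]⟩,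
⟨0,7,3,2,false,[.edge 9,.eqn 40 false,.edge 9],[]⟩,
⟨416,9,3,2,false,[.edge 38,.edge 9],[]⟩,
⟨1517,8,3,1,true,[.edge 11,.eqn 42 true],[]⟩,
⟨1517,8,3,2,false,[.edge 43,.eqn 41 false,.edge 43],[]⟩,
⟨416,7,4,2,false,[.edge 10,.eqn 44 false,.edge 10],[]⟩,
⟨0,5,4,2,false,[.edge 7,.eqn 28 false,.edge 7],[]⟩,
⟨4,5,4,2,false,[.edge 9,.eqn 45 false,.edge 9],[]⟩,
⟨0,11,4,2,false,[.edge 39,.eqn 47 true,.eqn 40 false,.edge 8],[]⟩,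
⟨1632,10,3,1,true,[.edge 13,.eqn 48 true],[.eqn 37 false]⟩,
⟨0,1,2,11,true,[.code,.eqn 25 true,.edge 7,.code,.eqn 40 true,.edge 8,.code,.edge 14,.code,.edge 14,.code,.edge 15,.code],[.edge 3,.code,.eqn 1 false,.edge 33,.eqn 34 true,.code,.eqn 25 true,.edge 7,.code,.edge 7,.code,.edge 6,.eqn 34 true,.code,.eqn 25 true,.edge 4,.code]⟩,
⟨2,1,2,11,true,[.code,.eqn 24 false,.eqn 25 true,.edge 7,.code,.eqn 46 false,.edge 8,.code,.edge 16,.code,.edge 16,.code,.edge 15,.code],[.edge 36,.code,.eqn 25 false,.edge 7,.code,.eqn 47 true,.edge 39,.eqn 48 true,.code,.edge 8,.code,.edge 9,.code,.eqn 41 true,.eqn 45 false,.edge 43,.code]⟩,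
⟨384,1,0,1,true,[.eqn 25 false,.edge 4],[.eqn 25 false,.edge 7]⟩,
⟨384,1,1,2,false,[.eqn 25 false,.edge 4,.code],[.code,.code,.eqn 30 true,.edge 7]⟩,
⟨730,1,3,1,true,[.edge 7,.eqn 53 true],[]⟩,
⟨0,7,3,1,true,[.edge 9,.eqn 53 true],[]⟩,
⟨1632,5,3,1,true,[.edge 8],[.eqn 53 true]⟩,
⟨1912,5,3,1,true,[.edge 49],[.eqn 53 true]⟩,
⟨358,5,3,1,true,[.edge 52],[.eqn 53 true]⟩,
⟨0,7,3,2,false,[.edge 55,.edge 58],[]⟩,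
⟨0,8,3,1,true,[.edge 10,.eqn 59 true],[]⟩,
⟨1517,8,3,1,true,[.edge 43,.eqn 59 true],[]⟩,
⟨416,13,4,2,false,[.edge 50,.eqn 29 false,.eqn 31 true,.edge 56],[]⟩,
⟨307,8,3,1,true,[.edge 51,.eqn 62 true],[]⟩,
⟨0,13,3,1,true,[.edge 15],[.eqn 62 true]⟩,
⟨307,8,3,2,false,[.edge 63,.edge 64],[]⟩,
⟨0,8,3,1,true,[.edge 60],[.eqn 65 true]⟩,
⟨0,3,3,2,false,[.edge 5,.eqn 31 true,.edge 66],[]⟩,
⟨1632,5,3,1,true,[.edge 8,.eqn 67 false],[.eqn 53 true]⟩,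
⟨0,13,3,1,true,[.edge 15,.eqn 67 false],[.eqn 62 true,.eqn 67 false]⟩,
⟨384,1,2,13,false,[.code,.edge 7,.eqn 53 true,.code,.eqn 29 false,.edge 50,.eqn 62 true,.eqn 67 false,.code,.edge 17,.code,.edge 17,.code,.edge 69,.code,.edge 18,.code],[.eqn 25 false,.edge 7,.eqn 53 true,.code,.edge 57,.eqn 67 false,.code,.eqn 32 false,.edge 17,.code,.edge 17,.code,.edge 69,.code,.edge 18]⟩,
⟨0,16,3,2,false,[.edge 18,.eqn 32 false,.eqn 23 true,.edge 18],[]⟩,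
⟨0,15,4,2,false,[.edge 17,.eqn 32 false,.eqn 23 true,.edge 17],[]⟩,
⟨0,2,2,9,true,[.code,.eqn 31 false,.edge 50,.eqn 62 true,.eqn 67 false,.code,.edge 19,.code,.edge 20,.code,.edge 20,.code],[.edge 4,.code,.eqn 25 false,.edge 7,.eqn 53 true,.code,.eqn 27 true,.eqn 31 false,.edge 50,.eqn 62 true,.eqn 67 false,.code,.edge 68,.code,.edge 52,.eqn 53 true,.code,.eqn 27 true,.edge 61,.eqn 65 true,.eqn 67 false,.code,.edge 17,.code]⟩,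
⟨0,17,4,2,false,[.edge 19,.eqn 32 false,.eqn 23 true,.edge 19],[]⟩,
⟨395,15,3,2,false,[.edge 73,.eqn 74 false,.edge 73],[]⟩,
⟨2,2,2,11,true,[.code,.edge 56,.eqn 67 false,.code,.eqn 32 false,.edge 17,.code,.edge 73,.code,.edge 73,.code,.edge 21,.code],[.edge 58,.code,.eqn 27 true,.edge 56,.eqn 67 false,.code,.eqn 32 false,.edge 19,.code,.edge 19,.code,.edge 69,.code,.edge 18,.code]⟩,
⟨0,19,3,2,false,[.edge 21,.eqn 72 false,.edge 21],[]⟩,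
⟨416,19,4,2,false,[.edge 76,.eqn 70 false,.eqn 71 false,.eqn 70 true,.edge 76],[]⟩,
⟨384,2,2,24,false,[.code,.eqn 27 true,.eqn 31 false,.edge 50,.eqn 62 true,.eqn 67 false,.code,.edge 19,.code,.edge 22,.code,.edge 22,.code,.edge 73,.code,.eqn 75 false,.edge 21,.code,.eqn 77 false,.eqn 78 false,.edge 21,.code,.eqn 72 false,.edge 73,.code,.eqn 74 false,.edge 22,.code,.edge 22,.code,.edge 19,.code,.edge 68],[]⟩,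
⟨730,1,3,2,false,[.edge 54,.eqn 79 false,.eqn 27 true,.edge 5],[]⟩,
⟨1517,3,5,0,false,[.eqn 23 false,.eqn 80 false],[.eqn 80 false]⟩,
⟨0,0,3,2,false,[.edge 35,.eqn 81 false,.eqn 24 false,.eqn 81 false,.edge 36],[]⟩]⟩

/-- Its last walk. -/
def m100 : List Move := [.edge 3,.eqn 82 false]

/-- A collapsing certificate. -/
def c101 : Cert := ⟨[⟨false,0,0⟩,⟨false,928,1⟩,⟨false,416,2⟩],[.edge 3,.code,.edge 4,.code,.edge 5],[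
⟨0,1,3,2,false,[.edge 3,.eqn 1 false,.eqn 0 false,.eqn 1 true,.edge 3],[]⟩,
⟨0,1,3,2,false,[.edge 3,.eqn 1 false,.eqn 2 false,.eqn 1 true,.edge 3],[]⟩,
⟨0,1,3,2,false,[.edge 3,.eqn 2 true,.eqn 1 false,.eqn 2 false,.edge 3],[]⟩,
⟨0,2,3,2,false,[.edge 4,.eqn 9 false,.eqn 8 true,.edge 4],[]⟩,
⟨0,1,3,2,false,[.edge 3,.eqn 0 false,.eqn 1 false,.eqn 2 false,.eqn 1 true,.eqn 0 true,.edge 3],[]⟩,
⟨0,2,3,2,false,[.edge 4,.eqn 7 false,.eqn 8 true,.eqn 11 true,.edge 4],[]⟩,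
⟨0,3,3,2,false,[.edge 5,.eqn 12 false,.eqn 10 true,.edge 5],[]⟩,
⟨416,2,4,2,false,[.edge 5,.eqn 6 false,.eqn 13 false,.eqn 6 true,.edge 5],[]⟩,
⟨928,1,4,2,false,[.edge 4,.eqn 14 false,.eqn 10 false,.eqn 14 true,.edge 4],[]⟩,
⟨0,0,0,3,false,[.edge 3,.eqn 15 false,.eqn 8 true,.edge 4,.eqn 14 false,.eqn 12 false,.edge 5],[]⟩,
⟨0,0,1,5,false,[.edge 3,.code,.eqn 15 true,.eqn 11 true,.edge 4,.code,.code],[]⟩,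
⟨0,3,3,1,true,[.edge 5,.eqn 17 false],[.eqn 16 false]⟩,
⟨0,1,3,2,false,[.edge 3,.eqn 0 false,.eqn 2 false,.edge 18],[]⟩]⟩

/-- Its last walk. -/
def m101 : List Move := [.edge 3,.eqn 19 true]

/-- A collapsing certificate. -/
def c102 : Cert := ⟨[⟨false,0,0⟩,⟨false,928,1⟩,⟨false,416,2⟩,⟨false,0,1⟩,⟨true,577,1⟩,⟨true,1632,5⟩,⟨false,4,5⟩,⟨false,416,7⟩,⟨true,1612,6⟩,⟨false,131,6⟩,⟨true,1603,6⟩,⟨true,1841,3⟩,⟨false,1198,3⟩,⟨true,1558,12⟩,⟨false,121,12⟩,⟨true,1599,12⟩,⟨false,96,13⟩,⟨true,1524,17⟩,⟨true,416,18⟩,⟨true,1632,19⟩],[.edge 3,.code,.edge 4,.code,.edge 5],[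
⟨0,1,3,2,false,[.edge 3,.eqn 1 false,.eqn 0 false,.eqn 1 true,.edge 3],[]⟩,
⟨0,1,3,2,false,[.edge 3,.eqn 1 false,.eqn 2 false,.eqn 1 true,.edge 3],[]⟩,
⟨0,1,3,2,false,[.edge 3,.eqn 2 true,.eqn 1 false,.eqn 2 false,.edge 3],[]⟩,
⟨0,2,3,2,false,[.edge 4,.eqn 26 false,.eqn 25 true,.edge 4],[]⟩,
⟨0,1,3,2,false,[.edge 3,.eqn 0 false,.eqn 1 false,.eqn 0 false,.eqn 1 true,.eqn 0 true,.edge 3],[]⟩,
⟨0,2,3,2,false,[.edge 4,.eqn 28 false,.edge 4],[]⟩,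
⟨0,1,3,2,false,[.edge 3,.eqn 0 false,.eqn 1 false,.eqn 2 false,.eqn 1 true,.eqn 0 true,.edge 3],[]⟩,
⟨0,2,3,2,false,[.edge 4,.eqn 24 false,.eqn 25 true,.eqn 30 true,.edge 4],[]⟩,
⟨0,3,3,2,false,[.edge 5,.eqn 31 false,.eqn 27 true,.edge 5],[]⟩,
⟨0,0,0,2,true,[.edge 3,.edge 6],[]⟩,
⟨0,0,1,2,false,[.edge 3,.code],[.code,.code,.eqn 0 false,.edge 33]⟩,
⟨0,0,3,1,true,[.edge 33,.eqn 34 true],[]⟩,
⟨0,4,3,1,true,[.edge 6],[.eqn 34 true]⟩,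
⟨0,5,4,2,false,[.edge 7,.eqn 25 false,.edge 7],[]⟩,
⟨0,5,4,2,false,[.edge 7,.eqn 28 false,.edge 7],[]⟩,
⟨0,7,3,2,false,[.edge 9,.eqn 38 false,.edge 9],[]⟩,
⟨0,1,2,11,true,[.code,.eqn 25 false,.eqn 30 false,.edge 7,.code,.eqn 37 true,.eqn 38 false,.edge 8,.code,.edge 11,.code,.edge 11,.code,.edge 12,.code],[.edge 3,.code,.eqn 1 false,.edge 33,.eqn 34 true,.code,.eqn 25 false,.eqn 26 false,.edge 7,.code,.edge 7,.code,.edge 6,.eqn 34 true,.code,.eqn 30 true,.edge 4,.code]⟩,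
⟨2,1,2,11,true,[.code,.eqn 25 false,.eqn 26 false,.edge 7,.code,.eqn 37 false,.edge 8,.code,.edge 13,.code,.edge 13,.code,.edge 12,.code],[.edge 36,.code,.eqn 26 false,.edge 7,.code,.eqn 37 true,.eqn 38 false,.edge 8,.code,.edge 8,.code,.edge 9,.code,.eqn 39 false,.edge 10,.code]⟩,
⟨384,1,0,1,true,[.eqn 25 false,.edge 4],[.eqn 26 false,.edge 7]⟩,
⟨384,1,1,2,false,[.eqn 25 false,.edge 4,.code],[.code,.code,.eqn 30 false,.edge 7]⟩,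
⟨577,1,3,1,true,[.edge 7,.eqn 43 true],[]⟩,
⟨0,7,3,1,true,[.edge 9,.eqn 43 true],[]⟩,
⟨1632,5,3,1,true,[.edge 8],[.eqn 43 true]⟩,
⟨80,5,3,1,true,[.edge 42],[.eqn 43 true]⟩,
⟨0,7,3,2,false,[.edge 45,.edge 47],[]⟩,
⟨0,8,3,1,true,[.edge 10,.eqn 48 true],[]⟩,
⟨416,10,4,2,false,[.edge 40,.eqn 29 false,.eqn 31 false,.edge 46],[]⟩,
⟨1532,8,3,1,true,[.edge 41,.eqn 50 true],[]⟩,
⟨0,10,3,1,true,[.edge 12],[.eqn 50 true]⟩,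
⟨1532,8,3,2,false,[.edge 51,.edge 52],[]⟩,
⟨0,8,3,1,true,[.edge 49],[.eqn 53 true]⟩,
⟨0,3,3,2,false,[.edge 5,.eqn 31 true,.edge 54],[]⟩,
⟨1632,5,3,1,true,[.edge 8,.eqn 55 false],[.eqn 43 true]⟩,
⟨0,10,3,1,true,[.edge 12,.eqn 55 false],[.eqn 50 true,.eqn 55 false]⟩,
⟨384,1,2,13,false,[.code,.eqn 24 false,.eqn 30 true,.edge 7,.eqn 43 true,.code,.eqn 31 true,.edge 40,.eqn 50 true,.eqn 55 false,.code,.edge 14,.code,.edge 14,.code,.edge 57,.code,.edge 15,.code],[.eqn 26 false,.edge 7,.eqn 43 true,.code,.eqn 27 false,.edge 46,.eqn 55 false,.code,.eqn 32 true,.edge 14,.code,.edge 14,.code,.edge 57,.code,.edge 15]⟩,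
⟨0,13,3,2,false,[.edge 15,.eqn 32 false,.eqn 23 true,.edge 15],[]⟩,
⟨0,12,4,2,false,[.edge 14,.eqn 23 false,.edge 14],[]⟩,
⟨0,2,2,11,true,[.code,.eqn 31 false,.edge 40,.eqn 50 true,.eqn 55 false,.code,.eqn 32 true,.edge 14,.code,.edge 16,.code,.edge 16,.code,.edge 17,.code],[.edge 4,.code,.eqn 26 false,.edge 7,.eqn 43 true,.code,.edge 46,.eqn 55 false,.code,.edge 56,.code,.edge 42,.eqn 43 true,.code,.eqn 29 false,.edge 5,.code]⟩,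
⟨416,15,4,2,false,[.edge 61,.eqn 32 true,.eqn 23 true,.edge 61],[]⟩,
⟨0,15,3,2,false,[.edge 17,.eqn 60 false,.edge 17],[]⟩,
⟨2,2,2,11,true,[.code,.eqn 27 true,.eqn 31 true,.edge 40,.eqn 50 true,.eqn 55 false,.code,.eqn 32 true,.edge 14,.code,.edge 18,.code,.edge 18,.code,.edge 17,.code],[.edge 47,.code,.edge 40,.eqn 50 true,.eqn 55 false,.code,.eqn 32 true,.edge 61,.code,.edge 61,.code,.edge 57,.code,.eqn 23 false,.edge 15,.code]⟩,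
⟨384,2,2,21,false,[.code,.eqn 27 false,.edge 46,.eqn 55 false,.code,.edge 61,.code,.eqn 62 false,.eqn 63 false,.eqn 62 false,.edge 17,.code,.edge 17,.code,.eqn 62 false,.eqn 63 false,.edge 64,.code,.edge 19,.code,.edge 20,.code,.edge 21,.code,.edge 22,.code,.edge 22,.code],[.eqn 31 true,.edge 40,.eqn 50 true,.eqn 55 false,.code,.edge 61]⟩,
⟨416,18,3,1,true,[.edge 21,.eqn 65 false],[]⟩,
⟨0,17,3,2,false,[.edge 19,.eqn 59 false,.edge 19],[]⟩,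
⟨1249,13,3,2,false,[.edge 64,.edge 66],[]⟩,
⟨1524,17,3,1,true,[.edge 20,.eqn 68 false],[]⟩,
⟨0,17,3,2,false,[.edge 19,.eqn 58 false,.eqn 59 false,.eqn 58 false,.edge 69],[]⟩,
⟨96,13,4,2,false,[.edge 19,.eqn 70 false,.eqn 70 false,.eqn 67 false,.eqn 70 false,.eqn 67 true,.eqn 70 true,.edge 19],[]⟩,
⟨1198,3,4,2,false,[.edge 15,.eqn 71 false,.edge 15],[]⟩,
⟨1592,2,3,2,false,[.edge 56,.eqn 72 false,.eqn 32 false,.eqn 72 true,.eqn 23 true,.edge 56],[]⟩,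
⟨577,1,3,2,false,[.edge 44,.eqn 73 false,.eqn 31 false,.eqn 29 true,.eqn 73 true,.edge 44],[]⟩,
⟨0,0,3,2,false,[.edge 35,.eqn 74 false,.eqn 24 false,.eqn 74 true,.edge 36],[]⟩]⟩

/-- Its last walk. -/
def m102 : List Move := [.edge 3,.eqn 75 false]

/-- A collapsing certificate. -/
def c103 : Cert := ⟨[⟨false,0,0⟩,⟨false,928,1⟩,⟨false,416,2⟩],[.edge 3,.code,.edge 4,.code,.edge 5],[
⟨0,1,3,2,false,[.edge 3,.eqn 1 false,.eqn 0 false,.eqn 1 true,.edge 3],[]⟩,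
⟨0,1,3,2,false,[.edge 3,.eqn 1 false,.eqn 2 false,.eqn 1 true,.edge 3],[]⟩,
⟨0,1,3,2,false,[.edge 3,.eqn 2 true,.eqn 1 false,.eqn 2 false,.edge 3],[]⟩,
⟨0,2,3,2,false,[.edge 4,.eqn 9 false,.eqn 8 true,.edge 4],[]⟩,
⟨0,1,3,2,false,[.edge 3,.eqn 0 false,.eqn 1 false,.eqn 2 false,.eqn 1 true,.eqn 0 true,.edge 3],[]⟩,
⟨0,2,3,2,false,[.edge 4,.eqn 7 false,.eqn 8 true,.eqn 11 true,.edge 4],[]⟩,
⟨0,3,3,2,false,[.edge 5,.eqn 12 false,.eqn 10 true,.edge 5],[]⟩,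
⟨416,2,4,2,false,[.edge 5,.eqn 6 false,.eqn 13 false,.eqn 6 true,.edge 5],[]⟩,
⟨928,1,4,2,false,[.edge 4,.eqn 14 false,.eqn 10 false,.eqn 14 true,.edge 4],[]⟩,
⟨0,0,0,3,false,[.edge 3,.eqn 15 false,.eqn 8 true,.edge 4,.eqn 14 false,.eqn 12 false,.edge 5],[]⟩,
⟨0,0,1,5,false,[.edge 3,.code,.eqn 15 true,.eqn 11 true,.edge 4,.code,.code],[]⟩,
⟨0,3,3,1,true,[.edge 5,.eqn 17 false],[.eqn 16 false]⟩,
⟨0,1,3,2,false,[.edge 3,.eqn 0 false,.eqn 2 false,.edge 18],[]⟩]⟩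

/-- Its last walk. -/
def m103 : List Move := [.edge 3,.eqn 19 true]

/-- A collapsing certificate. -/
def c104 : Cert := ⟨[⟨false,0,0⟩,⟨false,928,1⟩,⟨false,416,2⟩,⟨false,0,1⟩,⟨true,712,1⟩,⟨true,1632,5⟩,⟨false,4,5⟩,⟨false,416,7⟩,⟨true,1533,8⟩,⟨true,416,9⟩,⟨true,1632,10⟩,⟨true,1599,6⟩,⟨false,165,6⟩,⟨true,1558,6⟩,⟨true,1001,3⟩,⟨false,502,3⟩,⟨true,1561,15⟩,⟨true,1730,3⟩,⟨true,1632,18⟩,⟨false,4,18⟩],[.edge 3,.code,.edge 4,.code,.edge 5],[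
⟨0,1,3,2,false,[.edge 3,.eqn 1 false,.eqn 0 false,.eqn 1 true,.edge 3],[]⟩,
⟨0,1,3,2,false,[.edge 3,.eqn 1 false,.eqn 2 false,.eqn 1 true,.edge 3],[]⟩,
⟨0,1,3,2,false,[.edge 3,.eqn 2 true,.eqn 1 false,.eqn 2 false,.edge 3],[]⟩,
⟨0,2,3,2,false,[.edge 4,.eqn 26 false,.eqn 25 true,.edge 4],[]⟩,
⟨0,1,3,2,false,[.edge 3,.eqn 0 false,.eqn 1 false,.eqn 0 false,.eqn 1 true,.eqn 0 true,.edge 3],[]⟩,
⟨0,1,3,2,false,[.edge 3,.eqn 0 false,.eqn 1 false,.eqn 2 false,.eqn 1 true,.eqn 0 true,.edge 3],[]⟩,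
⟨0,2,3,2,false,[.edge 4,.eqn 24 false,.eqn 25 true,.eqn 29 true,.edge 4],[]⟩,
⟨0,3,3,2,false,[.edge 5,.eqn 30 false,.eqn 27 true,.edge 5],[]⟩,
⟨0,0,0,2,true,[.edge 3,.edge 6],[]⟩,
⟨0,0,1,2,false,[.edge 3,.code],[.code,.code,.eqn 0 false,.edge 32]⟩,
⟨0,0,3,1,true,[.edge 32,.eqn 33 true],[]⟩,
⟨0,4,3,1,true,[.edge 6],[.eqn 33 true]⟩,
⟨0,0,2,21,false,[.code,.eqn 1 false,.eqn 2 true,.edge 32,.eqn 33 true,.code,.edge 7,.code,.edge 8,.code,.edge 8,.code,.edge 9,.code,.edge 10,.code,.edge 11,.code,.edge 12,.code,.edge 13,.code,.edge 13,.code],[.edge 32,.eqn 33 true,.code,.eqn 25 false,.edge 7]⟩,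
⟨416,9,3,1,true,[.edge 12,.eqn 36 false],[]⟩,
⟨1632,10,3,1,true,[.edge 13],[.eqn 36 false]⟩,
⟨0,5,4,2,false,[.edge 7,.eqn 26 false,.eqn 25 true,.edge 7],[]⟩,
⟨416,9,3,2,false,[.edge 37,.edge 9],[]⟩,
⟨1533,8,3,1,true,[.edge 11,.eqn 40 true],[]⟩,
⟨0,5,4,2,false,[.edge 7,.eqn 28 false,.edge 7],[]⟩,
⟨0,6,4,2,false,[.edge 8,.eqn 42 false,.edge 38],[]⟩,
⟨1632,10,3,1,true,[.edge 13,.eqn 43 false],[.eqn 36 false]⟩,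
⟨0,1,2,11,true,[.code,.eqn 24 false,.eqn 25 true,.edge 7,.code,.eqn 39 true,.edge 8,.code,.edge 14,.code,.edge 14,.code,.edge 15,.code],[.edge 3,.code,.eqn 1 false,.edge 32,.eqn 33 true,.code,.eqn 24 false,.eqn 25 true,.edge 7,.code,.edge 7,.code,.edge 6,.eqn 33 true,.code,.eqn 25 true,.edge 4,.code]⟩,
⟨2,1,2,11,true,[.code,.eqn 25 true,.edge 7,.code,.edge 38,.eqn 43 false,.code,.edge 16,.code,.edge 16,.code,.edge 15,.code],[.edge 35,.code,.eqn 29 true,.edge 7,.code,.edge 8,.code,.edge 8,.code,.edge 9,.code,.edge 41,.code]⟩,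
⟨384,1,0,1,true,[.eqn 25 false,.edge 4],[.eqn 29 true,.edge 7]⟩,
⟨384,1,1,2,false,[.eqn 25 false,.edge 4,.code],[.code,.code,.eqn 25 false,.edge 7]⟩,
⟨712,1,3,1,true,[.edge 7,.eqn 48 true],[]⟩,
⟨0,7,3,1,true,[.edge 9,.eqn 48 true],[]⟩,
⟨1632,5,3,1,true,[.edge 8],[.eqn 48 true]⟩,
⟨1848,5,3,1,true,[.edge 44],[.eqn 48 true]⟩,
⟨326,5,3,1,true,[.edge 47],[.eqn 48 true]⟩,
⟨0,7,3,2,false,[.edge 50,.edge 53],[]⟩,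
⟨0,8,3,1,true,[.edge 10,.eqn 54 true],[]⟩,
⟨416,13,4,2,false,[.edge 45,.eqn 30 false,.edge 51],[]⟩,
⟨307,8,3,1,true,[.edge 46,.eqn 56 true],[]⟩,
⟨0,13,3,1,true,[.edge 15],[.eqn 56 true]⟩,
⟨307,8,3,2,false,[.edge 57,.edge 58],[]⟩,
⟨0,8,3,1,true,[.edge 55],[.eqn 59 true]⟩,
⟨0,3,3,2,false,[.edge 5,.eqn 30 true,.edge 60],[]⟩,
⟨1632,5,3,1,true,[.edge 8,.eqn 61 false],[.eqn 48 true]⟩,
⟨0,13,3,1,true,[.edge 15,.eqn 61 false],[.eqn 56 true,.eqn 61 false]⟩,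
⟨384,1,2,13,false,[.code,.eqn 24 false,.edge 7,.eqn 48 true,.code,.eqn 27 true,.edge 51,.eqn 61 false,.code,.edge 17,.code,.edge 17,.code,.edge 63,.code,.edge 18,.code],[.eqn 29 true,.edge 7,.eqn 48 true,.code,.eqn 27 true,.edge 51,.eqn 61 false,.code,.eqn 23 false,.edge 17,.code,.edge 17,.code,.eqn 23 false,.edge 63,.code,.eqn 31 true,.edge 18]⟩,
⟨0,16,3,2,false,[.edge 18,.eqn 23 false,.edge 18],[]⟩,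
⟨2,2,2,11,true,[.code,.eqn 30 false,.edge 45,.eqn 56 true,.eqn 61 false,.code,.edge 20,.code,.edge 21,.code,.edge 21,.code,.edge 22,.code],[.edge 53,.code,.eqn 27 false,.edge 52,.eqn 61 false,.code,.eqn 31 false,.edge 20,.code,.edge 20,.code,.edge 63,.code,.eqn 31 false,.edge 18,.code]⟩,
⟨0,18,4,2,false,[.edge 20,.eqn 23 false,.edge 20],[]⟩,
⟨416,20,4,2,false,[.edge 66,.eqn 64 false,.eqn 65 false,.eqn 64 true,.edge 66],[]⟩,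
⟨0,20,3,2,false,[.edge 22,.eqn 67 false,.edge 22],[]⟩,
⟨1525,16,3,2,false,[.edge 66,.eqn 69 false,.eqn 68 false,.eqn 69 false,.eqn 68 false,.eqn 69 false,.eqn 68 true,.eqn 69 true,.eqn 68 true,.eqn 69 true,.edge 66],[]⟩,
⟨502,3,4,2,false,[.edge 18,.eqn 64 false,.eqn 70 false,.eqn 64 true,.edge 18],[]⟩,
⟨1575,2,3,2,false,[.edge 62,.eqn 71 false,.eqn 31 false,.eqn 71 true,.edge 62],[]⟩,
⟨712,1,3,2,false,[.edge 49,.eqn 72 false,.eqn 27 false,.eqn 72 true,.edge 49],[]⟩,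
⟨0,0,3,2,false,[.edge 34,.eqn 73 false,.eqn 24 false,.eqn 73 true,.edge 35],[]⟩]⟩

/-- Its last walk. -/
def m104 : List Move := [.edge 3,.eqn 74 false]

/-- A collapsing certificate. -/
def c105 : Cert := ⟨[⟨false,0,0⟩,⟨false,928,1⟩,⟨false,416,2⟩],[.edge 3,.code,.edge 4,.code,.edge 5],[
⟨0,1,3,2,false,[.edge 3,.eqn 1 false,.eqn 0 false,.eqn 1 true,.edge 3],[]⟩,
⟨0,1,3,2,false,[.edge 3,.eqn 1 false,.eqn 2 false,.eqn 1 true,.edge 3],[]⟩,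
⟨0,1,3,2,false,[.edge 3,.eqn 2 true,.eqn 1 false,.eqn 2 false,.edge 3],[]⟩,
⟨0,2,3,2,false,[.edge 4,.eqn 9 false,.eqn 8 true,.edge 4],[]⟩,
⟨0,1,3,2,false,[.edge 3,.eqn 0 false,.eqn 1 false,.eqn 2 false,.eqn 1 true,.eqn 0 true,.edge 3],[]⟩,
⟨0,2,3,2,false,[.edge 4,.eqn 7 false,.eqn 8 true,.eqn 11 true,.edge 4],[]⟩,
⟨0,3,3,2,false,[.edge 5,.eqn 12 false,.eqn 10 true,.edge 5],[]⟩,
⟨416,2,4,2,false,[.edge 5,.eqn 6 false,.eqn 13 true,.eqn 6 false,.eqn 13 false,.eqn 6 true,.edge 5],[]⟩,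
⟨928,1,4,2,false,[.edge 4,.eqn 14 false,.eqn 10 false,.eqn 14 false,.eqn 10 true,.eqn 14 true,.edge 4],[]⟩,
⟨0,0,0,3,false,[.edge 3,.eqn 15 false,.eqn 11 true,.edge 4,.eqn 14 false,.eqn 10 false,.edge 5],[]⟩,
⟨0,0,1,5,false,[.edge 3,.code,.eqn 15 false,.eqn 8 false,.edge 4,.code,.code],[]⟩,
⟨0,3,3,1,true,[.edge 5,.eqn 17 false],[.eqn 16 false]⟩,
⟨0,1,3,2,false,[.edge 3,.eqn 2 true,.edge 18],[]⟩]⟩

/-- Its last walk. -/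
def m105 : List Move := [.edge 3,.eqn 19 true]

/-- A collapsing certificate. -/
def c106 : Cert := ⟨[⟨false,0,0⟩,⟨false,928,1⟩,⟨false,416,2⟩],[.edge 3,.code,.edge 4,.code,.edge 5],[
⟨0,1,3,2,false,[.edge 3,.eqn 1 false,.eqn 0 false,.eqn 1 true,.edge 3],[]⟩,
⟨0,1,3,2,false,[.edge 3,.eqn 1 false,.eqn 2 false,.eqn 1 true,.edge 3],[]⟩,
⟨0,1,3,2,false,[.edge 3,.eqn 2 true,.eqn 1 false,.eqn 2 false,.edge 3],[]⟩,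
⟨0,2,3,2,false,[.edge 4,.eqn 9 false,.eqn 8 true,.edge 4],[]⟩,
⟨0,1,3,2,false,[.edge 3,.eqn 0 false,.eqn 1 false,.eqn 2 false,.eqn 1 true,.eqn 0 true,.edge 3],[]⟩,
⟨0,2,3,2,false,[.edge 4,.eqn 7 false,.eqn 8 true,.eqn 11 true,.edge 4],[]⟩,
⟨0,3,3,2,false,[.edge 5,.eqn 12 false,.eqn 10 true,.edge 5],[]⟩,
⟨416,2,4,2,false,[.edge 5,.eqn 6 false,.eqn 13 true,.eqn 6 false,.eqn 13 false,.eqn 6 true,.edge 5],[]⟩,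
⟨928,1,4,2,false,[.edge 4,.eqn 14 false,.eqn 10 false,.eqn 14 false,.eqn 12 true,.eqn 14 true,.edge 4],[]⟩,
⟨0,0,0,3,false,[.edge 3,.eqn 15 false,.eqn 11 true,.edge 4,.eqn 14 false,.eqn 10 true,.edge 5],[]⟩,
⟨0,0,1,5,false,[.edge 3,.code,.eqn 15 false,.eqn 8 false,.edge 4,.code,.code],[]⟩,
⟨0,3,3,1,true,[.edge 5,.eqn 17 false],[.eqn 16 false]⟩,
⟨0,1,3,2,false,[.edge 3,.eqn 2 true,.edge 18],[]⟩]⟩

/-- Its last walk. -/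
def m106 : List Move := [.edge 3,.eqn 19 true]

/-- A collapsing certificate. -/
def c107 : Cert := ⟨[⟨false,0,0⟩,⟨false,928,1⟩,⟨false,416,2⟩],[.edge 3,.code,.edge 4,.code,.edge 5],[
⟨0,1,3,2,false,[.edge 3,.eqn 1 false,.eqn 0 false,.eqn 1 true,.edge 3],[]⟩,
⟨0,1,3,2,false,[.edge 3,.eqn 1 false,.eqn 2 false,.eqn 1 true,.edge 3],[]⟩,
⟨0,1,3,2,false,[.edge 3,.eqn 2 true,.eqn 1 false,.eqn 2 false,.edge 3],[]⟩,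
⟨0,2,3,2,false,[.edge 4,.eqn 9 false,.eqn 8 true,.edge 4],[]⟩,
⟨0,1,3,2,false,[.edge 3,.eqn 0 false,.eqn 1 false,.eqn 0 false,.eqn 1 true,.eqn 0 true,.edge 3],[]⟩,
⟨0,2,3,2,false,[.edge 4,.eqn 11 false,.edge 4],[]⟩,
⟨0,1,3,2,false,[.edge 3,.eqn 0 false,.eqn 1 false,.eqn 2 false,.eqn 1 true,.eqn 0 true,.edge 3],[]⟩,
⟨0,2,3,2,false,[.edge 4,.eqn 7 false,.eqn 8 true,.eqn 13 true,.edge 4],[]⟩,
⟨0,3,3,2,false,[.edge 5,.eqn 14 false,.eqn 10 true,.edge 5],[]⟩,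
⟨416,2,4,2,false,[.edge 5,.eqn 6 false,.eqn 15 true,.eqn 6 false,.eqn 15 false,.eqn 6 true,.edge 5],[]⟩,
⟨928,1,4,2,false,[.edge 4,.eqn 16 false,.eqn 14 true,.eqn 10 false,.eqn 16 true,.edge 4],[]⟩,
⟨0,0,0,3,false,[.edge 3,.eqn 17 false,.eqn 13 false,.edge 4,.eqn 16 false,.eqn 10 true,.eqn 12 false,.edge 5],[]⟩,
⟨0,0,1,5,false,[.edge 3,.code,.eqn 17 true,.eqn 13 true,.edge 4,.code,.code],[]⟩,
⟨0,3,3,1,true,[.edge 5,.eqn 19 false],[.eqn 18 false]⟩,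
⟨0,1,3,2,false,[.edge 3,.eqn 0 false,.eqn 1 false,.edge 20],[]⟩]⟩

/-- Its last walk. -/
def m107 : List Move := [.edge 3,.eqn 21 true]

/-- A collapsing certificate. -/
def c108 : Cert := ⟨[⟨false,0,0⟩,⟨false,928,1⟩,⟨false,416,2⟩],[.edge 3,.code,.edge 4,.code,.edge 5],[
⟨0,1,3,2,false,[.edge 3,.eqn 1 false,.eqn 0 false,.eqn 1 true,.edge 3],[]⟩,
⟨0,1,3,2,false,[.edge 3,.eqn 1 false,.eqn 2 false,.eqn 1 true,.edge 3],[]⟩,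
⟨0,1,3,2,false,[.edge 3,.eqn 2 true,.eqn 1 false,.eqn 2 false,.edge 3],[]⟩,
⟨0,2,3,2,false,[.edge 4,.eqn 9 false,.eqn 8 true,.edge 4],[]⟩,
⟨0,1,3,2,false,[.edge 3,.eqn 0 false,.eqn 1 false,.eqn 2 false,.eqn 1 true,.eqn 0 true,.edge 3],[]⟩,
⟨0,2,3,2,false,[.edge 4,.eqn 7 false,.eqn 8 true,.eqn 11 true,.edge 4],[]⟩,
⟨0,3,3,2,false,[.edge 5,.eqn 12 false,.eqn 10 true,.edge 5],[]⟩,
⟨416,2,4,2,false,[.edge 5,.eqn 6 false,.eqn 13 true,.eqn 6 false,.eqn 13 false,.eqn 6 true,.edge 5],[]⟩,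
⟨928,1,4,2,false,[.edge 4,.eqn 14 false,.eqn 10 false,.eqn 14 false,.eqn 10 true,.eqn 14 true,.edge 4],[]⟩,
⟨0,0,0,3,false,[.edge 3,.eqn 15 false,.eqn 11 true,.edge 4,.eqn 14 false,.eqn 10 false,.edge 5],[]⟩,
⟨0,0,1,5,false,[.edge 3,.code,.eqn 15 false,.eqn 8 false,.edge 4,.code,.code],[]⟩,
⟨0,3,3,1,true,[.edge 5,.eqn 17 false],[.eqn 16 false]⟩,
⟨0,1,3,2,false,[.edge 3,.eqn 2 true,.edge 18],[]⟩]⟩

/-- Its last walk. -/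
def m108 : List Move := [.edge 3,.eqn 19 true]

/-- A collapsing certificate. -/
def c109 : Cert := ⟨[⟨false,0,0⟩,⟨false,928,1⟩,⟨false,416,2⟩],[.edge 3,.code,.edge 4,.code,.edge 5],[
⟨0,1,3,2,false,[.edge 3,.eqn 1 false,.eqn 0 false,.eqn 1 true,.edge 3],[]⟩,
⟨0,1,3,2,false,[.edge 3,.eqn 1 false,.eqn 2 false,.eqn 1 true,.edge 3],[]⟩,
⟨0,1,3,2,false,[.edge 3,.eqn 2 true,.eqn 1 false,.eqn 2 false,.edge 3],[]⟩,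
⟨0,2,3,2,false,[.edge 4,.eqn 9 false,.eqn 8 true,.edge 4],[]⟩,
⟨0,1,3,2,false,[.edge 3,.eqn 0 false,.eqn 1 false,.eqn 0 false,.eqn 1 true,.eqn 0 true,.edge 3],[]⟩,
⟨0,2,3,2,false,[.edge 4,.eqn 11 false,.edge 4],[]⟩,
⟨0,1,3,2,false,[.edge 3,.eqn 0 false,.eqn 1 false,.eqn 2 false,.eqn 1 true,.eqn 0 true,.edge 3],[]⟩,
⟨0,2,3,2,false,[.edge 4,.eqn 7 false,.eqn 8 true,.eqn 13 true,.edge 4],[]⟩,
⟨0,3,3,2,false,[.edge 5,.eqn 14 false,.eqn 10 true,.edge 5],[]⟩,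
⟨416,2,4,2,false,[.edge 5,.eqn 6 false,.eqn 15 true,.eqn 6 false,.eqn 15 false,.eqn 6 true,.edge 5],[]⟩,
⟨928,1,4,2,false,[.edge 4,.eqn 16 false,.eqn 14 false,.eqn 12 true,.eqn 16 true,.edge 4],[]⟩,
⟨0,0,0,3,false,[.edge 3,.eqn 17 false,.eqn 7 false,.eqn 8 true,.edge 4,.eqn 16 false,.eqn 10 false,.eqn 12 false,.edge 5],[]⟩,
⟨0,0,1,5,false,[.edge 3,.code,.eqn 17 false,.eqn 8 true,.edge 4,.code,.code],[]⟩,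
⟨0,3,3,1,true,[.edge 5,.eqn 19 false],[.eqn 18 false]⟩,
⟨0,1,3,2,false,[.edge 3,.eqn 1 false,.edge 20],[]⟩]⟩

/-- Its last walk. -/
def m109 : List Move := [.edge 3,.eqn 21 true]

/-- A collapsing certificate. -/
def c110 : Cert := ⟨[⟨false,0,0⟩,⟨false,928,1⟩,⟨false,416,2⟩],[.edge 3,.code,.edge 4,.code,.edge 5],[
⟨0,1,3,2,false,[.edge 3,.eqn 1 false,.eqn 0 false,.eqn 1 true,.edge 3],[]⟩,
⟨0,1,3,2,false,[.edge 3,.eqn 1 false,.eqn 2 false,.eqn 1 true,.edge 3],[]⟩,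
⟨0,1,3,2,false,[.edge 3,.eqn 2 true,.eqn 1 false,.eqn 2 false,.edge 3],[]⟩,
⟨0,2,3,2,false,[.edge 4,.eqn 9 false,.eqn 8 true,.edge 4],[]⟩,
⟨0,1,3,2,false,[.edge 3,.eqn 0 false,.eqn 1 false,.eqn 0 false,.eqn 1 true,.eqn 0 true,.edge 3],[]⟩,
⟨0,2,3,2,false,[.edge 4,.eqn 11 false,.edge 4],[]⟩,
⟨0,1,3,2,false,[.edge 3,.eqn 0 false,.eqn 1 false,.eqn 2 false,.eqn 1 true,.eqn 0 true,.edge 3],[]⟩,
⟨0,2,3,2,false,[.edge 4,.eqn 7 false,.eqn 8 true,.eqn 13 true,.edge 4],[]⟩,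
⟨0,3,3,2,false,[.edge 5,.eqn 14 false,.eqn 10 true,.edge 5],[]⟩,
⟨416,2,4,2,false,[.edge 5,.eqn 6 false,.eqn 15 true,.eqn 6 false,.eqn 15 false,.eqn 6 true,.edge 5],[]⟩,
⟨928,1,4,2,false,[.edge 4,.eqn 16 false,.eqn 14 true,.eqn 10 false,.eqn 16 true,.edge 4],[]⟩,
⟨0,0,0,3,false,[.edge 3,.eqn 17 false,.eqn 13 false,.edge 4,.eqn 16 false,.eqn 10 true,.eqn 12 false,.edge 5],[]⟩,
⟨0,0,1,5,false,[.edge 3,.code,.eqn 17 true,.eqn 13 true,.edge 4,.code,.code],[]⟩,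
⟨0,3,3,1,true,[.edge 5,.eqn 19 false],[.eqn 18 false]⟩,
⟨0,1,3,2,false,[.edge 3,.eqn 0 false,.eqn 1 false,.edge 20],[]⟩]⟩

/-- Its last walk. -/
def m110 : List Move := [.edge 3,.eqn 21 true]

/-- A collapsing certificate. -/
def c111 : Cert := ⟨[⟨false,0,0⟩,⟨false,928,1⟩,⟨false,416,2⟩],[.edge 3,.code,.edge 4,.code,.edge 5],[
⟨0,1,3,2,false,[.edge 3,.eqn 1 false,.eqn 0 false,.eqn 1 true,.edge 3],[]⟩,
⟨0,1,3,2,false,[.edge 3,.eqn 1 false,.eqn 2 false,.eqn 1 true,.edge 3],[]⟩,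
⟨0,1,3,2,false,[.edge 3,.eqn 2 true,.eqn 1 false,.eqn 2 false,.edge 3],[]⟩,
⟨0,2,3,2,false,[.edge 4,.eqn 9 false,.eqn 8 true,.edge 4],[]⟩,
⟨0,1,3,2,false,[.edge 3,.eqn 0 false,.eqn 1 false,.eqn 2 false,.eqn 1 true,.eqn 0 true,.edge 3],[]⟩,
⟨0,2,3,2,false,[.edge 4,.eqn 7 false,.eqn 8 true,.eqn 11 true,.edge 4],[]⟩,
⟨0,3,3,2,false,[.edge 5,.eqn 12 false,.eqn 10 true,.edge 5],[]⟩,
⟨416,2,4,2,false,[.edge 5,.eqn 6 false,.eqn 13 true,.eqn 6 false,.eqn 13 false,.eqn 6 true,.edge 5],[]⟩,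
⟨928,1,4,2,false,[.edge 4,.eqn 14 false,.eqn 10 false,.eqn 14 false,.eqn 12 true,.eqn 14 true,.edge 4],[]⟩,
⟨0,0,0,3,false,[.edge 3,.eqn 15 false,.eqn 11 true,.edge 4,.eqn 14 false,.eqn 10 true,.edge 5],[]⟩,
⟨0,0,1,5,false,[.edge 3,.code,.eqn 15 false,.eqn 8 false,.edge 4,.code,.code],[]⟩,
⟨0,3,3,1,true,[.edge 5,.eqn 17 false],[.eqn 16 false]⟩,
⟨0,1,3,2,false,[.edge 3,.eqn 2 true,.edge 18],[]⟩]⟩

/-- Its last walk. -/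
def m111 : List Move := [.edge 3,.eqn 19 true]

/-- A collapsing certificate. -/
def c112 : Cert := ⟨[⟨false,0,0⟩,⟨false,928,1⟩,⟨false,416,2⟩],[.edge 3,.code,.edge 4,.code,.edge 5],[
⟨0,1,3,2,false,[.edge 3,.eqn 1 false,.eqn 0 false,.eqn 1 true,.edge 3],[]⟩,
⟨0,1,3,2,false,[.edge 3,.eqn 1 false,.eqn 2 false,.eqn 1 true,.edge 3],[]⟩,
⟨0,1,3,2,false,[.edge 3,.eqn 2 true,.eqn 1 false,.eqn 2 false,.edge 3],[]⟩,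
⟨0,2,3,2,false,[.edge 4,.eqn 9 false,.eqn 8 true,.edge 4],[]⟩,
⟨0,1,3,2,false,[.edge 3,.eqn 0 false,.eqn 1 false,.eqn 0 false,.eqn 1 true,.eqn 0 true,.edge 3],[]⟩,
⟨0,2,3,2,false,[.edge 4,.eqn 11 false,.edge 4],[]⟩,
⟨0,1,3,2,false,[.edge 3,.eqn 0 false,.eqn 1 false,.eqn 2 false,.eqn 1 true,.eqn 0 true,.edge 3],[]⟩,
⟨0,2,3,2,false,[.edge 4,.eqn 7 false,.eqn 8 true,.eqn 13 true,.edge 4],[]⟩,
⟨0,3,3,2,false,[.edge 5,.eqn 14 false,.eqn 10 true,.edge 5],[]⟩,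
⟨416,2,4,2,false,[.edge 5,.eqn 6 false,.eqn 15 true,.eqn 6 false,.eqn 15 false,.eqn 6 true,.edge 5],[]⟩,
⟨928,1,4,2,false,[.edge 4,.eqn 16 false,.eqn 14 false,.eqn 12 true,.eqn 16 true,.edge 4],[]⟩,
⟨0,0,0,3,false,[.edge 3,.eqn 17 false,.eqn 7 false,.eqn 8 true,.edge 4,.eqn 16 false,.eqn 10 false,.eqn 12 false,.edge 5],[]⟩,
⟨0,0,1,5,false,[.edge 3,.code,.eqn 17 false,.eqn 8 true,.edge 4,.code,.code],[]⟩,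
⟨0,3,3,1,true,[.edge 5,.eqn 19 false],[.eqn 18 false]⟩,
⟨0,1,3,2,false,[.edge 3,.eqn 1 false,.edge 20],[]⟩]⟩

/-- Its last walk. -/
def m112 : List Move := [.edge 3,.eqn 21 true]

/-- A collapsing certificate. -/
def c113 : Cert := ⟨[⟨false,0,0⟩,⟨false,928,1⟩,⟨false,416,2⟩],[.edge 3,.code,.edge 4,.code,.edge 5],[
⟨0,1,3,2,false,[.edge 3,.eqn 1 false,.eqn 0 false,.eqn 1 true,.edge 3],[]⟩,
⟨0,1,3,2,false,[.edge 3,.eqn 1 false,.eqn 2 false,.eqn 1 true,.edge 3],[]⟩,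
⟨0,1,3,2,false,[.edge 3,.eqn 2 true,.eqn 1 false,.eqn 2 false,.edge 3],[]⟩,
⟨0,2,3,2,false,[.edge 4,.eqn 9 false,.eqn 8 true,.edge 4],[]⟩,
⟨0,1,3,2,false,[.edge 3,.eqn 0 false,.eqn 1 false,.eqn 2 false,.eqn 1 true,.eqn 0 true,.edge 3],[]⟩,
⟨0,2,3,2,false,[.edge 4,.eqn 7 false,.eqn 8 true,.eqn 11 true,.edge 4],[]⟩,
⟨0,3,3,2,false,[.edge 5,.eqn 12 false,.eqn 10 true,.edge 5],[]⟩,
⟨416,2,4,2,false,[.edge 5,.eqn 6 false,.eqn 13 false,.eqn 6 false,.eqn 13 false,.eqn 6 true,.edge 5],[]⟩,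
⟨0,3,3,2,false,[.edge 5,.eqn 10 false,.eqn 14 false,.eqn 10 false,.edge 5],[]⟩,
⟨928,1,4,2,false,[.edge 4,.eqn 14 false,.eqn 10 false,.eqn 14 true,.edge 4],[]⟩,
⟨416,2,4,2,false,[.edge 5,.eqn 6 false,.eqn 15 true,.eqn 15 true,.eqn 6 true,.edge 5],[]⟩,
⟨0,0,0,3,false,[.edge 3,.eqn 16 false,.eqn 7 false,.eqn 8 true,.edge 4,.eqn 14 false,.eqn 17 false,.eqn 10 false,.edge 5],[]⟩,
⟨0,0,1,5,false,[.edge 3,.code,.eqn 16 false,.eqn 8 true,.edge 4,.code,.code],[]⟩,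
⟨0,3,3,1,true,[.edge 5,.eqn 19 false],[.eqn 18 false]⟩,
⟨0,1,3,2,false,[.edge 3,.eqn 1 false,.edge 20],[]⟩]⟩

/-- Its last walk. -/
def m113 : List Move := [.edge 3,.eqn 21 true]

/-- A collapsing certificate. -/
def c114 : Cert := ⟨[⟨false,0,0⟩,⟨false,928,1⟩,⟨false,416,2⟩,⟨false,0,1⟩,⟨true,723,1⟩,⟨true,1632,5⟩,⟨false,4,5⟩,⟨false,416,7⟩,⟨true,1766,8⟩,⟨true,416,9⟩,⟨true,1632,10⟩,⟨true,1765,6⟩,⟨false,303,6⟩],[.edge 3,.code,.edge 4,.code,.edge 5],[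
⟨0,1,3,2,false,[.edge 3,.eqn 1 false,.eqn 0 false,.eqn 1 true,.edge 3],[]⟩,
⟨0,1,3,2,false,[.edge 3,.eqn 1 false,.eqn 2 false,.eqn 1 true,.edge 3],[]⟩,
⟨0,1,3,2,false,[.edge 3,.eqn 2 true,.eqn 1 false,.eqn 2 false,.edge 3],[]⟩,
⟨0,1,3,2,false,[.edge 3,.eqn 0 false,.eqn 1 false,.eqn 0 false,.eqn 1 true,.eqn 0 true,.edge 3],[]⟩,
⟨0,2,3,2,false,[.edge 4,.eqn 20 false,.edge 4],[]⟩,
⟨0,1,3,2,false,[.edge 3,.eqn 0 false,.eqn 1 false,.eqn 2 false,.eqn 1 true,.eqn 0 true,.edge 3],[]⟩,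
⟨0,2,3,2,false,[.edge 4,.eqn 17 false,.eqn 18 true,.eqn 22 true,.edge 4],[]⟩,
⟨0,0,0,2,true,[.edge 3,.edge 6],[]⟩,
⟨0,0,1,2,false,[.edge 3,.code],[.code,.code,.eqn 0 false,.edge 24]⟩,
⟨0,0,3,1,true,[.edge 24,.eqn 25 true],[]⟩,
⟨0,4,3,1,true,[.edge 6],[.eqn 25 true]⟩,
⟨0,0,2,21,false,[.code,.eqn 2 false,.edge 24,.eqn 25 true,.code,.edge 7,.code,.edge 8,.code,.edge 8,.code,.edge 9,.code,.edge 10,.code,.edge 11,.code,.edge 12,.code,.edge 13,.code,.edge 13,.code],[.edge 24,.eqn 25 true,.code,.eqn 18 false,.edge 7]⟩,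
⟨1632,10,3,1,true,[.edge 13],[.eqn 28 false]⟩,
⟨0,5,4,2,false,[.edge 7,.eqn 19 false,.eqn 18 true,.edge 7],[]⟩,
⟨0,6,4,2,false,[.edge 8,.eqn 30 true,.edge 29],[]⟩,
⟨0,5,4,2,false,[.edge 7,.eqn 20 false,.edge 7],[]⟩,
⟨0,1,2,11,true,[.code,.eqn 17 false,.edge 7,.code,.eqn 32 false,.edge 29,.eqn 31 false,.code,.edge 14,.code,.edge 14,.code,.edge 15,.code],[.edge 3,.code,.eqn 1 false,.edge 24,.eqn 25 true,.code,.eqn 17 false,.eqn 18 true,.edge 7,.code,.edge 7,.code,.edge 6,.eqn 25 true,.code,.eqn 18 true,.edge 4,.code]⟩,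
⟨416,13,4,2,false,[.edge 33,.eqn 23 false,.eqn 21 true,.edge 33],[]⟩,
⟨303,6,4,2,false,[.edge 15,.eqn 34 false,.edge 15],[]⟩,
⟨1632,5,3,2,false,[.edge 8,.eqn 35 false,.edge 8],[]⟩,
⟨723,1,3,2,false,[.edge 7,.eqn 36 false,.eqn 30 false,.eqn 36 true,.edge 7],[]⟩,
⟨0,0,3,2,false,[.edge 26,.eqn 37 false,.eqn 17 false,.eqn 37 true,.edge 27],[]⟩]⟩

/-- Its last walk. -/
def m114 : List Move := [.edge 3,.eqn 38 false]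

/-- A collapsing certificate. -/
def c115 : Cert := ⟨[⟨false,0,0⟩,⟨false,928,1⟩,⟨false,416,2⟩,⟨false,0,1⟩,⟨true,422,1⟩,⟨true,1632,5⟩,⟨false,4,5⟩,⟨false,416,7⟩,⟨true,1753,6⟩,⟨false,344,6⟩],[.edge 3,.code,.edge 4,.code,.edge 5],[
⟨0,1,3,2,false,[.edge 3,.eqn 1 false,.eqn 0 false,.eqn 1 true,.edge 3],[]⟩,
⟨0,1,3,2,false,[.edge 3,.eqn 1 false,.eqn 2 false,.eqn 1 true,.edge 3],[]⟩,
⟨0,1,3,2,false,[.edge 3,.eqn 2 true,.eqn 1 false,.eqn 2 false,.edge 3],[]⟩,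
⟨0,1,3,2,false,[.edge 3,.eqn 0 false,.eqn 1 false,.eqn 0 false,.eqn 1 true,.eqn 0 true,.edge 3],[]⟩,
⟨0,2,3,2,false,[.edge 4,.eqn 17 false,.edge 4],[]⟩,
⟨0,1,3,2,false,[.edge 3,.eqn 0 false,.eqn 1 false,.eqn 2 false,.eqn 1 true,.eqn 0 true,.edge 3],[]⟩,
⟨0,2,3,2,false,[.edge 4,.eqn 14 false,.eqn 15 true,.eqn 19 true,.edge 4],[]⟩,
⟨0,0,0,2,true,[.edge 3,.edge 6],[]⟩,
⟨0,0,1,2,false,[.edge 3,.code],[.code,.code,.eqn 0 false,.edge 21]⟩,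
⟨0,0,3,1,true,[.edge 21,.eqn 22 true],[]⟩,
⟨0,4,3,1,true,[.edge 6],[.eqn 22 true]⟩,
⟨0,5,4,2,false,[.edge 7,.eqn 17 false,.edge 7],[]⟩,
⟨0,5,4,2,false,[.edge 7,.eqn 14 false,.eqn 15 false,.eqn 19 false,.edge 7],[]⟩,
⟨0,5,4,2,false,[.edge 7,.eqn 14 false,.eqn 16 false,.eqn 19 true,.edge 7],[]⟩,
⟨0,1,2,11,true,[.code,.eqn 19 false,.edge 7,.code,.eqn 25 false,.eqn 26 false,.edge 8,.code,.edge 11,.code,.edge 11,.code,.edge 12,.code],[.edge 3,.code,.eqn 1 false,.edge 21,.eqn 22 true,.code,.eqn 15 false,.edge 7,.code,.edge 7,.code,.edge 6,.eqn 22 true,.code,.eqn 15 true,.edge 4,.code]⟩,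
⟨416,10,4,2,false,[.edge 28,.eqn 20 false,.eqn 18 true,.edge 28],[]⟩,
⟨344,6,4,2,false,[.edge 12,.eqn 29 false,.edge 12],[]⟩,
⟨1632,5,3,2,false,[.edge 8,.eqn 30 false,.edge 8],[]⟩,
⟨422,1,3,2,false,[.edge 7,.eqn 31 true,.eqn 26 false,.eqn 27 false,.eqn 31 true,.edge 7],[]⟩,
⟨0,0,3,2,false,[.edge 23,.eqn 32 false,.eqn 14 false,.eqn 32 true,.edge 24],[]⟩]⟩

/-- Its last walk. -/
def m115 : List Move := [.edge 3,.eqn 33 false]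

/-- A collapsing certificate. -/
def c116 : Cert := ⟨[⟨false,0,0⟩,⟨false,928,1⟩,⟨false,416,2⟩],[.edge 3,.code,.edge 4,.code,.edge 5],[
⟨0,1,3,2,false,[.edge 3,.eqn 1 false,.eqn 0 false,.eqn 1 true,.edge 3],[]⟩,
⟨0,1,3,2,false,[.edge 3,.eqn 1 false,.eqn 2 false,.eqn 1 true,.edge 3],[]⟩,
⟨0,1,3,2,false,[.edge 3,.eqn 2 true,.eqn 1 false,.eqn 2 false,.edge 3],[]⟩,
⟨0,2,3,2,false,[.edge 4,.eqn 9 false,.eqn 8 true,.edge 4],[]⟩,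
⟨0,1,3,2,false,[.edge 3,.eqn 0 false,.eqn 1 false,.eqn 2 false,.eqn 1 true,.eqn 0 true,.edge 3],[]⟩,
⟨0,2,3,2,false,[.edge 4,.eqn 7 false,.eqn 8 true,.eqn 11 true,.edge 4],[]⟩,
⟨0,3,3,2,false,[.edge 5,.eqn 12 false,.eqn 10 true,.edge 5],[]⟩,
⟨416,2,4,2,false,[.edge 5,.eqn 6 false,.eqn 13 false,.eqn 6 false,.eqn 13 false,.eqn 6 true,.edge 5],[]⟩,
⟨0,3,3,2,false,[.edge 5,.eqn 10 false,.eqn 14 false,.eqn 10 false,.edge 5],[]⟩,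
⟨928,1,4,2,false,[.edge 4,.eqn 14 false,.eqn 10 false,.eqn 14 true,.edge 4],[]⟩,
⟨416,2,4,2,false,[.edge 5,.eqn 6 false,.eqn 15 true,.eqn 15 true,.eqn 6 true,.edge 5],[]⟩,
⟨0,0,0,3,false,[.edge 3,.eqn 16 false,.eqn 7 false,.eqn 8 true,.edge 4,.eqn 14 false,.eqn 17 false,.eqn 10 false,.edge 5],[]⟩,
⟨0,0,1,5,false,[.edge 3,.code,.eqn 16 false,.eqn 8 true,.edge 4,.code,.code],[]⟩,
⟨0,3,3,1,true,[.edge 5,.eqn 19 false],[.eqn 18 false]⟩,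
⟨0,1,3,2,false,[.edge 3,.eqn 1 false,.edge 20],[]⟩]⟩

/-- Its last walk. -/
def m116 : List Move := [.edge 3,.eqn 21 true]

/-- A collapsing certificate. -/
def c117 : Cert := ⟨[⟨false,0,0⟩,⟨false,928,1⟩,⟨false,416,2⟩,⟨false,0,1⟩,⟨true,721,1⟩,⟨true,1632,5⟩,⟨false,4,5⟩,⟨false,416,7⟩,⟨true,1782,8⟩,⟨true,416,9⟩,⟨true,1632,10⟩,⟨true,1750,6⟩,⟨false,345,6⟩],[.edge 3,.code,.edge 4,.code,.edge 5],[
⟨0,1,3,2,false,[.edge 3,.eqn 1 false,.eqn 0 false,.eqn 1 true,.edge 3],[]⟩,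
⟨0,1,3,2,false,[.edge 3,.eqn 1 false,.eqn 2 false,.eqn 1 true,.edge 3],[]⟩,
⟨0,1,3,2,false,[.edge 3,.eqn 2 true,.eqn 1 false,.eqn 2 false,.edge 3],[]⟩,
⟨0,1,3,2,false,[.edge 3,.eqn 0 false,.eqn 1 false,.eqn 0 false,.eqn 1 true,.eqn 0 true,.edge 3],[]⟩,
⟨0,2,3,2,false,[.edge 4,.eqn 20 false,.edge 4],[]⟩,
⟨0,1,3,2,false,[.edge 3,.eqn 0 false,.eqn 1 false,.eqn 2 false,.eqn 1 true,.eqn 0 true,.edge 3],[]⟩,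
⟨0,2,3,2,false,[.edge 4,.eqn 17 false,.eqn 18 true,.eqn 22 true,.edge 4],[]⟩,
⟨0,0,0,2,true,[.edge 3,.edge 6],[]⟩,
⟨0,0,1,2,false,[.edge 3,.code],[.code,.code,.eqn 0 false,.edge 24]⟩,
⟨0,0,3,1,true,[.edge 24,.eqn 25 true],[]⟩,
⟨0,4,3,1,true,[.edge 6],[.eqn 25 true]⟩,
⟨0,0,2,21,false,[.code,.eqn 2 false,.edge 24,.eqn 25 true,.code,.edge 7,.code,.edge 8,.code,.edge 8,.code,.edge 9,.code,.edge 10,.code,.edge 11,.code,.edge 12,.code,.edge 13,.code,.edge 13,.code],[.edge 24,.eqn 25 true,.code,.eqn 22 true,.edge 7]⟩,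
⟨1632,10,3,1,true,[.edge 13],[.eqn 28 false]⟩,
⟨0,5,4,2,false,[.edge 7,.eqn 19 false,.eqn 18 true,.edge 7],[]⟩,
⟨0,5,4,2,false,[.edge 7,.eqn 17 false,.eqn 18 true,.eqn 22 true,.edge 7],[]⟩,
⟨0,11,4,2,false,[.edge 29,.eqn 31 true,.edge 8],[]⟩,
⟨0,1,2,11,true,[.code,.edge 7,.code,.eqn 31 true,.edge 29,.eqn 32 true,.code,.edge 14,.code,.edge 14,.code,.edge 15,.code],[.edge 3,.code,.eqn 1 false,.edge 24,.eqn 25 true,.code,.eqn 18 true,.edge 7,.code,.edge 7,.code,.edge 6,.eqn 25 true,.code,.eqn 18 true,.edge 4,.code]⟩,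
⟨416,13,4,2,false,[.edge 33,.eqn 23 false,.eqn 21 true,.edge 33],[]⟩,
⟨345,6,4,2,false,[.edge 15,.eqn 34 false,.edge 15],[]⟩,
⟨1632,5,3,2,false,[.edge 8,.eqn 35 false,.edge 8],[]⟩,
⟨721,1,3,2,false,[.edge 7,.eqn 36 false,.eqn 31 false,.eqn 30 true,.eqn 36 true,.edge 7],[]⟩,
⟨0,0,3,2,false,[.edge 26,.eqn 37 false,.eqn 17 false,.eqn 37 true,.edge 27],[]⟩]⟩

/-- Its last walk. -/
def m117 : List Move := [.edge 3,.eqn 38 false]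

/-- A collapsing certificate. -/
def c118 : Cert := ⟨[⟨false,0,0⟩,⟨false,928,1⟩,⟨false,416,2⟩,⟨false,0,1⟩,⟨true,436,1⟩,⟨true,1632,5⟩,⟨false,4,5⟩,⟨false,416,7⟩,⟨true,1784,8⟩,⟨true,416,9⟩,⟨true,1632,10⟩,⟨true,1753,6⟩,⟨false,344,6⟩],[.edge 3,.code,.edge 4,.code,.edge 5],[
⟨0,1,3,2,false,[.edge 3,.eqn 1 false,.eqn 0 false,.eqn 1 true,.edge 3],[]⟩,
⟨0,1,3,2,false,[.edge 3,.eqn 1 false,.eqn 2 false,.eqn 1 true,.edge 3],[]⟩,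
⟨0,1,3,2,false,[.edge 3,.eqn 2 true,.eqn 1 false,.eqn 2 false,.edge 3],[]⟩,
⟨0,1,3,2,false,[.edge 3,.eqn 0 false,.eqn 1 false,.eqn 0 false,.eqn 1 true,.eqn 0 true,.edge 3],[]⟩,
⟨0,2,3,2,false,[.edge 4,.eqn 20 false,.edge 4],[]⟩,
⟨0,1,3,2,false,[.edge 3,.eqn 0 false,.eqn 1 false,.eqn 2 false,.eqn 1 true,.eqn 0 true,.edge 3],[]⟩,
⟨0,2,3,2,false,[.edge 4,.eqn 17 false,.eqn 18 true,.eqn 22 true,.edge 4],[]⟩,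
⟨0,0,0,2,true,[.edge 3,.edge 6],[]⟩,
⟨0,0,1,2,false,[.edge 3,.code],[.code,.code,.eqn 0 false,.edge 24]⟩,
⟨0,0,3,1,true,[.edge 24,.eqn 25 true],[]⟩,
⟨0,4,3,1,true,[.edge 6],[.eqn 25 true]⟩,
⟨0,0,2,21,false,[.code,.eqn 0 false,.eqn 2 false,.edge 24,.eqn 25 true,.code,.edge 7,.code,.edge 8,.code,.edge 8,.code,.edge 9,.code,.edge 10,.code,.edge 11,.code,.edge 12,.code,.edge 13,.code,.edge 13,.code],[.edge 24,.eqn 25 true,.code,.edge 7]⟩,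
⟨1632,10,3,1,true,[.edge 13],[.eqn 28 false]⟩,
⟨0,5,4,2,false,[.edge 7,.eqn 20 false,.edge 7],[]⟩,
⟨0,6,4,2,false,[.edge 8,.eqn 30 false,.edge 29],[]⟩,
⟨0,5,4,2,false,[.edge 7,.eqn 17 false,.eqn 18 false,.eqn 22 false,.edge 7],[]⟩,
⟨0,5,4,2,false,[.edge 7,.eqn 17 false,.eqn 19 false,.eqn 22 true,.edge 7],[]⟩,
⟨0,1,2,11,true,[.code,.eqn 18 true,.edge 7,.code,.edge 29,.eqn 31 false,.code,.edge 14,.code,.edge 14,.code,.edge 15,.code],[.edge 3,.code,.eqn 1 false,.edge 24,.eqn 25 true,.code,.eqn 17 false,.eqn 18 false,.edge 7,.code,.edge 7,.code,.edge 6,.eqn 25 true,.code,.eqn 18 true,.edge 4,.code]⟩,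
⟨416,13,4,2,false,[.edge 34,.eqn 23 false,.eqn 21 true,.edge 34],[]⟩,
⟨344,6,4,2,false,[.edge 15,.eqn 35 false,.edge 15],[]⟩,
⟨1632,5,3,2,false,[.edge 8,.eqn 36 false,.edge 8],[]⟩,
⟨436,1,3,2,false,[.edge 7,.eqn 37 true,.eqn 32 false,.eqn 33 false,.eqn 37 true,.edge 7],[]⟩,
⟨0,0,3,2,false,[.edge 26,.eqn 38 false,.eqn 17 false,.eqn 38 true,.edge 27],[]⟩]⟩

/-- Its last walk. -/
def m118 : List Move := [.edge 3,.eqn 39 false]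

/-- A collapsing certificate. -/
def c119 : Cert := ⟨[⟨false,0,0⟩,⟨false,928,1⟩,⟨false,416,2⟩,⟨false,0,1⟩,⟨true,559,1⟩,⟨true,1632,5⟩,⟨false,4,5⟩,⟨false,416,7⟩,⟨true,1790,8⟩,⟨true,416,9⟩,⟨true,1632,10⟩,⟨true,1792,6⟩,⟨false,356,6⟩,⟨true,1765,6⟩],[.edge 3,.code,.edge 4,.code,.edge 5],[
⟨0,1,3,2,false,[.edge 3,.eqn 1 false,.eqn 0 false,.eqn 1 true,.edge 3],[]⟩,
⟨0,1,3,2,false,[.edge 3,.eqn 1 false,.eqn 2 false,.eqn 1 true,.edge 3],[]⟩,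
⟨0,1,3,2,false,[.edge 3,.eqn 2 true,.eqn 1 false,.eqn 2 false,.edge 3],[]⟩,
⟨0,2,3,2,false,[.edge 4,.eqn 20 false,.eqn 19 true,.edge 4],[]⟩,
⟨0,1,3,2,false,[.edge 3,.eqn 0 false,.eqn 1 false,.eqn 0 false,.eqn 1 true,.eqn 0 true,.edge 3],[]⟩,
⟨0,1,3,2,false,[.edge 3,.eqn 0 false,.eqn 1 false,.eqn 2 false,.eqn 1 true,.eqn 0 true,.edge 3],[]⟩,
⟨0,2,3,2,false,[.edge 4,.eqn 18 false,.eqn 19 true,.eqn 23 true,.edge 4],[]⟩,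
⟨0,0,0,2,true,[.edge 3,.edge 6],[]⟩,
⟨0,0,1,2,false,[.edge 3,.code],[.code,.code,.eqn 0 false,.edge 25]⟩,
⟨0,0,3,1,true,[.edge 25,.eqn 26 true],[]⟩,
⟨0,4,3,1,true,[.edge 6],[.eqn 26 true]⟩,
⟨0,0,2,21,false,[.code,.eqn 0 false,.eqn 2 false,.edge 25,.eqn 26 true,.code,.edge 7,.code,.edge 8,.code,.edge 8,.code,.edge 9,.code,.edge 10,.code,.edge 11,.code,.edge 12,.code,.edge 13,.code,.edge 13,.code],[.edge 25,.eqn 26 true,.code,.eqn 19 true,.edge 7]⟩,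
⟨1632,10,3,1,true,[.edge 13],[.eqn 29 false]⟩,
⟨0,5,4,2,false,[.edge 7,.eqn 20 false,.eqn 19 false,.edge 7],[]⟩,
⟨0,7,3,2,false,[.edge 9,.eqn 31 false,.edge 9],[]⟩,
⟨0,6,4,2,false,[.edge 8,.eqn 31 false,.edge 8],[]⟩,
⟨0,8,3,2,false,[.edge 10,.eqn 32 false,.edge 10],[]⟩,
⟨0,5,4,2,false,[.edge 7,.eqn 22 false,.edge 7],[]⟩,
⟨0,7,3,2,false,[.edge 9,.eqn 35 false,.edge 9],[]⟩,
⟨0,5,4,2,false,[.edge 7,.eqn 23 false,.edge 7],[]⟩,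
⟨0,6,4,2,false,[.edge 8,.eqn 35 false,.eqn 37 false,.edge 30],[]⟩,
⟨0,1,2,11,true,[.code,.eqn 19 false,.edge 7,.code,.eqn 37 false,.edge 8,.code,.edge 14,.code,.edge 14,.code,.edge 15,.code],[.edge 3,.code,.eqn 1 false,.edge 25,.eqn 26 true,.code,.eqn 18 false,.edge 7,.code,.edge 7,.code,.edge 6,.eqn 26 true,.code,.eqn 19 true,.edge 4,.code]⟩,
⟨0,13,3,2,false,[.edge 15,.eqn 33 false,.edge 15],[]⟩,
⟨2,1,2,11,true,[.code,.eqn 18 false,.eqn 19 false,.edge 7,.code,.eqn 35 false,.edge 8,.code,.edge 16,.code,.edge 16,.code,.edge 15,.code],[.edge 28,.code,.eqn 18 false,.eqn 19 true,.edge 7,.code,.eqn 37 true,.edge 30,.eqn 38 false,.code,.edge 8,.code,.edge 9,.code,.eqn 36 false,.edge 10,.code]⟩,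
⟨384,1,1,2,false,[.eqn 19 false,.edge 4,.code],[.code,.code,.eqn 19 true,.edge 7]⟩,
⟨559,1,3,1,true,[.edge 7,.eqn 42 true],[]⟩,
⟨1632,5,3,1,true,[.edge 8],[.eqn 42 true]⟩,
⟨416,13,4,2,false,[.edge 39,.eqn 21 true,.eqn 24 false,.edge 44],[]⟩,
⟨1777,8,3,1,true,[.edge 41,.eqn 45 true],[]⟩,
⟨0,13,3,1,true,[.edge 15],[.eqn 45 true]⟩,
⟨234,13,5,0,false,[.eqn 40 false,.eqn 45 true],[.eqn 45 true]⟩,
⟨1777,8,3,2,false,[.edge 46,.eqn 48 true,.edge 47],[]⟩,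
⟨315,8,5,0,false,[.eqn 34 false,.eqn 49 true],[.eqn 49 true]⟩,
⟨572,6,3,2,false,[.edge 47,.eqn 48 false,.eqn 33 false,.eqn 50 false,.eqn 48 false,.edge 44],[]⟩,
⟨44,6,5,0,false,[.eqn 33 false,.eqn 51 true],[.eqn 51 true]⟩,
⟨559,1,3,2,false,[.edge 43,.eqn 52 true,.eqn 21 false,.edge 5],[]⟩,
⟨1790,3,5,0,false,[.eqn 17 false,.eqn 53 false],[.eqn 53 false]⟩,
⟨0,0,3,2,false,[.edge 27,.eqn 54 false,.eqn 18 false,.eqn 54 false,.edge 28],[]⟩]⟩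

/-- Its last walk. -/
def m119 : List Move := [.edge 3,.eqn 55 false]

/-- A collapsing certificate. -/
def c120 : Cert := ⟨[⟨false,0,0⟩,⟨false,928,1⟩,⟨false,416,2⟩],[.edge 3,.code,.edge 4,.code,.edge 5],[
⟨0,1,3,2,false,[.edge 3,.eqn 1 false,.eqn 0 false,.eqn 1 true,.edge 3],[]⟩,
⟨0,1,3,2,false,[.edge 3,.eqn 1 false,.eqn 2 false,.eqn 1 true,.edge 3],[]⟩,
⟨0,1,3,2,false,[.edge 3,.eqn 2 true,.eqn 1 false,.eqn 2 false,.edge 3],[]⟩,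
⟨0,2,3,2,false,[.edge 4,.eqn 9 false,.eqn 8 true,.edge 4],[]⟩,
⟨0,1,3,2,false,[.edge 3,.eqn 0 false,.eqn 1 false,.eqn 2 false,.eqn 1 true,.eqn 0 true,.edge 3],[]⟩,
⟨0,2,3,2,false,[.edge 4,.eqn 7 false,.eqn 8 true,.eqn 11 true,.edge 4],[]⟩,
⟨0,3,3,2,false,[.edge 5,.eqn 12 false,.eqn 10 true,.edge 5],[]⟩,
⟨416,2,4,2,false,[.edge 5,.eqn 6 false,.eqn 13 false,.eqn 6 false,.eqn 13 true,.eqn 6 true,.edge 5],[]⟩,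
⟨928,1,4,2,false,[.edge 4,.eqn 14 false,.eqn 10 false,.eqn 14 false,.eqn 10 true,.eqn 14 true,.edge 4],[]⟩,
⟨0,0,0,3,false,[.edge 3,.eqn 15 false,.eqn 11 true,.edge 4,.eqn 14 false,.eqn 10 false,.edge 5],[]⟩,
⟨0,0,1,5,false,[.edge 3,.code,.eqn 15 false,.eqn 8 false,.edge 4,.code,.code],[]⟩,
⟨0,3,3,1,true,[.edge 5,.eqn 17 false],[.eqn 16 false]⟩,
⟨0,1,3,2,false,[.edge 3,.eqn 2 true,.edge 18],[]⟩]⟩

/-- Its last walk. -/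
def m120 : List Move := [.edge 3,.eqn 19 true]

/-- A collapsing certificate. -/
def c121 : Cert := ⟨[⟨false,0,0⟩,⟨false,928,1⟩,⟨false,416,2⟩],[.edge 3,.code,.edge 4,.code,.edge 5],[
⟨0,1,3,2,false,[.edge 3,.eqn 1 false,.eqn 0 false,.eqn 1 true,.edge 3],[]⟩,
⟨0,1,3,2,false,[.edge 3,.eqn 1 false,.eqn 2 false,.eqn 1 true,.edge 3],[]⟩,
⟨0,1,3,2,false,[.edge 3,.eqn 2 true,.eqn 1 false,.eqn 2 false,.edge 3],[]⟩,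
⟨0,2,3,2,false,[.edge 4,.eqn 9 false,.eqn 8 true,.edge 4],[]⟩,
⟨0,1,3,2,false,[.edge 3,.eqn 0 false,.eqn 1 false,.eqn 0 false,.eqn 1 true,.eqn 0 true,.edge 3],[]⟩,
⟨0,2,3,2,false,[.edge 4,.eqn 11 false,.edge 4],[]⟩,
⟨0,1,3,2,false,[.edge 3,.eqn 0 false,.eqn 1 false,.eqn 2 false,.eqn 1 true,.eqn 0 true,.edge 3],[]⟩,
⟨0,2,3,2,false,[.edge 4,.eqn 7 false,.eqn 8 true,.eqn 13 true,.edge 4],[]⟩,
⟨0,3,3,2,false,[.edge 5,.eqn 14 false,.eqn 10 true,.edge 5],[]⟩,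
⟨416,2,4,2,false,[.edge 5,.eqn 6 false,.eqn 15 false,.eqn 6 false,.eqn 15 true,.eqn 6 true,.edge 5],[]⟩,
⟨928,1,4,2,false,[.edge 4,.eqn 16 false,.eqn 14 true,.eqn 10 false,.eqn 16 true,.edge 4],[]⟩,
⟨0,0,0,3,false,[.edge 3,.eqn 17 false,.eqn 13 false,.edge 4,.eqn 16 false,.eqn 10 true,.eqn 12 false,.edge 5],[]⟩,
⟨0,0,1,5,false,[.edge 3,.code,.eqn 17 true,.eqn 13 true,.edge 4,.code,.code],[]⟩,
⟨0,3,3,1,true,[.edge 5,.eqn 19 false],[.eqn 18 false]⟩,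
⟨0,1,3,2,false,[.edge 3,.eqn 0 false,.eqn 1 false,.edge 20],[]⟩]⟩

/-- Its last walk. -/
def m121 : List Move := [.edge 3,.eqn 21 true]

/-- A collapsing certificate. -/
def c122 : Cert := ⟨[⟨false,0,0⟩,⟨false,928,1⟩,⟨false,416,2⟩],[.edge 3,.code,.edge 4,.code,.edge 5],[
⟨0,1,3,2,false,[.edge 3,.eqn 1 false,.eqn 0 false,.eqn 1 true,.edge 3],[]⟩,
⟨0,1,3,2,false,[.edge 3,.eqn 1 false,.eqn 2 false,.eqn 1 true,.edge 3],[]⟩,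
⟨0,1,3,2,false,[.edge 3,.eqn 2 true,.eqn 1 false,.eqn 2 false,.edge 3],[]⟩,
⟨0,2,3,2,false,[.edge 4,.eqn 9 false,.eqn 8 true,.edge 4],[]⟩,
⟨0,1,3,2,false,[.edge 3,.eqn 0 false,.eqn 1 false,.eqn 0 false,.eqn 1 true,.eqn 0 true,.edge 3],[]⟩,
⟨0,2,3,2,false,[.edge 4,.eqn 11 false,.edge 4],[]⟩,
⟨0,1,3,2,false,[.edge 3,.eqn 0 false,.eqn 1 false,.eqn 2 false,.eqn 1 true,.eqn 0 true,.edge 3],[]⟩,
⟨0,2,3,2,false,[.edge 4,.eqn 7 false,.eqn 8 true,.eqn 13 true,.edge 4],[]⟩,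
⟨0,3,3,2,false,[.edge 5,.eqn 14 false,.eqn 10 true,.edge 5],[]⟩,
⟨416,2,4,2,false,[.edge 5,.eqn 6 false,.eqn 15 false,.eqn 6 false,.eqn 15 true,.eqn 6 true,.edge 5],[]⟩,
⟨928,1,4,2,false,[.edge 4,.eqn 16 false,.eqn 14 true,.eqn 10 false,.eqn 16 true,.edge 4],[]⟩,
⟨0,0,0,3,false,[.edge 3,.eqn 17 false,.eqn 13 false,.edge 4,.eqn 16 false,.eqn 10 true,.eqn 12 false,.edge 5],[]⟩,
⟨0,0,1,5,false,[.edge 3,.code,.eqn 17 true,.eqn 13 true,.edge 4,.code,.code],[]⟩,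
⟨0,3,3,1,true,[.edge 5,.eqn 19 false],[.eqn 18 false]⟩,
⟨0,1,3,2,false,[.edge 3,.eqn 0 false,.eqn 1 false,.edge 20],[]⟩]⟩

/-- Its last walk. -/
def m122 : List Move := [.edge 3,.eqn 21 true]

/-- A collapsing certificate. -/
def c123 : Cert := ⟨[⟨false,0,0⟩,⟨false,928,1⟩,⟨false,416,2⟩],[.edge 3,.code,.edge 4,.code,.edge 5],[
⟨0,1,3,2,false,[.edge 3,.eqn 1 false,.eqn 0 false,.eqn 1 true,.edge 3],[]⟩,
⟨0,1,3,2,false,[.edge 3,.eqn 1 false,.eqn 2 false,.eqn 1 true,.edge 3],[]⟩,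
⟨0,1,3,2,false,[.edge 3,.eqn 2 true,.eqn 1 false,.eqn 2 false,.edge 3],[]⟩,
⟨0,2,3,2,false,[.edge 4,.eqn 9 false,.eqn 8 true,.edge 4],[]⟩,
⟨0,1,3,2,false,[.edge 3,.eqn 0 false,.eqn 1 false,.eqn 2 false,.eqn 1 true,.eqn 0 true,.edge 3],[]⟩,
⟨0,2,3,2,false,[.edge 4,.eqn 7 false,.eqn 8 true,.eqn 11 true,.edge 4],[]⟩,
⟨0,3,3,2,false,[.edge 5,.eqn 12 false,.eqn 10 true,.edge 5],[]⟩,
⟨416,2,4,2,false,[.edge 5,.eqn 6 false,.eqn 13 false,.eqn 6 false,.eqn 13 true,.eqn 6 true,.edge 5],[]⟩,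
⟨928,1,4,2,false,[.edge 4,.eqn 14 false,.eqn 10 false,.eqn 14 false,.eqn 10 true,.eqn 14 true,.edge 4],[]⟩,
⟨0,0,0,3,false,[.edge 3,.eqn 15 false,.eqn 11 true,.edge 4,.eqn 14 false,.eqn 10 false,.edge 5],[]⟩,
⟨0,0,1,5,false,[.edge 3,.code,.eqn 15 false,.eqn 8 false,.edge 4,.code,.code],[]⟩,
⟨0,3,3,1,true,[.edge 5,.eqn 17 false],[.eqn 16 false]⟩,
⟨0,1,3,2,false,[.edge 3,.eqn 2 true,.edge 18],[]⟩]⟩

/-- Its last walk. -/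
def m123 : List Move := [.edge 3,.eqn 19 true]

/-- A collapsing certificate. -/
def c124 : Cert := ⟨[⟨false,0,0⟩,⟨false,928,1⟩,⟨false,416,2⟩],[.edge 3,.code,.edge 4,.code,.edge 5],[
⟨0,1,3,2,false,[.edge 3,.eqn 1 false,.eqn 0 false,.eqn 1 true,.edge 3],[]⟩,
⟨0,1,3,2,false,[.edge 3,.eqn 1 false,.eqn 2 false,.eqn 1 true,.edge 3],[]⟩,
⟨0,1,3,2,false,[.edge 3,.eqn 2 true,.eqn 1 false,.eqn 2 false,.edge 3],[]⟩,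
⟨0,2,3,2,false,[.edge 4,.eqn 9 false,.eqn 8 true,.edge 4],[]⟩,
⟨0,1,3,2,false,[.edge 3,.eqn 0 false,.eqn 1 false,.eqn 0 false,.eqn 1 true,.eqn 0 true,.edge 3],[]⟩,
⟨0,2,3,2,false,[.edge 4,.eqn 11 false,.edge 4],[]⟩,
⟨0,1,3,2,false,[.edge 3,.eqn 0 false,.eqn 1 false,.eqn 2 false,.eqn 1 true,.eqn 0 true,.edge 3],[]⟩,
⟨0,2,3,2,false,[.edge 4,.eqn 7 false,.eqn 8 true,.eqn 13 true,.edge 4],[]⟩,
⟨0,3,3,2,false,[.edge 5,.eqn 14 false,.eqn 10 true,.edge 5],[]⟩,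
⟨416,2,4,2,false,[.edge 5,.eqn 6 false,.eqn 15 false,.eqn 6 false,.eqn 15 true,.eqn 6 true,.edge 5],[]⟩,
⟨928,1,4,2,false,[.edge 4,.eqn 16 false,.eqn 14 false,.eqn 12 true,.eqn 16 true,.edge 4],[]⟩,
⟨0,0,0,3,false,[.edge 3,.eqn 17 false,.eqn 7 false,.eqn 8 true,.edge 4,.eqn 16 false,.eqn 10 false,.eqn 12 false,.edge 5],[]⟩,
⟨0,0,1,5,false,[.edge 3,.code,.eqn 17 false,.eqn 8 true,.edge 4,.code,.code],[]⟩,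
⟨0,3,3,1,true,[.edge 5,.eqn 19 false],[.eqn 18 false]⟩,
⟨0,1,3,2,false,[.edge 3,.eqn 1 false,.edge 20],[]⟩]⟩

/-- Its last walk. -/
def m124 : List Move := [.edge 3,.eqn 21 true]

/-- A collapsing certificate. -/
def c125 : Cert := ⟨[⟨false,0,0⟩,⟨false,928,1⟩,⟨false,416,2⟩],[.edge 3,.code,.edge 4,.code,.edge 5],[
⟨0,1,3,2,false,[.edge 3,.eqn 1 false,.eqn 0 false,.eqn 1 true,.edge 3],[]⟩,
⟨0,1,3,2,false,[.edge 3,.eqn 1 false,.eqn 2 false,.eqn 1 true,.edge 3],[]⟩,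
⟨0,1,3,2,false,[.edge 3,.eqn 2 true,.eqn 1 false,.eqn 2 false,.edge 3],[]⟩,
⟨0,2,3,2,false,[.edge 4,.eqn 9 false,.eqn 8 true,.edge 4],[]⟩,
⟨0,1,3,2,false,[.edge 3,.eqn 0 false,.eqn 1 false,.eqn 2 false,.eqn 1 true,.eqn 0 true,.edge 3],[]⟩,
⟨0,2,3,2,false,[.edge 4,.eqn 7 false,.eqn 8 true,.eqn 11 true,.edge 4],[]⟩,
⟨0,3,3,2,false,[.edge 5,.eqn 12 false,.eqn 10 true,.edge 5],[]⟩,
⟨416,2,4,2,false,[.edge 5,.eqn 6 false,.eqn 13 false,.eqn 6 false,.eqn 13 true,.eqn 6 true,.edge 5],[]⟩,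
⟨928,1,4,2,false,[.edge 4,.eqn 14 false,.eqn 10 false,.eqn 14 false,.eqn 12 true,.eqn 14 true,.edge 4],[]⟩,
⟨0,0,0,3,false,[.edge 3,.eqn 15 false,.eqn 11 true,.edge 4,.eqn 14 false,.eqn 10 true,.edge 5],[]⟩,
⟨0,0,1,5,false,[.edge 3,.code,.eqn 15 false,.eqn 8 false,.edge 4,.code,.code],[]⟩,
⟨0,3,3,1,true,[.edge 5,.eqn 17 false],[.eqn 16 false]⟩,
⟨0,1,3,2,false,[.edge 3,.eqn 2 true,.edge 18],[]⟩]⟩

/-- Its last walk. -/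
def m125 : List Move := [.edge 3,.eqn 19 true]

/-- A collapsing certificate. -/
def c126 : Cert := ⟨[⟨false,0,0⟩,⟨false,928,1⟩,⟨false,416,2⟩],[.edge 3,.code,.edge 4,.code,.edge 5],[
⟨0,1,3,2,false,[.edge 3,.eqn 1 false,.eqn 0 false,.eqn 1 true,.edge 3],[]⟩,
⟨0,1,3,2,false,[.edge 3,.eqn 1 false,.eqn 2 false,.eqn 1 true,.edge 3],[]⟩,
⟨0,1,3,2,false,[.edge 3,.eqn 2 true,.eqn 1 false,.eqn 2 false,.edge 3],[]⟩,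
⟨0,2,3,2,false,[.edge 4,.eqn 9 false,.eqn 8 true,.edge 4],[]⟩,
⟨0,1,3,2,false,[.edge 3,.eqn 0 false,.eqn 1 false,.eqn 2 false,.eqn 1 true,.eqn 0 true,.edge 3],[]⟩,
⟨0,2,3,2,false,[.edge 4,.eqn 7 false,.eqn 8 true,.eqn 11 true,.edge 4],[]⟩,
⟨0,3,3,2,false,[.edge 5,.eqn 12 false,.eqn 10 true,.edge 5],[]⟩,
⟨416,2,4,2,false,[.edge 5,.eqn 6 false,.eqn 13 false,.eqn 6 false,.eqn 13 true,.eqn 6 true,.edge 5],[]⟩,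
⟨928,1,4,2,false,[.edge 4,.eqn 14 false,.eqn 10 false,.eqn 14 false,.eqn 12 true,.eqn 14 true,.edge 4],[]⟩,
⟨0,0,0,3,false,[.edge 3,.eqn 15 false,.eqn 11 true,.edge 4,.eqn 14 false,.eqn 10 true,.edge 5],[]⟩,
⟨0,0,1,5,false,[.edge 3,.code,.eqn 15 false,.eqn 8 false,.edge 4,.code,.code],[]⟩,
⟨0,3,3,1,true,[.edge 5,.eqn 17 false],[.eqn 16 false]⟩,
⟨0,1,3,2,false,[.edge 3,.eqn 2 true,.edge 18],[]⟩]⟩

/-- Its last walk. -/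
def m126 : List Move := [.edge 3,.eqn 19 true]

/-- A collapsing certificate. -/
def c127 : Cert := ⟨[⟨false,0,0⟩,⟨false,928,1⟩,⟨false,416,2⟩],[.edge 3,.code,.edge 4,.code,.edge 5],[
⟨0,1,3,2,false,[.edge 3,.eqn 1 false,.eqn 0 false,.eqn 1 true,.edge 3],[]⟩,
⟨0,1,3,2,false,[.edge 3,.eqn 1 false,.eqn 2 false,.eqn 1 true,.edge 3],[]⟩,
⟨0,1,3,2,false,[.edge 3,.eqn 2 true,.eqn 1 false,.eqn 2 false,.edge 3],[]⟩,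
⟨0,2,3,2,false,[.edge 4,.eqn 9 false,.eqn 8 true,.edge 4],[]⟩,
⟨0,1,3,2,false,[.edge 3,.eqn 0 false,.eqn 1 false,.eqn 0 false,.eqn 1 true,.eqn 0 true,.edge 3],[]⟩,
⟨0,2,3,2,false,[.edge 4,.eqn 11 false,.edge 4],[]⟩,
⟨0,1,3,2,false,[.edge 3,.eqn 0 false,.eqn 1 false,.eqn 2 false,.eqn 1 true,.eqn 0 true,.edge 3],[]⟩,
⟨0,2,3,2,false,[.edge 4,.eqn 7 false,.eqn 8 true,.eqn 13 true,.edge 4],[]⟩,
⟨0,3,3,2,false,[.edge 5,.eqn 14 false,.eqn 10 true,.edge 5],[]⟩,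
⟨416,2,4,2,false,[.edge 5,.eqn 6 false,.eqn 15 false,.eqn 6 false,.eqn 15 true,.eqn 6 true,.edge 5],[]⟩,
⟨928,1,4,2,false,[.edge 4,.eqn 16 false,.eqn 14 false,.eqn 12 true,.eqn 16 true,.edge 4],[]⟩,
⟨0,0,0,3,false,[.edge 3,.eqn 17 false,.eqn 7 false,.eqn 8 true,.edge 4,.eqn 16 false,.eqn 10 false,.eqn 12 false,.edge 5],[]⟩,
⟨0,0,1,5,false,[.edge 3,.code,.eqn 17 false,.eqn 8 true,.edge 4,.code,.code],[]⟩,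
⟨0,3,3,1,true,[.edge 5,.eqn 19 false],[.eqn 18 false]⟩,
⟨0,1,3,2,false,[.edge 3,.eqn 1 false,.edge 20],[]⟩]⟩

/-- Its last walk. -/
def m127 : List Move := [.edge 3,.eqn 21 true]

/-- The certificates of this file. -/
def list3 : List (ℕ × Cert × List Move) := [(1407,c96,m96),(1504,c97,m97),(1508,c98,m98),(1513,c99,m99),(1517,c100,m100),(1520,c101,m101),(1524,c102,m102),(1529,c103,m103),(1533,c104,m104),(1696,c105,m105),(1698,c106,m106),(1708,c107,m107),(1710,c108,m108),(1712,c109,m109),(1714,c110,m110),(1724,c111,m111),(1726,c112,m112),(1760,c113,m113),(1766,c114,m114),(1768,c115,m115),(1774,c116,m116),(1782,c117,m117),(1784,c118,m118),(1790,c119,m119),(1888,c120,m120),(1892,c121,m121),(1898,c122,m122),(1902,c123,m123),(1904,c124,m124),(1908,c125,m125),(1914,c126,m126),(1918,c127,m127)]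

end Cfsg.Agent.J2Uniq.CData
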