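import Cfsg.Agent.Lib.J2Uniq.Cert

/-!
The four permutations of 315 points, and words for them.
-/

set_option autoImplicit false
set_option maxRecDepth 100000
set_option maxHeartbeats 4000000

namespace Cfsg.Agent.J2Uniq.CData

/-- The permutations. -/
def perms : List ℕ := [0x395511f9bb05e100963be1d207cbe2313383c865129854355d1291b1655309c265305851b99fd2d664322ade7ac90ac572acc64d166fc9d2aba95b6964fd7032969347b46608e15f2fe5f2e6ebfe26f43c9e8f1359922990862f981968d4b46a741e0eacdf90385c51ee2f6341976b764b3d00a94485428086b25cd31774c09aeed56b6e44a42d9726cb67d3ec681c6cc2108916c301290171414800d1ec958e611da69a93907164b4c48da14fe9f500180e05482aa3d1d6739e12b5098c9709b3a0f9d0381b3b9a65d1e3b144b929950a4d5509cc160c053c9e6f1361a8ca8f3f120a237090a85877231d99a3027988ea262219958ea7580910c261a954d1c884461e8241a04e24933914342308090a072169ac9c63020242cb11ca395e87558ac7e8c3822c44bd19a4862686e0608e6d1d1b84a2813990524a260d440210bb91c6bc08934322e0f905a4d1499bc364b07a9d607c3e9ec84d04ea793843009780600,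
  0x351373899cc5721b9bbee6c168ca70a1129203de5224d1e5e12b20ca022098fc763d038b25a5e4934c6e0e0b23cb1309970aa98ae80628cb0ef8a9e902c18e408bc190d3cd1aec99211b47b1e0f44c427f4a405258421c9cfc2788cfb0c4ba51a6834132a1edc038186ce057be50c7c66aa5493a72950a6705aa25ae734eb893e2d2922e1ac4158e608ae5d2d91c1317afe6a904f2f99e43401140a376db00c81004439aca01c1951ed58528544a864add972e9cc9e211173c68aae6460b0fcb852af5fa93631359c6a77364d8fa7238e0ab335a45d2d87c41a4c0a3b9bcea74661744ad03b0fc74853fa222e24251714cad0a848c26028c04e4662d964b5092b9592ad268b1cbf2d75bb5144b2619e302a89919641e5a3d24604370a5ecf7071b584a7583742830018c802345d8819092619207c180bbd4e268750743e2e10910440d9a3fe002813cc0c6355e18a42ac950ec390b8a1e240ab6fb79624019bc46200,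
  0x33a720307c8a58a073cad773074bce5a966a1fa3c996ac7030209bb60e72000af1564797b3d31188ba5433140a0850eaf41364b10985a009c1754bb02ab31a869e49f7fc75c4630b40196797bbd9a315553a1e33383ac9268132baa3701783592eed568e088226fb79ba837aa18c9368d3246f3292bb9b6e36bae172cc51935cc130444d6e36619b18b219a1051f291307c133a60ca9747a4634962b03e0b9a0ac7f4b9dea8538904a8b7c9b8debf7d43db8e15f3e0383b48cd48b0872249cafb2596969043dc155c6b3e94854424ea7a0c70092da2310522353478159fc4610601c8e30a350e5103a36a85086853198990e02988c2603ab808c772d8a4942d1e8f0a80603b68a3382cc3086eb5e93e3e48930b22c9c651a5364042a94180b8cb0944fd938280474198c8623029a261a5d2e0fd1c2813cc47c672f97836115ab218f2889011e8d34a24114c60f1da4834918381a572b3119a1d17955f9022840c9200,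
  0x45190427b3d1f338959e9defc5ac460033188b92a2768aecaef784aa63ed9209f9200d903a4432a89afdb64017bb99a9f0738c40d25a3c1d099963810cc09b3ee3c1f92385c8aa2b1e5651a7fa29f50373a2620d0583196c132421df1230ea9166cc48c941e11422ea2a086e8a2367863b6172ec6e2a1930a4032a5cfd5727a4e582ac49db085613a32a749a707e680c97931055f3143c974ecd63b314910e644d33cc0290c820d4a67c6d2f1180678b39cab7064a188d585c3c371c8b1321cb13789a1a3e36cdc2a2d1d2e14c7b5e8a4cc7d3ac059ee66fab5ead63a110a86305a38d6713214896ab381440ea2360c1108f3ba0858321db7848341e1b9853971409ae7f231688a172396586af459d830221ca94d44a65cd2433a41a84c210153a89e5c091810a38838da66818bc60ca3d0d17cc4a34d1c86e1c15bad828d96cbde65d9488e4c1604925e5226a0960c5b7f2592805021a4a0d3050093673002800601]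

/-- Their words. -/
def words : List (List ℕ) := [[4, 2, 3, 1, 4, 1, 3, 2, 4], [4, 3, 0, 3, 2, 4, 2, 3, 4, 1, 3, 4, 2, 3, 0, 4, 1, 3, 0], [4, 2, 4, 1, 4, 3, 1, 4, 3, 0, 4, 1], [1, 4, 2, 4, 3, 0, 3, 1, 4, 1, 4, 0]]

/-- Words moving the first point to each point. -/
def fromBase : List (List ℕ) := [[], [3], [2, 1, 3, 2, 3, 1, 0, 3], [0, 3], [2, 1, 0, 3, 1, 3, 1, 3], [3, 3, 2, 3, 2, 2, 3], [3, 2, 0, 3, 1, 2, 0, 3], [3, 2, 3, 2, 2, 0, 3], [3, 3, 2, 3, 2, 3], [3, 3, 2, 0, 3], [3, 3, 2, 3, 2, 2, 0, 3], [3, 2, 0, 3, 1, 2, 3], [3, 2, 3, 2, 2, 3], [3, 3, 2, 3, 2, 0, 3], [3, 3, 2, 0, 3, 1, 3], [2, 1, 3, 1, 3], [3, 1, 3, 1, 3, 3, 1, 3], [1, 0, 3, 1, 2, 3], [3, 1, 3, 2, 2, 3, 1, 0, 3], [3, 3, 2, 3, 3, 1, 3], [3, 2, 3, 1, 0, 3], [3, 2, 0, 3, 2, 3], [3, 3, 2, 3], [3, 2, 0, 3], [3, 2, 3], [2, 1, 3, 1, 0, 3], [1, 0, 3, 1,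 3, 1, 3], [1, 0, 3, 1, 2, 0, 3], [2, 3, 2, 2, 3, 2, 0, 3], [3, 2, 3, 1, 3], [3, 2, 0, 3, 2, 0, 3], [0, 3, 2, 0, 3], [1, 0, 3, 2, 3], [1, 0, 3, 2, 0, 3], [1, 3, 2, 3, 1, 3], [3, 1, 0, 3, 1, 3, 1, 3], [2, 3, 3, 1, 3, 2, 3, 1, 0, 3], [0, 3, 2, 3, 2, 0, 3, 1, 3], [1, 2, 3, 1, 3, 1, 0, 3], [1, 3, 2, 0, 3], [1, 3, 2, 3], [3, 2, 3, 2, 0, 3, 1, 3], [2, 3, 1, 3, 2, 3, 1, 0, 3], [0, 3, 1, 3, 1, 0, 3, 1, 3], [3, 3, 1, 3, 1, 3, 1, 3], [2, 0, 3, 2, 3, 2, 0, 3], [0, 3, 2, 3], [0, 3, 2, 3, 2, 3], [3, 3, 2, 3, 2, 3, 3, 1, 3], [1, 3], [0, 3, 1, 3, 1, 3, 1, 0, 3], [1, 0, 3], [0, 3, 2, 3, 2, 3, 2, 3], [1, 3, 2, 3, 1, 0, 3], [1, 3, 3, 1, 3, 1, 0, 3], [1, 3, 2, 2, 3, 1, 0, 3], [2, 0, 3, 1, 2, 3, 2, 3], [3, 2, 3, 2, 3, 2, 0, 3], [3, 1, 3, 1, 0, 3, 1, 3], [1, 3, 3, 2, 0, 3, 1, 3], [1, 3, 1, 3, 3, 1, 3], [1, 3, 1, 3, 1, 3], [3, 2,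 3, 1, 2, 3, 2, 3], [3, 3, 2, 3, 2, 3, 2, 3], [0, 3, 2, 3, 3, 2, 3], [3, 2, 2, 3], [3, 2, 2, 0, 3], [3, 2, 2, 0, 3, 2, 3], [1, 3, 2, 0, 3, 2, 0, 3], [1, 2, 3, 1, 0, 3, 1, 3], [3, 2, 0, 3, 2, 3, 2, 3], [2, 3, 2, 3, 2, 0, 3], [3, 3, 1, 3, 2, 3, 1, 3], [2, 3], [3, 1, 3, 2, 0, 3, 2, 0, 3], [0, 3, 1, 3, 1, 3, 3, 1, 3], [3, 3, 1, 3, 1, 3, 1, 0, 3], [1, 3, 3, 1, 3, 1, 3], [2, 3, 1, 3, 2, 2, 3], [1, 3, 1, 3, 2, 3, 1, 3], [2, 0, 3], [0, 3, 1, 3, 2, 2, 3, 1, 3], [1, 2, 3, 2, 3, 1, 3], [2, 0, 3, 2, 3, 2, 3], [2, 0, 3, 2, 0, 3, 1, 3], [0, 3, 2, 0, 3, 1, 3], [3, 2, 2, 3, 3, 2, 3], [3, 2, 2, 3, 2, 3], [0, 3, 2, 3, 2, 0, 3], [3, 2, 3, 1, 3, 2, 2, 3], [3, 1, 2, 3, 2, 3, 1, 3], [0, 3, 1, 3, 3, 1, 3, 1, 3], [1, 3, 2, 3, 2, 3, 3, 1, 3], [3, 2, 3, 2, 2, 3, 2, 0, 3], [2, 1, 3, 2, 3, 1, 3], [0, 3, 1, 3, 2, 3, 1, 3], [3, 1, 3, 3,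 1, 3, 1, 0, 3], [3, 1, 3, 1, 3, 1, 3], [3, 3, 2, 3, 2, 0, 3, 1, 3], [1, 3, 2, 0, 3, 2, 3], [2, 3, 1, 3, 3, 2, 0, 3], [2, 3, 1, 3, 2, 3, 1, 3], [3, 2, 3, 2, 3, 3, 1, 3], [3, 1, 3, 3, 2, 3, 2, 3], [3, 1, 3, 3, 2, 3, 3, 1, 3], [2, 3, 2, 2, 0, 3], [3, 1, 2, 3, 1, 0, 3, 1, 3], [3, 3, 1, 3, 2, 2, 3, 1, 3], [1, 3, 1, 3, 2, 3, 1, 0, 3], [3, 1, 0, 3, 1, 3, 1, 0, 3], [3, 3, 1, 2, 3, 2, 3, 1, 3], [3, 2, 3, 2, 3, 2, 3, 2, 3], [1, 3, 2, 2, 3, 1, 3], [3, 1, 3, 2, 2, 3, 1, 3], [3, 1, 2, 3, 1, 3, 1, 0, 3], [2, 0, 3, 1, 2, 3], [3, 3, 1, 3, 2, 0, 3, 2, 3], [2, 0, 3, 1, 3, 2, 3, 1, 3], [2, 3, 1, 3, 2, 2, 3, 1, 0, 3], [3, 1, 3, 2, 0, 3, 2, 3], [3, 3, 1, 2, 3, 1, 0, 3], [0, 3, 3, 2, 3, 1, 3], [3, 2, 2, 3, 3, 1, 3], [3, 2, 2, 3, 2, 2, 0, 3], [0, 3, 2, 3, 2, 2, 3], [2, 1, 3, 1, 0, 3, 1, 3], [2, 3, 1, 2, 3], [3, 2, 0, 3, 2, 0, 3,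 1, 3], [2, 1, 3, 1, 3, 2, 3], [2, 3, 2, 3, 3, 1, 3], [2, 3, 2, 0, 3, 1, 3], [2, 3, 2, 3, 2, 3], [2, 2, 3, 2, 2, 0, 3], [3, 1, 3, 2, 3, 1, 0, 3], [0, 3, 2, 3, 3, 1, 3], [1, 3, 1, 0, 3, 1, 3], [3, 2, 3, 1, 3, 2, 3, 1, 3], [2, 0, 3, 2, 3], [3, 3, 1, 3, 1, 3], [1, 0, 3, 1, 3, 1, 0, 3], [2, 3, 1, 2, 3, 2, 3], [3, 1, 0, 3, 2, 3], [1, 3, 2, 3, 2, 3, 2, 3], [2, 3, 2, 3, 2, 3, 2, 3], [2, 3, 3, 2, 3], [2, 1, 2, 3, 1, 3], [3, 1, 3, 1, 3, 1, 0, 3], [0, 3, 3, 2, 3, 3, 1, 3], [2, 3, 2, 0, 3], [0, 3, 1, 3, 2, 2, 3], [2, 0, 3, 1, 3], [1, 2, 3, 1, 3], [3, 2, 2, 3, 3, 2, 0, 3], [3, 2, 2, 3, 2, 0, 3], [3, 1, 3, 2, 0, 3], [2, 3, 2, 2, 3], [3, 2, 2, 3, 2, 2, 3], [3, 3, 1, 2, 3, 2, 3], [2, 2, 3, 2, 0, 3, 1, 3], [2, 3, 1, 2, 0, 3], [2, 0, 3, 1, 2, 0, 3], [3, 3, 2, 3, 1, 2, 3, 2, 3], [0, 3, 1, 3, 2, 3, 1, 0, 3], [3, 1, 3, 2, 3], [3,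 1, 2, 3, 2, 0, 3], [0, 3, 1, 2, 3, 2, 3, 1, 3], [3, 3, 1, 3, 2, 3, 1, 0, 3], [0, 3, 3, 2, 0, 3, 1, 3], [0, 1, 2, 3, 2, 2, 3], [2, 3, 1, 0, 3], [0, 3, 1, 3, 2, 0, 3], [1, 3, 3, 2, 3, 2, 3], [0, 3, 1, 3, 1, 3, 1, 3], [2, 0, 3, 2, 3, 1, 3], [2, 2, 0, 3, 2, 3], [1, 3, 1, 3, 1, 0, 3], [3, 2, 2, 3, 1, 0, 3], [3, 2, 3, 3, 2, 3], [2, 3, 1, 0, 3, 1, 3], [3, 1, 2, 3, 2, 3], [3, 3, 1, 2, 3, 1, 3], [2, 0, 3, 2, 0, 3], [2, 2, 3, 1, 2, 3], [0, 3, 1, 2, 3, 1, 0, 3], [1, 2, 3, 3, 2, 3], [2, 2, 3, 3, 2, 0, 3], [2, 2, 0, 3, 2, 0, 3], [1, 0, 3, 2, 3, 2, 3], [1, 3, 3, 2, 3, 3, 1, 3], [3, 2, 3, 2, 3, 2, 3], [2, 2, 3, 2, 2, 3], [2, 2, 0, 3, 1, 2, 0, 3], [2, 2, 0, 3, 1, 2, 3], [3, 1, 0, 3, 2, 0, 3], [1, 3, 2, 3, 2, 3, 2, 0, 3], [3, 1, 3, 3, 1, 3, 1, 3], [0, 3, 1, 2, 3, 2, 0, 3], [3, 2, 2, 3, 1, 2, 3], [0, 3, 1, 3, 1, 0, 3], [2, 3,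 2, 3, 1, 3], [3, 1, 2, 3, 2, 2, 3], [2, 1, 2, 3, 1, 0, 3], [3, 0, 1, 2, 3, 1, 3], [2, 2, 3, 1, 3, 2, 3], [1, 2, 0, 3, 1, 2, 3], [2, 3, 3, 2, 0, 3], [0, 1, 2, 3, 1, 3], [0, 1, 2, 3, 1, 0, 3], [3, 2, 2, 3, 1, 3], [0, 3, 2, 3, 1, 0, 3], [0, 3, 2, 0, 3, 2, 3], [2, 3, 2, 3], [2, 3, 3, 1, 3], [2, 1, 3, 1, 3, 2, 0, 3], [1, 2, 3, 1, 0, 3], [1, 2, 3, 3, 2, 0, 3], [3, 1, 2, 3, 1, 0, 3], [3, 1, 3, 3, 2, 0, 3], [3, 3, 1, 3, 2, 3], [3, 1, 3, 1, 0, 3], [3, 2, 3, 2, 3], [3, 3, 1, 3, 1, 0, 3], [3, 2, 1, 3, 2, 3, 1, 3], [0, 3, 1, 2, 3, 1, 3], [1, 3, 2, 3, 2, 3], [1, 3, 2, 0, 3, 1, 3], [0, 3, 1, 2, 3, 2, 3], [0, 3, 2, 3, 1, 3], [1, 2, 3, 2, 3, 2, 3], [1, 2, 3, 2, 3], [1, 2, 3, 2, 0, 3], [2, 3, 1, 3], [3, 3, 1, 3, 2, 2, 3], [3, 1, 2, 0, 3, 1, 3], [3, 3, 1, 3, 1, 0, 3, 1, 3], [3, 1, 3, 2, 3, 1, 3], [3, 2, 3, 3, 1, 3], [3, 3, 2,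 2, 3, 1, 2, 3], [3, 1, 0, 3, 1, 3], [2, 2, 3, 1, 0, 3], [2, 2, 3, 1, 3], [3, 2, 3, 1, 2, 0, 3], [2, 3, 2, 3, 1, 2, 3], [3, 3, 2, 3, 1, 3], [1, 3, 2, 2, 0, 3], [2, 3, 1, 3, 1, 0, 3], [3, 1, 3, 1, 3], [3, 1, 3, 3, 1, 3], [2, 3, 1, 3, 2, 0, 3], [2, 3, 1, 3, 2, 3], [2, 2, 3, 1, 2, 0, 3], [2, 2, 3, 3, 2, 3], [3, 1, 3, 3, 2, 3], [1, 3, 1, 0, 3, 2, 3], [3, 2, 1, 3, 1, 3], [0, 3, 1, 3, 1, 3], [3, 1, 2, 0, 3], [3, 2, 3, 1, 2, 3], [0, 3, 0, 1, 2, 3, 1, 3], [3, 1, 3, 2, 2, 0, 3], [1, 3, 1, 0, 3, 2, 0, 3], [2, 3, 3, 1, 3, 1, 3], [3, 1, 0, 3, 1, 2, 3], [3, 1, 0, 3], [2, 2, 3, 2, 0, 3], [3, 1, 3, 2, 2, 3], [1, 3, 1, 3, 2, 3], [3, 1, 2, 3, 1, 3], [2, 2, 3, 1, 3, 2, 2, 3], [3, 3, 1, 0, 3, 2, 3], [3, 2, 1, 2, 3, 1, 3], [3, 2, 0, 3, 1, 3], [0, 3, 2, 2, 3, 2, 3], [3, 3, 2, 3, 3, 2, 0, 3], [1, 0, 3, 1, 3], [2, 0, 3, 1, 3, 1, 0,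 3], [3, 1, 2, 3, 3, 1, 3], [1, 3, 1, 0, 3], [1, 0, 3, 1, 3, 2, 3], [1, 2, 3, 2, 2, 0, 3], [1, 2, 3], [0, 3, 2, 1, 3, 1, 3], [1, 2, 0, 3, 1, 3], [0, 3, 1, 3, 2, 3], [3, 2, 3, 2, 0, 3], [2, 3, 2, 1, 3, 1, 3], [3, 3, 2, 3, 1, 2, 3], [2, 2, 3], [1, 3, 3, 2, 0, 3], [0, 3, 1, 2, 3], [3, 3, 2, 3, 1, 0, 3], [1, 3, 2, 2, 3], [1, 3, 3, 1, 3], [2, 2, 3, 2, 3], [3, 2, 1, 3, 1, 0, 3], [1, 3, 1, 3, 2, 0, 3], [3, 3, 1, 3, 2, 0, 3], [3, 1, 0, 3, 1, 2, 0, 3], [3, 1, 2, 3], [3, 3, 1, 3], [0, 3, 1, 3], [1, 2, 0, 3], [3, 2, 3, 3, 2, 0, 3], [2, 0, 3, 1, 3, 2, 3], [1, 3, 3, 2, 3], [3, 3, 2, 2, 3, 1, 0, 3], [2, 2, 3, 3, 1, 3], [3, 1, 3], [0, 3, 1, 2, 0, 3], [2, 2, 0, 3, 1, 3], [2, 3, 1, 2, 3, 1, 0, 3], [1, 3, 1, 3], [2, 2, 0, 3], [1, 2, 3, 2, 2, 3], [1, 2, 3, 3, 1, 3]]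

/-- Words moving each point to the first one. -/
def toBase : List (List ℕ) := [[], [3, 0], [3, 2, 3, 2, 2, 3], [3], [3, 0, 2, 3, 2, 2, 3], [3, 0, 2, 3, 3, 2, 2, 3], [3, 2, 3, 1, 3, 1, 2], [3, 2, 3, 3, 2, 3, 1], [3, 1, 3, 0, 2, 1, 2, 3], [3, 2, 2, 3], [3, 2, 3, 3, 2, 2, 3], [3, 0, 2, 3, 2, 2, 3, 3], [3, 2, 3, 3, 2, 3, 0, 1], [3, 1, 3, 3, 2, 1, 2, 3], [3, 1, 3, 2, 2, 3], [3, 0, 2, 3, 0, 1], [3, 1, 3, 1, 3, 1, 3, 0], [3, 0, 2, 3, 1], [3, 0, 1, 3, 2, 3, 1, 3, 0], [3, 0, 1, 3, 2, 2, 3], [3, 1, 3, 1, 3, 2], [3, 1, 3, 0, 1, 3, 2], [3, 0, 2, 2, 3], [3, 2, 2, 3, 3], [3, 0, 2, 2, 3, 3], [3, 2, 3, 0, 1], [3, 0, 1, 3, 1, 3, 1], [3, 2, 3, 1], [3, 2, 2, 3, 3, 1, 3, 2], [3, 0, 1, 3, 2, 3, 0, 2], [3, 1, 3, 2, 3, 3, 0, 3], [3, 2, 2, 1, 3], [3, 0, 2, 3, 1, 2], [3, 2, 3, 1, 2], [3, 0, 2, 3, 1, 3, 2, 2], [3, 0, 1, 3, 1, 3, 1,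 3, 3], [3, 2, 2, 3, 3, 1, 3, 2, 3], [3, 1, 3, 0, 2, 3, 0, 2, 3], [3, 1, 3, 3, 2, 3, 2], [3, 2, 2, 3, 3, 1], [3, 0, 2, 2, 3, 3, 1], [3, 1, 3, 3, 2, 3, 2, 3, 2], [3, 1, 3, 2, 2, 3, 1, 3, 3], [3, 0, 1, 3, 1, 3, 1, 3], [3, 0, 1, 3, 1, 3, 0, 1, 3], [3, 0, 2, 3, 1, 2, 3, 2], [3, 0, 2, 2, 1, 3], [3, 2, 3, 0, 1, 3, 1], [3, 1, 3, 2, 3, 0, 1, 3], [3, 0, 1], [3, 1, 3, 1, 3, 1, 0, 3], [3, 1], [3, 0, 2, 3, 2, 3, 0, 2, 3], [3, 1, 3, 1, 3, 2, 1], [3, 1, 3, 1, 3, 1, 0], [3, 1, 3, 0, 2, 3, 0, 2], [3, 0, 2, 3, 2, 3, 0, 2], [3, 1, 3, 2, 3, 1, 0, 3, 1], [3, 0, 1, 3, 1, 3, 1, 3, 0], [3, 1, 3, 2, 2, 3, 1], [3, 0, 1, 3, 1, 3, 3, 1], [3, 0, 1, 3, 1, 3, 0, 1], [3, 0, 2, 3, 2, 3, 2, 3, 3], [3, 0, 1, 3, 2, 3, 0, 1, 3, 1], [3, 0, 1, 3, 2, 2, 1, 3], [3, 0, 2, 3, 3], [3, 2, 3, 3], [3, 0, 2, 3, 2, 1, 3, 3], [3, 0, 2, 3, 0, 1, 3, 2, 2], [3,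 1, 3, 2, 3, 1], [3, 1, 3, 0, 2, 3, 2, 3, 0], [3, 1, 3, 1, 3, 2, 2, 1], [3, 0, 2, 3, 1, 3, 2, 2, 3], [3, 0, 2, 2], [3, 0, 1, 3, 2, 3, 1, 3, 1, 3], [3, 1, 3, 1, 3, 1, 3], [3, 1, 3, 1, 3, 0, 1, 3], [3, 1, 3, 0, 1, 3, 1], [3, 1, 3, 2, 3, 1, 0], [3, 1, 3, 1, 3, 2, 2, 1, 3], [3, 2, 2], [3, 1, 3, 2, 3, 1, 3], [3, 0, 1, 3, 2, 3, 0, 1], [3, 1, 3, 1, 3, 0, 2, 1], [3, 1, 3, 1, 3, 3, 2, 1], [3, 2, 3, 1, 3, 1], [3, 0, 1, 3, 2, 1, 3, 3], [3, 1, 3, 0, 2, 1, 3, 3], [3, 2, 3, 1, 3, 0, 1], [3, 1, 3, 1, 3, 2, 1, 3, 0], [3, 0, 1, 3, 2, 3, 0, 1, 3, 3], [3, 0, 1, 3, 1, 3, 3, 1, 3], [3, 1, 3, 2, 3, 1, 0, 3, 0], [3, 0, 2, 3, 1, 2, 3, 2, 3, 0], [3, 0, 2, 3, 1, 3, 2], [3, 1, 3, 2, 2, 3, 1, 3], [3, 1, 3, 1, 3, 1, 0, 3, 3], [3, 1, 3, 0, 1, 3, 1, 3, 0], [3, 0, 1, 3, 2, 3, 2, 1, 3], [3, 1, 3, 0, 1, 3, 2, 1], [3, 0, 1, 3, 2, 3, 1], [3, 1,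 3, 1, 3, 0, 1, 3, 2], [3, 1, 3, 2, 3, 0, 1, 3, 3], [3, 1, 3, 1, 3, 2, 1, 3, 2], [3, 1, 3, 2, 3, 0, 1, 3, 0], [3, 2, 3, 3, 2, 2], [3, 1, 3, 2, 3, 1, 3, 3], [3, 1, 3, 0, 2, 3, 2, 3], [3, 1, 3, 2, 2, 3, 1, 0, 3], [3, 1, 3, 1, 3, 1, 3, 3], [3, 0, 1, 3, 2, 3, 0, 1, 3], [3, 0, 1, 3, 2, 3, 1, 3], [3, 1, 3, 0, 2, 3, 2], [3, 1, 3, 2, 3, 1, 3, 0], [3, 1, 3, 3, 2, 3, 2, 3, 3], [3, 0, 2, 3, 2, 2], [3, 1, 3, 0, 1, 3, 2, 1, 3], [3, 1, 3, 1, 3, 3, 2, 1, 3], [3, 0, 1, 3, 2, 3, 1, 3, 1], [3, 0, 1, 3, 1, 3, 1, 3, 2], [3, 1, 3, 3, 2, 2, 1, 3], [3, 2, 3, 0, 2, 3, 3], [3, 0, 1, 3, 2, 3, 3], [3, 2, 3, 3, 2, 3, 3], [3, 1, 3, 2, 2, 1, 0, 3], [3, 1, 3, 2, 1, 2, 3, 2], [3, 0, 2, 3, 0, 2, 2], [3, 0, 2, 3, 2, 3, 2, 3, 0], [3, 1, 3, 2, 1, 3, 0], [3, 1, 3, 2, 3, 0, 1], [3, 0, 1, 3, 2, 3, 2, 1], [3, 0, 2, 3, 0, 2, 3, 2, 1], [3, 2, 3, 3,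 2], [3, 1, 3, 1, 3, 2, 1, 3, 3], [3, 1, 3, 2, 3, 0, 3, 3], [3, 1, 3, 1, 3, 3, 1], [3, 0, 2, 3, 1, 2, 3, 2, 3], [3, 0, 2, 3, 2, 1, 2], [3, 1, 3, 0, 1, 3], [3, 1, 3, 1, 3, 1], [3, 0, 2, 3, 2, 3, 2], [3, 0, 2, 3, 1, 2, 3, 3], [3, 1, 3, 3, 2, 3, 2, 3], [3, 1, 3, 1, 3, 1, 3, 2], [3, 0, 1, 3, 2, 1, 2], [3, 0, 2, 3, 0, 2, 2, 1], [3, 1, 3, 1, 3, 0, 1, 3, 3], [3, 2, 3, 2, 3, 3], [3, 1, 3, 3, 2, 1, 2], [3, 2, 3, 1, 3], [3, 1, 3, 2, 2], [3, 1, 3, 0, 2, 2, 1], [3, 1, 3, 2, 1, 3, 3], [3, 1, 3, 3, 2, 1, 3, 3], [3, 0, 2, 2, 3, 1, 3, 0], [3, 0, 2, 3, 3, 2, 2], [3, 0, 2, 3, 0, 1, 3, 2], [3, 0, 2, 3, 1, 3, 1, 2], [3, 0, 2, 3, 3, 2, 3, 1], [3, 2, 3, 0, 2, 2], [3, 2, 3, 2, 2], [3, 0, 2, 3, 2, 3, 2, 3], [3, 2, 3, 1, 3, 3, 2, 3], [3, 1, 3, 0, 2, 3, 1], [3, 1, 3, 1, 3, 1, 2], [3, 1, 3, 1, 3, 0, 2, 1, 3], [3, 1, 3, 1, 3, 2, 1, 3],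 [3, 0, 2, 3, 2, 3, 3], [3, 2, 3, 2, 2, 1], [3, 1, 3, 3, 2, 2], [3, 0, 2, 2, 3, 1, 3], [3, 1, 3, 2, 2, 3, 1, 0], [3, 1, 3, 0, 1, 3, 1, 3], [3, 0, 1, 3, 2, 3], [3, 0, 2, 3, 2, 1], [3, 1, 3, 1, 3, 0, 1], [3, 1, 3, 3, 2, 3, 3], [3, 0, 1, 3, 2, 1, 2, 3, 3], [3, 1, 3, 2, 3], [3, 0, 2, 3, 2, 3, 2, 2], [3, 0, 1, 3, 2, 3, 3, 2], [3, 2, 3, 2, 1, 2], [3, 0, 2, 3, 0, 2], [3, 0, 2, 3, 3, 2, 3], [3, 1, 3, 2, 3, 0, 3], [3, 1, 3, 2, 1], [3, 2, 3, 2, 1], [3, 2, 3, 0, 1, 3], [3, 2, 3, 1, 3, 3, 2], [3, 1, 3, 1, 3, 1, 3, 2, 2], [3, 0, 2, 3, 3, 2], [3, 2, 3, 2], [3, 0, 2, 3, 2], [3, 0, 2, 3, 2, 3, 1], [3, 1, 3, 2, 3, 1, 0, 3], [3, 0, 1, 3, 1, 3, 1, 3, 1], [3, 1, 3, 3, 2, 1, 3], [3, 0, 2, 3, 0, 2, 3, 3], [3, 1, 3, 1, 3], [3, 0, 1, 3, 2, 3, 0], [3, 0, 1, 3, 2, 2, 3, 2], [3, 2, 3, 0, 2, 2, 1], [3, 0, 1, 3, 2, 1, 3, 0], [3, 0, 2, 3,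 2, 1, 3], [3, 0, 2, 3, 2, 2, 1], [3, 1, 3, 2, 1, 2], [3, 0, 2, 3, 2, 1, 2, 1], [3, 2, 3, 2, 1, 2, 1], [3, 1, 3, 0, 2, 3, 3], [3, 1, 3, 1, 3, 0, 2], [3, 1, 3, 1, 3, 3, 2], [3, 1, 3, 0, 2, 1, 2], [3, 0, 1, 3, 2, 2], [3, 1, 3, 2, 1, 3], [3, 1, 3, 3, 2, 2, 1], [3, 1, 3, 2, 1, 2, 1], [3, 2, 3, 3, 1, 3, 2], [3, 2, 2, 3, 1, 3, 3], [3, 1, 3, 2, 3, 3, 1], [3, 1, 3, 1, 3, 0], [3, 0, 2, 3, 1, 3, 1], [3, 1, 3, 3, 1, 3], [3, 2, 3, 2, 1, 3], [3, 2, 3, 3, 2, 3], [3, 0, 2, 3, 1, 3], [3, 0, 2, 3, 0, 1, 3], [3, 1, 3, 0, 2, 1, 3], [3, 0, 1, 3, 2, 3, 2], [3, 0, 2, 3, 0, 2, 3, 2], [3, 0, 1, 3, 2, 2, 1, 0], [3, 1, 3, 2, 2, 1, 0], [3, 1, 3, 0, 2, 2], [3, 0, 2, 3, 3, 1, 3], [3, 2, 2, 3, 1, 3, 2], [3, 1, 3, 1, 3, 3, 1, 3], [3, 1, 3, 2, 2, 3, 1, 3, 0], [3, 0, 1, 3, 2, 2, 3, 3], [3, 0, 2, 3, 0, 2, 3], [3, 1, 3, 1, 3, 3], [3, 1, 3, 3,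 2], [3, 1, 3, 0, 2], [3, 2, 3, 2, 2, 3, 1], [3, 2, 3, 1, 3, 3, 1], [3, 1, 3, 0, 2, 2, 3], [3, 2, 3, 3, 1], [3, 2, 3, 0, 2, 3], [3, 0, 1, 3, 1, 3, 0], [3, 0, 1, 3, 1, 3, 3], [3, 1, 3, 2, 2, 1, 3], [3, 1, 3, 2, 3, 3], [3, 2, 3, 0, 2], [3, 0, 1, 3, 2, 1], [3, 0, 2, 2, 3, 1, 3, 3], [3, 0, 2, 3, 2, 3, 0], [3, 2, 3, 1, 2, 3, 0], [3, 0, 1, 3, 1, 3], [3, 2, 3, 0], [3, 0, 2, 3, 1, 3, 2, 1], [3, 0, 1, 3, 2, 1, 3], [3, 0, 2, 3, 1, 3, 0], [3, 0, 2, 3, 2, 3], [3, 1, 3, 2, 3, 0], [3, 0, 2, 3, 1, 3, 3], [3, 1, 3, 3], [3, 1, 3, 3, 2, 1], [3, 2, 3, 1, 3, 0], [3, 1, 3, 0, 2, 3], [3, 2, 3, 3, 2, 3, 0], [3, 2, 3, 2, 3, 0], [3, 0, 2, 3, 1, 2, 3], [3, 1, 3, 3, 2, 3, 0], [3, 1, 3, 2, 2, 3, 3], [3, 2, 3, 0, 2, 2, 3], [3, 1, 3, 2, 1, 2, 3], [3, 1, 3, 1], [3, 1, 3, 1, 3, 2, 2], [3, 2, 3, 2, 1, 3, 0], [3, 1, 3, 3, 1], [3, 2, 3, 2, 3],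 [3, 2, 3, 3, 2, 2, 1], [3, 0, 2, 2, 1], [3, 2, 3, 1, 2, 3], [3, 1, 3, 2, 2, 1], [3, 2, 2, 3, 1, 3], [3, 0, 2, 3, 1, 3, 0, 1], [3, 0, 1, 3, 2, 1, 2, 3], [3, 0, 2, 3, 0, 2, 2, 3], [3, 0, 2], [3, 2, 2, 3, 1], [3, 0, 2, 3], [3, 1, 3, 3, 2, 2, 3], [3, 0, 2, 3, 3, 1], [3, 0, 1, 3, 1], [3, 1, 3, 0, 2, 1], [3, 2, 3, 0, 1, 3, 3], [3, 1, 3, 0, 2, 3, 0], [3, 2, 2, 3, 3, 1, 3], [3, 2, 3, 1, 3, 3], [3, 0, 2, 3, 0], [3, 0, 1, 3], [3, 1, 3], [3, 2, 2, 1], [3, 1, 3, 0, 2, 2, 3, 2], [3, 1, 3, 2, 3, 3, 0], [3, 0, 2, 2, 3, 1], [3, 1, 3, 3, 2, 3], [3, 0, 1, 3, 2], [3, 1, 3, 0], [3, 2, 3], [3, 1, 3, 2], [3, 2, 3, 3, 1, 3], [3, 1, 3, 0, 1], [3, 2], [3, 2, 3, 2, 2, 1, 0], [3, 0, 1, 3, 2, 2, 1]]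

/-- Chains of images of the pairs of the first point and another one. -/
def chains : List (List (List ℕ × Bool)) := [
[([],false)],
[([2, 1, 2, 1, 0],false),([3, 1, 0],true)],
[([0],false)],
[([1, 2, 0],false),([2, 3, 1, 3],true),([1, 3, 1, 0],true),([1, 3, 0, 1],false),([3, 0, 1, 0],true)],
[([2, 2, 1, 0],false),([3, 2],true)],
[([1, 0, 1, 2],false),([0, 1, 2, 3],true),([1, 2, 3, 3],false),([3, 1],true)],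
[([2, 0, 1, 0],false),([3, 0, 1, 2],true)],
[([2, 1, 0],false),([3, 0],true)],
[([3, 0, 3, 0],false),([0, 3, 3],true)],
[([0],false),([3, 2, 3],true),([3, 2, 3, 0],false),([2, 3],true),([2, 3, 0],false),([3, 0],true)],
[([0, 1, 2, 0],false),([3, 0, 1, 3],true),([3, 1, 3],false),([3, 3, 1],true),([0, 3],false),([0, 1, 3, 1],true),([1, 3],false),([3, 1],true)],
[([1, 0],false),([3, 2, 3, 0],true),([2, 3, 3, 2],true),([2, 3, 3],false),([3, 0, 1, 0],true)],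
[([1, 2, 1, 0],false),([3, 3, 2, 1],true),([0, 3, 2, 1],false),([3, 2, 1],true)],
[([2, 0, 1, 0],false),([3, 0],true)],
[([0, 1],false),([3, 1, 2],true)],
[([1],false),([3, 0, 1, 3],true),([3, 1, 3, 1],false),([1, 3, 1, 3],false),([1, 3, 3],true),([1, 0, 3],false),([3, 0, 1, 0],true)],
[([1, 2, 2],false),([3, 0, 1],true)],
[([2, 2, 0],false),([3, 2, 3],true),([3, 2, 3, 0],false),([1, 3, 1],true),([0, 1, 3],false),([3, 2, 0],true)],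
[([2, 0, 1, 0],false),([3, 3, 2, 0],true),([3, 3, 0, 1],false),([1, 3, 1],true),([2, 1, 3, 0],false),([3, 2],true)],
[([2, 2, 1, 0],false),([3, 2, 2],true)],
[([2, 1, 0],false),([3, 1, 3, 0],true),([1, 3, 2],true),([1, 3, 1],false),([3, 1],true)],
[([0],false),([3, 2, 3],true),([3, 3],true),([3, 3, 0],false),([2, 2, 3],false)],
[([2, 1, 2, 0],false),([1, 2, 3],true),([2, 0, 3, 0],true),([1, 3, 0],true),([0, 1, 3, 0],false),([0, 3, 3],true)],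
[([2, 1, 2, 0],false),([1, 2, 3],true),([3, 0],true)],
[([0, 1],false),([3, 1, 2],true)],
[([1, 0],false),([3, 0, 1],true)],
[([1, 2, 2],false),([3, 0, 1],true)],
[([2, 2],false),([3, 2, 3, 1],true),([3, 2, 3, 0],false),([3, 3, 0],true),([0, 3, 2],false),([3, 2],true)],
[([2, 1, 2, 0],false),([1, 2, 3],true),([1, 2, 3, 0],false),([3, 2, 2],true)],
[([1, 2],false),([2, 3, 2],true),([2, 3, 0],false),([3, 0],true)],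
[([1, 2, 1],false),([0, 3, 3],true)],
[([0, 1, 2],false),([3, 3, 1],true),([0, 3, 1],false),([3, 1, 0],true)],
[([0, 1, 2],false),([3, 3, 1],true),([0, 3, 1],false),([3, 1, 0],true)],
[([0, 1, 0, 1],false),([2, 3, 2, 1],true),([2, 3, 2],false),([3, 2],true)],
[([1, 0, 1, 0],false),([3, 1, 3],true),([3, 1, 3, 1],false),([1, 3, 1, 0],true),([0, 1, 3],false),([3, 0, 1, 0],true)],
[([0, 1, 2, 2],false),([3, 2, 3, 0],true),([3, 2, 3, 1],false),([0, 3, 0, 1],true),([0, 3, 0],false),([2, 1, 3, 0],true),([0, 1, 3, 2],false),([3, 1],true)],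
[([],false),([3, 1, 3, 0],true),([3, 1, 3],false),([2, 3, 2, 0],true),([2, 3, 0],false),([3, 0],true)],
[([1, 2, 2],false),([3, 0, 1],true)],
[([3, 0, 3],false),([0, 1, 3, 1],true),([1, 3, 0, 1],false),([2, 3, 3],false),([3, 2, 2, 1],true)],
[([3, 0, 3],false),([0, 1, 3, 1],true),([1, 3, 0, 1],false),([2, 3, 0, 1],false),([3, 0, 1],true)],
[([0],false),([3, 1, 3],true),([3, 1, 3, 0],false),([2, 3, 2],true),([2, 3],false),([3],true)],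
[([1],false),([3, 1, 3, 2, 0],true),([3, 1, 3],false),([0, 3, 1, 2, 0],true),([0, 3],false),([1, 3, 2, 0],true),([0, 1, 3, 2, 0],false),([3],true)],
[([],false),([3, 1, 3, 0],true),([3, 1, 3, 2],false),([3, 3, 1, 2],true),([3, 3],false),([1, 3, 0],true),([1, 3, 2],false),([3, 1, 2],true)],
[([],false),([3, 1, 3, 3],true),([3, 1, 0, 3],false),([1, 3, 0, 1],true),([1, 3, 0],false),([3, 1],true)],
[([2, 2],false),([3, 1],true)],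
[([1, 2, 1],false),([0, 3, 3],true)],
[([1, 2, 1],false),([0, 3, 3],true)],
[([1],false),([3, 1, 3, 3],true),([3, 1, 0, 3, 0],false),([3, 3, 2, 1, 0],true),([3, 3],false),([1, 3, 3, 1],true),([1, 0, 3, 0],false),([3, 2, 1, 0],true)],
[([1],false)],
[([],false),([3, 1, 3, 3],true),([3, 1, 0, 3, 0],false),([3, 0, 3, 3],true),([3, 3],false),([1, 3, 3],true),([1, 0, 3, 0],false),([0, 3, 3],true)],
[([0, 1],false)],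
[([0, 1, 2, 1, 0],false),([3, 2, 3, 0],true),([3, 2, 3],false),([1, 3, 3, 0],true),([1, 0, 3, 0],false),([0, 3, 3],true)],
[([1, 2, 0, 1],false),([2, 3, 1, 2],true),([2, 3, 2, 0],false),([3, 2, 0],true)],
[([0, 1, 0],false),([3, 3, 1],true),([0, 3, 1],false),([3, 1],true)],
[([2, 0],false),([3, 1, 0],true)],
[([2, 0],false),([3, 1],true)],
[([1, 0, 1, 0],false),([3, 1, 3],true),([3, 0, 1, 3],false),([0, 3, 2, 1],true),([3, 3, 1],false),([2, 3],true),([2, 3, 0, 1],false),([3, 2, 0, 1],true)],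
[([0],false),([3, 1, 3],true),([3, 1, 3, 1],false),([0, 3, 0, 1],true),([0, 3],false),([1, 0, 3],true),([1, 3, 3, 0],false),([3],true)],
[([1, 2, 0],false),([3, 2, 1, 0],true)],
[([3, 0, 3],false),([1, 3, 1, 0],true),([1, 3, 2],false),([3, 1, 2],true)],
[([3, 0, 3],false),([1, 3, 1],true),([1, 3],false),([3],true)],
[([0, 1],false),([3, 1, 3, 1],true),([3, 2, 1, 3],false),([3, 3, 2, 0],true),([3, 3, 2],false),([1, 3, 3, 2],true),([1, 0, 3],false),([3, 1, 0, 1],true)],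
[([1, 0],false),([3, 2, 3, 0],true),([3, 2, 3, 2],false),([0, 3, 2, 0],true),([0, 3, 0, 1],false),([1, 3, 0],true),([0, 1, 3, 0],false),([3, 0, 1],true)],
[([1, 2, 1, 0],false),([3, 1, 3],true),([3, 1, 3, 0],false),([0, 3, 1],true),([3, 3],false),([2, 3, 3],true),([2, 0, 3],false),([3, 1, 0, 1],true)],
[([2, 2, 1],false),([1, 0, 3],true),([1, 3, 3],false),([2, 2, 3, 0],false)],
[([2, 2, 1],false),([1, 0, 3],true),([1, 3, 3],false),([3, 3],true),([2, 3, 3],true),([3, 0],true)],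
[([2, 1, 0, 1],false),([3, 1, 2, 1],true)],
[([2, 2, 1, 2],false),([3, 2, 2, 0],true)],
[([2, 1],false),([3, 2, 0],true)],
[([2, 0, 1, 0],false),([3, 1, 3],true),([3, 1, 3, 0],false),([2, 3, 0],true),([2, 3],false),([3, 2, 1, 0],true)],
[([2, 2, 0],false),([3, 1, 0],true)],
[([2, 2, 1],false),([2, 3, 1, 3, 0],true),([3, 3, 1, 3],true),([3, 3, 1, 3, 0],false),([3, 2, 1],true)],
[([2, 2],false)],
[([0, 1, 2, 1],false),([3, 2, 3],true),([3, 2, 3, 1, 0],false),([0, 3, 0, 1, 0],true),([0, 3],false),([2, 1, 3],true),([0, 1, 3, 1],false),([3, 1, 0],true)],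
[([1, 2, 2, 1],false),([3, 2, 3, 2],true),([3, 2, 3, 0],false),([3, 3, 0],true),([0, 3, 0],false),([2, 0, 3, 0],true),([2, 3, 3],false),([3, 2, 2, 1],true)],
[([1, 0, 1],false),([3, 1, 3, 0],true),([3, 1, 3],false),([1, 0, 3, 1],true),([1, 3, 3],false),([0, 3, 3, 1],true)],
[([0, 1, 0],false),([3, 3, 1],true),([0, 3, 1],false),([3, 1],true)],
[([2, 1, 0],false),([3, 2],true)],
[([2, 0, 1],false),([3, 2, 3, 1, 0],true),([3, 2, 3, 1],false),([3, 3, 1],true),([3, 3],false),([1, 3, 2],true),([0, 1, 3, 0],false),([3, 1, 0, 1, 0],true)],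
[([2, 2, 0],false)],
[([1, 0],false),([3, 2, 1, 3, 0],true),([3, 0, 1, 3, 0],false),([3, 2, 3, 3],true),([3, 2, 0, 3],false),([2, 1, 3],true),([0, 1, 3, 0],false),([3, 2, 1, 0],true)],
[([2, 2],false),([3, 1, 0],true)],
[([1, 2, 2, 1],false),([3, 1, 3, 0],true),([3, 1, 3],false),([3, 3],true),([0, 3, 1, 0],false),([3, 2, 2],true)],
[([2],false),([3, 1, 3, 1],true),([3, 1, 3, 0],false),([0, 3],true),([0, 3, 1, 0],false),([2, 3, 2, 0],true),([2, 3, 1],false),([3, 1],true)],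
[([2, 1, 2, 0],false),([0, 3, 3],true)],
[([1, 0],false),([3, 2, 3, 0],true),([3, 2, 3, 2],false),([2, 1, 0, 3],true),([1, 3, 3, 2],false),([3, 3, 2],true),([0, 3],false),([0, 1, 3],true),([1, 3],false),([3],true)],
[([3, 0, 3, 2],false),([2, 1, 3],true),([1, 3, 2],false),([3, 2],true)],
[([],false),([3, 1, 2],true)],
[([2, 2],false),([3, 1, 3],true),([3, 1, 3, 1],false),([0, 3, 0, 1],true),([3, 3, 0],false),([1, 2, 3],true),([1, 2, 3, 1],false),([3],true)],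
[([2, 2, 1],false),([3, 1, 3, 1],true),([3, 1, 3],false),([0, 3, 0],true),([0, 3, 1, 0],false),([1, 3, 2],true),([1, 3, 1, 0],false),([3, 2, 1],true)],
[([],false),([3, 1, 3, 0],true),([3, 1, 3],false),([1, 3, 1, 0],true),([0, 1, 3, 0],false),([0, 3, 3],true)],
[([2, 1, 0],false),([3, 0, 1, 3],true),([3, 1, 3],false),([3, 3, 1],true),([0, 3],false),([0, 1, 3, 1],true),([1, 3],false),([3, 1],true)],
[([1, 2, 1, 0],false),([3, 1, 3],true),([3, 1, 3, 0],false),([2, 2, 3, 0],true),([2, 2, 3],false),([1, 3, 3, 0],true),([1, 0, 3],false),([2, 3],true),([2, 3, 1, 0],false),([3, 1, 0],true)],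
[([2, 1, 2, 1],false),([3, 1],true)],
[([2, 1, 2, 0],false),([3, 1, 0, 3, 0],true),([3, 1, 3, 3],false),([3, 3, 0],true),([3, 3],false),([1, 3, 0],true),([0, 1, 3, 0],false),([0, 3, 3],true)],
[([0, 1, 0],false),([3, 0, 1, 3],true),([3, 1, 3, 0],false),([1, 0, 3, 3],true),([1, 3],false),([3],true)],
[([1, 0, 1, 0],false),([3, 1, 3],true),([3, 0, 1, 3],false),([0, 3, 0, 1, 0],true),([3, 0, 3, 3],false),([1, 3],true),([0, 1, 3],false),([1, 0, 1, 3],true)],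
[([2, 2, 0, 1],false),([3, 2, 3, 1],true),([3, 2, 3, 0],false),([3, 3, 0],true),([3, 3],false),([1, 2, 3, 1],true),([1, 2, 3, 0],false),([3, 1, 0],true)],
[([2, 2, 1, 0],false),([3, 1, 2, 2],true)],
[([2, 2, 1],false),([3, 2],true)],
[([1, 2, 1, 2],false),([3, 1, 0, 3],true),([3, 1, 3, 3],false),([2, 2, 3, 3],true),([2, 2, 0, 3],false),([1, 3, 3, 2],true),([1, 3, 3, 1],false),([3, 2, 2, 1],true)],
[([0, 1, 0, 1],false),([3, 0, 1, 3],true),([3, 1, 3],false),([3, 3, 1],true),([0, 3],false),([2, 0, 3],true),([2, 3, 3, 0],false),([1, 0, 1, 3],true)],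
[([2],false),([3, 1, 3],true),([3, 0, 1, 3],false),([0, 3, 0, 1],true),([0, 3],false),([1, 0, 3],true),([1, 3, 3, 0],false),([3, 2, 0],true)],
[([2, 0, 1],false),([3, 2, 2, 3],true),([3, 2, 2, 3, 0],false),([1, 3, 3],true),([1, 0, 3],false),([3, 2, 1],true)],
[([2, 0, 1, 2],false),([3, 2, 2],true)],
[([0, 1, 0, 1],false),([3, 0, 1, 3],true),([3, 1, 3, 1],false),([2, 2, 3, 1],true),([2, 2, 3],false),([3],true)],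
[([2, 0, 1],false),([3, 1, 3, 0],true),([3, 1, 3],false),([2, 3],true),([2, 3, 0],false),([3, 2, 1],true)],
[([2, 1, 2],false),([3, 1, 3, 1],true),([3, 1, 3, 0],false),([3, 3, 0],true),([3, 3],false),([2, 2, 3, 1],true),([2, 2, 3, 0],false),([3, 2, 2, 0],true)],
[([0, 1],false),([3, 1, 3, 1],true),([3, 1, 3],false),([0, 3, 0],true),([3, 3, 0],false),([1, 3, 3, 0],true),([1, 0, 3],false),([0, 3, 3, 0],true)],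
[([1, 0],false),([3, 1, 3, 2],true),([3, 1, 3, 0],false),([0, 3, 1, 2],true),([0, 3, 0],false),([1, 3, 2],true),([0, 1, 3, 2],false),([3, 0],true)],
[([2, 2],false),([3, 2, 3, 0],true),([3, 2, 3],false),([1, 3, 1, 0],true),([0, 1, 3, 0],false),([3, 2],true)],
[([2],false),([3, 1],true)],
[([1],false),([3, 2, 1, 3],true),([3, 0, 1, 3],false),([3, 3, 2, 1],true),([0, 3],false),([1, 0, 3],true),([1, 3, 3, 1],false),([3, 0, 1],true)],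
[([2, 2, 1, 0],false),([2, 3, 1, 3],true),([3, 3, 1, 3, 0],true),([3, 3, 1, 3],false),([3, 2, 1, 0],true)],
[([2, 1, 2],false),([3, 2, 2, 0],true)],
[([0, 1, 2, 1, 0],false),([3, 2, 3, 0],true),([3, 2, 3, 2],false),([3, 3, 2],true),([3, 3],false),([1, 3, 3],true),([1, 0, 3, 0],false),([3, 2, 0, 1, 0],true)],
[([1, 2, 2],false),([3, 1, 3, 0],true),([3, 2, 1, 3],false),([2, 1, 3, 1, 0],true),([0, 1, 3, 0],false),([3, 2, 0, 1, 0],true)],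
[([2, 3, 0, 3],false),([3, 2, 3, 2],true),([3, 2, 3, 0],false),([3, 3, 0],true),([0, 3, 0],false),([2, 0, 3, 0],true),([2, 3, 3, 1],false),([3, 2, 1, 2],true)],
[([0, 1, 2],false),([3, 2, 1, 3],true),([3, 1, 3],false),([3, 3],true),([0, 3],false),([0, 1, 3],true),([1, 3],false),([3],true)],
[([3, 0, 3, 0],false),([3, 1, 0, 3, 0],true),([2, 2, 1, 3],true),([0, 1, 3, 0],false),([3, 1, 0, 1, 0],true)],
[([3, 0, 3],false),([1, 3, 1],true),([1, 3],false),([2, 3, 1],true),([2, 3],false),([3, 1, 2],true)],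
[([2, 1, 0],false),([3, 2, 2, 0],true)],
[([],false),([3, 2, 3, 0],true),([3, 2, 3],false),([2, 3, 0],true),([2, 3],false),([3],true)],
[([1],false),([3, 2, 3],true),([3, 2, 3, 1],false),([2, 3],true),([2, 3, 1],false),([3, 1],true)],
[([1, 2],false),([3, 2, 3, 2],true),([3, 2, 3, 0],false),([3, 3, 2, 0],true),([3, 3, 1],false),([2, 1, 3, 2],true),([1, 3],false),([3, 2, 2, 1],true)],
[([2, 1, 2, 0],false),([3, 2, 2],true)],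
[([1],false),([3, 1, 3, 2],true),([3, 1, 3, 1],false),([2, 3, 1],true),([2, 3, 0, 1],false),([3, 2],true)],
[([2, 2],false),([3, 1, 2],true)],
[([2, 2, 0],false),([3, 1],true)],
[([2, 2, 0],false),([3, 2, 0, 1],true)],
[([0, 1, 2],false),([2, 3, 0, 1],true),([2, 3, 1],false),([3, 1],true)],
[([2, 0, 1],false),([3, 2],true)],
[([2, 1, 2, 1],false),([3, 1, 3],true),([3, 0, 1, 3],false),([3, 2, 3, 2],true),([3, 2, 3],false),([0, 3, 0],true),([3, 3, 0],false),([1, 2, 3],true),([1, 2, 3, 2],false),([3, 0, 1, 0],true)],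
[([],false),([3, 1, 2, 0],true)],
[([3, 0, 3],false),([1, 3, 1, 0],true),([1, 3, 2, 0],false),([3, 1, 2, 0],true)],
[([1, 2, 1],false),([3, 1, 3, 0],true),([3, 1, 3],false),([2, 2, 3],true),([2, 2, 3, 0],false),([1, 3, 3],true),([1, 0, 3, 0],false),([2, 3, 0],true),([2, 3, 1],false),([3, 1],true)],
[([2, 0, 1, 2],false),([3, 3, 2, 2],true),([3, 3, 1, 0],false),([2, 2, 3, 0],true),([3, 2, 1, 2],true)],
[([0, 1, 2],false),([2, 3, 2],true),([2, 3, 1],false),([3, 1],true)],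
[([1, 0],false),([3, 0, 1],true)],
[([2],false),([3, 1, 0],true)],
[([2, 1, 0],false),([3, 3, 0],true),([0, 3, 0],false),([3, 0],true)],
[([0, 1, 2],false),([3, 2, 3, 1],true),([3, 2, 3, 0],false),([0, 3],true),([3, 3],false),([2, 3, 3],true),([2, 0, 3, 2],false),([3, 1],true)],
[([0, 1, 2, 1],false),([3, 2, 3],true),([3, 2, 3, 1],false),([2, 0, 3, 2],true),([2, 3, 3, 0],false),([3, 0, 1, 2],true)],
[([2, 1, 2],false),([3, 3, 1, 3],false),([3, 0],true)],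
[([2, 2, 1, 2],false),([3, 2, 3, 0],false),([2, 3, 1],true),([2, 3, 0],false),([3, 0, 1, 2],true)],
[([0],false),([3, 1, 3, 3, 0],true),([3, 1, 3, 3],false),([1, 3, 0],true),([1, 3],false),([3, 0, 1],true)],
[([2],false),([3, 2, 0, 1],true)],
[([1, 2, 1, 0],false),([2, 3, 2, 2],true),([2, 3, 1, 2],false),([3, 1, 2],true)],
[([1, 2, 1],false),([3, 2, 2, 0],true)],
[([2, 1, 2, 0],false),([3, 2, 3, 0],false),([0, 3],true),([0, 3, 0],false),([2, 3, 2, 0],true),([2, 3, 0],false),([3, 2, 2, 1],true)],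
[([2, 1, 2, 1],false),([3, 2, 3],false),([3, 3],true),([0, 3],false),([2, 0, 3],true),([2, 3, 3, 0],false),([3, 0, 1],true)],
[([1, 2, 2, 0],false),([2, 3, 3, 1],true),([2, 0, 3, 1],false),([0, 3, 3],true)],
[([1, 2, 2, 0],false),([2, 3, 3, 0],true),([2, 3, 3],false),([1, 3, 2, 2],true),([1, 3],false),([3],true)],
[([2, 1, 2, 0],false),([0, 3, 3, 0],true)],
[([2, 0, 1, 2],false),([3, 2, 2],true)],
[([2, 2, 1],false),([3, 2, 0],true)],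
[([1, 2, 2, 1],false),([3, 2, 1],true)],
[([1, 2],false),([2, 3, 3, 1],true),([2, 0, 3],false),([3, 1, 2, 2],true)],
[([2, 1, 2, 0],false),([3, 2, 2],true)],
[([2, 1, 2],false),([3, 2, 2, 0],true)],
[([1, 2, 0],false),([3, 1, 3, 3],true),([3, 1, 0, 3],false),([2, 3],true),([2, 3, 2, 2],false),([3, 2, 2],true)],
[([1, 2, 2, 1],false),([3, 1, 3, 0],true),([3, 1, 3, 2],false),([1, 3, 2, 3],true),([3, 2, 3, 2],true),([3, 2, 3, 0],false),([0, 3],true),([3, 3],false),([2, 3, 3],true),([2, 3, 3, 1],false),([0, 3, 3, 2],true)],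
[([1, 2],false),([3],true)],
[([1, 2, 0],false),([3, 0, 1, 2],true)],
[([0, 1, 2],false),([3, 2, 3, 1],true),([3, 2, 3, 2],false),([1, 3],true),([1, 3, 0],false),([3, 2, 2, 1],true)],
[([2, 2, 0],false),([3, 1, 3, 0],true),([3, 1, 3],false),([1, 2, 3, 2],true),([1, 2, 3, 0],false),([1, 3, 2, 2],true),([2, 1, 3, 0],false),([3, 1, 2],true)],
[([2, 0, 1],false),([3],true)],
[([1, 2, 1],false),([3, 1, 3, 1],true),([3, 0, 1, 3],false),([2, 1, 3, 0],true),([1, 3, 0],false),([2, 3, 3, 0],true),([2, 0, 3, 0],false),([3, 2, 1],true)],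
[([2, 2, 1],false),([3, 1, 3, 1],true),([0, 3, 2, 2],true),([3, 3, 1],false),([2, 3, 3, 1],true),([2, 0, 3],false),([3, 1, 2, 2],true)],
[([2, 1, 2],false),([0, 3, 3],true)],
[([1, 2],false),([3, 2, 1],true)],
[([1, 0, 1],false),([3, 1, 3, 0],true),([3, 1, 3, 1],false),([3, 3, 1],true),([3, 3],false),([0, 1, 3, 1],true),([1, 3, 1],false),([3, 1],true)],
[([2, 2],false),([3, 2, 1],true)],
[([2, 0, 1],false),([3, 3, 2],true),([3, 3, 0],false),([1, 2, 3],true),([3, 2],true)],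
[([3, 0, 3],false),([1, 3, 1],true),([1, 3, 0],false),([3, 0],true)],
[([2, 1, 0],false),([3, 1, 2, 1],true)],
[([1, 2, 1],false),([3, 1, 3, 0],true),([3, 1, 3],false),([0, 3, 1, 0],true),([3, 3, 0],false),([2, 3, 3, 0],true),([2, 3, 3],false),([3, 2, 1, 0],true)],
[([0, 1, 0],false),([2, 3, 0],true),([2, 3, 2],false),([3, 2],true)],
[([2, 2],false),([3, 1, 2, 0],true)],
[([2, 1, 0],false),([3, 1, 2],true)],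
[([2, 0, 1, 2],false),([3, 3, 2, 2],true),([0, 3],false),([2, 3, 1, 2],true),([2, 3, 2, 2],false),([3, 2, 2],true)],
[([2, 1, 0],false),([3, 2],true)],
[([1, 2, 1],false),([2, 3, 3],true),([2, 0, 3, 0],false),([0, 3, 0],true),([0, 3, 2, 0],false),([3, 2, 0],true)],
[([0, 1],false),([3, 1, 3, 1],true),([3, 1, 3, 2],false),([1, 0, 3, 1],true),([1, 3, 3],false),([2, 3, 0],true),([3, 2, 2, 1],true)],
[([2, 0, 1, 0],false),([3, 2, 0],true)],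
[([2],false),([3, 2, 0, 1],true)],
[([0, 1, 2],false),([3, 3, 1],true),([0, 3],false),([3],true)],
[([1, 2, 1, 2],false),([0, 3, 0, 1],true),([0, 3, 1],false),([3, 1, 2, 0],true)],
[([0, 1, 2, 1],false),([3, 2, 3],true),([3, 2, 3, 0],false),([1, 3, 3],true),([1, 0, 3],false),([0, 3, 3, 0],true)],
[([2, 0, 1],false),([3, 2],true)],
[([2, 1],false),([3, 2, 0],true)],
[([2, 1],false),([3, 2, 0],true)],
[([1, 2],false),([3, 1, 0, 1],true)],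
[([],false),([3, 2, 3, 1],true),([3, 2, 3, 0],false),([3, 3, 2, 0],true),([3, 3],false),([2, 3, 1],true),([2, 3, 0],false),([3, 2, 0],true)],
[([0],false),([3, 1, 3],true),([3, 1, 3, 0],false),([1, 3, 1],true),([0, 1, 3],false),([0, 3, 3, 0],true)],
[([0, 1, 2, 0],false),([3, 3, 1, 2],true),([0, 3, 1, 2],false),([3, 1, 2],true)],
[([2, 2, 1],false),([1, 0, 3],true),([1, 3, 3],false),([3, 2],true)],
[([1, 0, 1],false),([3, 0],true)],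
[([2, 2, 0],false),([3, 2, 1, 0],true)],
[([2, 2, 1],false),([3],true)],
[([2, 1, 0],false),([3, 2, 3],true),([3, 2, 3, 1],false),([3, 3, 1],true),([3, 3, 0],false),([2, 3, 0, 1],true),([2, 3, 1],false),([3, 1],true)],
[([2, 2, 0, 1],false),([3, 1, 2, 1],true)],
[([1, 2, 2],false),([3, 2],true)],
[([2, 0, 1],false),([3, 2, 3, 3],true),([3, 2, 0, 3],false),([2, 1, 3, 3],true),([2, 1, 0, 3],false),([3, 2, 0, 1],true)],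
[([2, 0, 1, 2, 0],false),([3, 2, 2, 0],true)],
[([2, 2, 0, 1],false),([3, 2, 3, 0],false),([1, 3, 2, 1],true),([0, 1, 3],false),([3, 2, 2, 0],true)],
[([2, 2, 1, 0],false),([3, 1, 0, 3],false),([1, 3, 0],true),([1, 3, 2, 2],false),([3, 3],true),([3, 3, 0],false),([2, 3, 3, 0],true),([2, 3, 3, 1],false),([3, 2, 2],true)],
[([2, 1],false),([3],true)],
[([2, 2, 1],false),([3, 2, 2, 0],true)],
[([2, 1],false),([3, 1, 3],true),([1, 3, 2, 0],true),([1, 3, 1, 0],false),([3, 1, 0],true)],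
[([1, 2, 1, 0],false),([2, 3, 2, 2],true),([2, 3, 2, 0],false),([3, 1, 0],true)],
[([0, 1, 2, 2],false),([3, 2, 3, 0],true),([3, 2, 3, 1],false),([2, 3, 3, 1],true),([2, 3, 3, 0],false),([3, 1, 0],true)],
[([2, 2, 0],false),([3, 1, 2, 0],true)],
[([2, 2, 0],false),([0, 3, 1, 3],true),([3, 2, 2, 1],true)],
[([2, 2, 1, 2, 0],false),([3, 2, 0, 3],false),([0, 3, 0],true),([0, 3, 1, 0],false),([2, 0, 3, 1, 0],true),([3, 2, 2, 1],true)],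
[([1, 2, 1, 0],false),([2, 3, 3, 0],true),([2, 0, 3],false),([0, 3],true),([0, 3, 2],false),([3, 2],true)],
[([0, 1, 2, 0],false),([3, 3, 1, 0],true),([0, 3, 0],false),([3, 0],true)],
[([2, 2, 1],false),([3, 3],true),([0, 3],false),([3],true)],
[([1, 0, 1, 0],false),([3],true)],
[([1, 2, 1],false),([2, 3],true),([2, 3, 0],false),([3, 0],true)],
[([1, 0, 1],false),([0, 3, 3],true)],
[([1, 3, 0, 3],false),([3, 1, 3, 1],true),([3, 1, 3, 0],false),([3, 3, 1, 0],true),([0, 3, 0],false),([2, 0, 3, 0],true),([2, 3, 3, 0],false),([3, 0, 1],true)],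
[([0, 1, 0],false),([3, 2, 3, 3],true),([3, 2, 0, 3],false),([2, 3, 3, 1],false),([3],true)],
[([1, 2],false),([2, 3, 1],true),([2, 3, 0],false),([3, 1, 2, 0],true)],
[([1, 2, 2],false),([2, 3, 0],true),([2, 3, 1],false),([3, 1],true)],
[([2, 2, 0],false),([3, 1, 2],true)],
[([2, 0, 1, 0],false),([3, 2, 0, 1],true)],
[([1, 2, 0],false),([2, 3, 2, 0],true),([2, 3],false),([3],true)],
[([2, 2, 1],false),([3, 2, 3, 0],false),([2, 3, 3, 0],true),([2, 3, 3],false),([3, 1],true)],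
[([],false),([3, 1, 3, 2],true),([3, 1, 3, 1],false),([2, 3, 2],true),([2, 3, 2, 1],false),([1, 3, 3, 1],true),([1, 3, 3],false),([3, 2],true)],
[([2, 1, 2],false),([3, 2, 3],false),([0, 3, 0],true),([0, 3],false),([2, 3, 2],true),([2, 3, 1],false),([3, 1],true)],
[([2, 1],false),([3, 3],true),([0, 3],false),([3],true)],
[([1, 2, 2, 0],false),([3, 2, 0],true)],
[([1, 3, 0, 3],false),([3, 1, 3, 1],true),([3, 1, 3, 0],false),([3, 3, 0],true),([0, 3, 0],false),([0, 1, 3, 0],true),([1, 3, 0],false),([3, 0],true)],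
[([2, 1, 2],false),([3, 1, 0, 3],true),([3, 1, 3, 3],false),([1, 2, 0, 3, 0],true),([0, 1, 2, 3],false),([0, 3, 3, 0],true)],
[([0],false),([3, 1, 2],true)],
[([2, 0, 1],false),([3, 2],true)],
[([1, 0, 1, 0],false),([0, 3, 3, 0],true)],
[([0, 1, 2, 0],false),([1, 3, 2],true),([3, 2, 0],true)],
[([0, 1, 2, 0],false),([1, 3, 2],true),([1, 3, 1],false),([3, 1],true)],
[([2, 1, 0, 1, 0],false),([3, 2, 3, 3],true),([2, 3, 2, 1, 0],true),([2, 3, 0, 1],false),([3, 0, 1],true)],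
[([2, 1],false),([3, 2, 2],true)],
[([3, 0, 3],false),([1, 3, 1],true),([1, 3, 0],false),([2, 3, 1, 0],true),([2, 3, 0],false),([3, 1, 2, 0],true)],
[([1, 2, 2],false),([0, 3, 1],true),([2, 3, 3, 1],true),([3, 0, 1],true)],
[([1, 2],false),([2, 3, 0],true),([2, 3, 1],false),([3, 1],true)],
[([1, 0, 1, 0],false),([3],true)],
[([1, 0, 1, 0],false),([0, 3, 3, 0],true)],
[([2, 1, 0],false),([3, 1, 2, 0],true)],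
[([1],false),([3, 2, 2],true)],
[([2, 1, 0],false),([3, 2],true)],
[([2, 0, 1, 0],false),([3, 2, 0],true)],
[([1, 2, 0],false),([2, 3, 1],true),([2, 3, 1, 0],false),([3, 1, 0],true)],
[([1, 2, 1, 0],false),([3, 1],true)],
[([2, 2, 0, 1],false),([3, 2, 1, 0],true)],
[([1, 0, 1],false),([3, 0],true)],
[([1, 0],false),([2, 1, 3],true),([1, 3, 0],false),([3, 0],true)],
[([2, 1, 2],false),([3],true)],
[([1, 2, 0],false),([3, 0, 1, 2],true)],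
[([1, 2, 0],false),([2, 3, 1, 0],true),([2, 3],false),([3, 1, 2],true)],
[([1, 2, 1],false),([3, 1, 0],true)],
[([0, 1],false),([2, 3],true),([2, 3, 1],false),([3, 1],true)],
[([1, 2, 2],false),([0, 3, 1, 0],true),([0, 3, 0],false),([3, 0],true)],
[([0, 1, 0],false),([1, 3],true),([3, 0],true)],
[([2, 0, 1, 0],false),([3, 3, 2, 0],true),([3, 3, 2],false),([1, 3, 2, 0],true),([3, 2, 0, 1],true)],
[([1, 2, 2],false),([3],true)],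
[([1, 2, 1],false),([3, 1],true)],
[([1, 2, 0, 1, 0],false),([2, 1, 0, 3],true),([1, 3, 3, 1, 0],false),([3, 2, 1, 0],true)],
[([1],false),([3, 2],true)],
[([1, 0, 1],false),([3, 2, 1, 0],true)],
[([1, 2, 2],false),([2, 3],true),([2, 3, 1],false),([3, 1],true)],
[([2, 1, 2],false),([0, 3, 3, 0],true)],
[([3, 0, 3, 2],false),([2, 3, 1],true),([2, 3],false),([3, 2, 1, 2],true)],
[([1, 0, 1, 2],false),([2, 0, 3, 0],true),([2, 0, 3],false),([0, 3, 3, 1],true)],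
[([1, 0],false),([3, 0, 1],true)],
[([2, 2, 1, 0],false),([3, 2, 1],true)],
[([3, 0, 3],false),([3, 2, 0, 3],true),([2, 0, 3, 0],true),([2, 3, 3],false),([3, 0, 1, 0],true)],
[([3, 0, 3],false),([1, 3, 1],true),([3, 0, 1],true)],
[([1, 0],false),([3, 2, 0],true)],
[([2, 1, 2, 1, 0],false),([0, 3, 2, 3],false),([3, 2, 0, 1, 0],true)],
[([2, 2, 1],false)],
[([2, 2, 1, 0],false),([0, 3, 2, 1],true),([3, 3, 0],false),([0, 3, 3, 0],true)],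
[([2, 2, 0, 1],false),([3, 1, 3, 2],false),([1, 0, 3],true),([3, 2, 2, 1],true)],
[([1, 2, 0],false),([3, 0],true)],
[([0],false),([3, 1, 2, 0],true)],
[([1, 2, 2],false),([3, 2, 1, 2],true)],
[([1, 2, 2],false),([2, 3, 3],true),([2, 0, 3, 1],false),([1, 2, 3],true),([1, 2, 3, 1],false),([2, 3, 1, 2],true),([2, 3, 2],false),([3, 2],true)],
[([2],false)],
[([3, 0, 3, 1],false),([3, 3, 1, 0],true),([0, 3, 1],false),([3, 1, 0],true)],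
[([2, 2, 1],false),([1, 3, 0],true),([2, 1, 3],false)],
[([1, 2, 1, 0],false),([0, 3, 0, 1],true),([0, 3, 1],false),([3, 1],true)],
[([1, 2, 2],false),([0, 3, 1],true),([0, 3, 0, 1],false),([2, 3, 3, 1],false)],
[([1, 0],false),([3, 0, 1],true)],
[([2, 1],false),([3, 1, 3],false),([3, 3],true),([0, 3],false),([0, 1, 3],true),([1, 3],false),([3],true)],
[([1, 0, 1, 0],false),([3, 2, 1],true)],
[([1, 2, 1, 0],false),([3, 1, 0],true)],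
[([3, 0, 3],false),([3, 3],true),([0, 3],false),([3],true)],
[([2, 2, 1],false),([3, 3, 2],true),([0, 3, 0],false),([3, 0],true)],
[([1, 0],false),([2, 1, 3],true),([1, 3, 0],false),([3, 0],true)],
[([0, 1],false),([1, 3, 0],true),([3],true)],
[([0, 1],false),([1, 3, 0],true),([1, 3],false),([0, 3],false),([3],true)],
[([2, 2, 1, 0],false)],
[([2, 1],false),([3, 1, 2],true)],
[([1, 0],false),([3, 2, 2, 0],true)],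
[([3, 0, 3, 1],false),([3, 3, 1, 0],true),([0, 3, 1],false),([3, 1, 0],true)],
[([1, 2, 1],false),([3, 0, 1, 0],true)],
[([0, 1, 2],false),([1, 3, 2, 0],true),([3, 2],true)],
[([0, 1, 0],false),([1, 3],true),([3, 3],true),([0, 3, 0],false),([3, 0],true)],
[([2, 2, 1],false),([1, 3, 0],true),([1, 3],false),([3],true)],
[([0, 1, 2],false),([1, 3, 2, 0],true),([1, 3, 1, 0],false),([3, 1, 0],true)],
[([3, 0, 3],false),([3, 3],true),([0, 3],false),([3],true)],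
[([3, 0, 3],false),([1, 3, 1],true),([3, 3, 1],true),([0, 3, 0, 1],false),([3, 0, 1],true)],
[([2, 0],false)],
[([1, 2, 2, 1],false),([3, 1, 3, 0],true),([3, 1, 3],false),([3, 2, 3, 3],true),([3, 2, 0, 3],false),([0, 3, 0],true),([3, 3],false),([1, 2, 3, 0],true),([1, 2, 3, 1],false),([2, 3, 1],true),([2, 3, 0, 1],false),([3, 0, 1],true)],
[([2, 2, 1, 0],false),([3, 2, 3],false),([2, 3, 3],true),([2, 3, 3, 0],false),([3, 1, 0],true)]]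

end Cfsg.Agent.J2Uniq.CData
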