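import Cfsg.Agent.Lib.J2Uniq.Cert

/-!
A certificate giving the action on 315 points.
-/

set_option autoImplicit false
set_option maxRecDepth 100000
set_option maxHeartbeats 4000000

namespace Cfsg.Agent.J2Uniq.CData

/-- The deductions. -/
def t0 : Cert := ⟨[⟨false,0,0⟩,⟨false,928,1⟩,⟨false,416,2⟩,⟨false,0,1⟩,⟨true,710,1⟩,⟨true,1632,5⟩,⟨false,4,5⟩,⟨false,416,7⟩,⟨true,456,8⟩,⟨true,416,9⟩,⟨true,1632,10⟩,⟨true,1644,6⟩,⟨false,3,6⟩,⟨true,1635,6⟩,⟨false,544,3⟩,⟨false,0,15⟩,⟨true,1717,16⟩,⟨false,63,16⟩,⟨false,416,18⟩,⟨true,456,19⟩,⟨true,416,20⟩,⟨true,1632,21⟩,⟨false,546,3⟩,⟨true,1908,15⟩,⟨false,734,16⟩,⟨true,456,25⟩,⟨true,416,26⟩,⟨true,1632,27⟩],[.edge 3,.code,.edge 4,.code,.edge 5],[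
⟨0,1,3,2,false,[.edge 3,.eqn 1 false,.eqn 0 false,.eqn 1 true,.edge 3],[]⟩,
⟨0,1,3,2,false,[.edge 3,.eqn 1 false,.eqn 2 false,.eqn 1 true,.edge 3],[]⟩,
⟨0,1,3,2,false,[.edge 3,.eqn 2 true,.eqn 1 false,.eqn 2 false,.edge 3],[]⟩,
⟨0,2,3,2,false,[.edge 4,.eqn 34 false,.eqn 33 true,.edge 4],[]⟩,
⟨0,1,3,2,false,[.edge 3,.eqn 0 false,.eqn 1 false,.eqn 0 false,.eqn 1 true,.eqn 0 true,.edge 3],[]⟩,
⟨0,2,3,2,false,[.edge 4,.eqn 36 false,.edge 4],[]⟩,
⟨0,1,3,2,false,[.edge 3,.eqn 0 false,.eqn 1 false,.eqn 2 false,.eqn 1 true,.eqn 0 true,.edge 3],[]⟩,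
⟨0,2,3,2,false,[.edge 4,.eqn 32 false,.eqn 33 true,.eqn 38 true,.edge 4],[]⟩,
⟨0,3,3,2,false,[.edge 5,.eqn 39 false,.eqn 35 true,.edge 5],[]⟩,
⟨0,0,0,2,true,[.edge 3,.edge 6],[]⟩,
⟨0,0,1,2,false,[.edge 3,.code],[.code,.code,.eqn 0 false,.edge 41]⟩,
⟨0,0,3,1,true,[.edge 41,.eqn 42 true],[]⟩,
⟨0,4,3,1,true,[.edge 6],[.eqn 42 true]⟩,
⟨0,0,2,21,false,[.code,.eqn 1 false,.eqn 0 false,.edge 41,.eqn 42 true,.code,.edge 7,.code,.edge 8,.code,.edge 8,.code,.edge 9,.code,.edge 10,.code,.edge 11,.code,.edge 12,.code,.edge 13,.code,.edge 13,.code],[.edge 41,.eqn 42 true,.code,.eqn 38 true,.edge 7]⟩,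
⟨416,9,3,1,true,[.edge 12,.eqn 45 false],[]⟩,
⟨1632,10,3,1,true,[.edge 13],[.eqn 45 false]⟩,
⟨0,5,4,2,false,[.edge 7,.eqn 34 false,.eqn 33 true,.edge 7],[]⟩,
⟨416,9,3,2,false,[.edge 46,.edge 9],[]⟩,
⟨456,8,3,1,true,[.edge 11,.eqn 49 true],[]⟩,
⟨0,5,4,2,false,[.edge 7,.eqn 36 false,.edge 7],[]⟩,
⟨0,7,3,2,false,[.edge 9,.eqn 51 false,.edge 9],[]⟩,
⟨0,5,4,2,false,[.edge 7,.eqn 32 false,.eqn 33 true,.eqn 38 true,.edge 7],[]⟩,
⟨0,6,4,2,false,[.edge 8,.eqn 53 false,.eqn 51 true,.edge 8],[]⟩,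
⟨0,11,4,2,false,[.edge 47,.eqn 53 false,.eqn 48 true,.edge 8],[]⟩,
⟨0,1,2,11,true,[.code,.eqn 38 true,.edge 7,.code,.eqn 48 true,.eqn 51 false,.edge 8,.code,.edge 14,.code,.edge 14,.code,.edge 15,.code],[.edge 3,.code,.eqn 1 false,.edge 41,.eqn 42 true,.code,.eqn 33 true,.edge 7,.code,.edge 7,.code,.edge 6,.eqn 42 true,.code,.eqn 33 true,.edge 4,.code]⟩,
⟨2,1,2,11,true,[.code,.eqn 38 true,.edge 7,.code,.eqn 48 true,.edge 8,.code,.edge 16,.code,.edge 16,.code,.edge 15,.code],[.edge 44,.code,.eqn 33 false,.edge 7,.code,.eqn 53 false,.edge 47,.eqn 55 true,.code,.edge 8,.code,.edge 9,.code,.eqn 52 false,.edge 10,.code]⟩,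
⟨384,1,0,1,true,[.eqn 33 false,.edge 4],[.eqn 33 false,.edge 7]⟩,
⟨384,1,1,2,false,[.eqn 33 false,.edge 4,.code],[.code,.code,.eqn 38 true,.edge 7]⟩,
⟨710,1,3,1,true,[.edge 7,.eqn 59 true],[]⟩,
⟨0,7,3,1,true,[.edge 9,.eqn 59 true],[]⟩,
⟨1632,5,3,1,true,[.edge 8],[.eqn 59 true]⟩,
⟨268,5,3,1,true,[.edge 58],[.eqn 59 true]⟩,
⟨0,7,3,2,false,[.edge 61,.edge 63],[]⟩,
⟨0,8,3,1,true,[.edge 10,.eqn 64 true],[]⟩,
⟨456,8,3,1,true,[.edge 50,.eqn 64 true],[]⟩,
⟨416,13,4,2,false,[.edge 56,.eqn 35 false,.edge 62],[]⟩,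
⟨474,8,3,1,true,[.edge 57,.eqn 67 true],[]⟩,
⟨0,13,3,1,true,[.edge 15],[.eqn 67 true]⟩,
⟨474,8,3,2,false,[.edge 68,.edge 69],[]⟩,
⟨0,8,3,1,true,[.edge 65],[.eqn 70 true]⟩,
⟨3,6,4,2,false,[.edge 69,.eqn 54 false,.edge 16],[]⟩,
⟨1635,6,3,1,true,[.edge 16,.eqn 72 false],[]⟩,
⟨0,3,3,2,false,[.edge 5,.eqn 35 true,.eqn 37 false,.edge 71],[]⟩,
⟨1632,5,3,1,true,[.edge 8,.eqn 74 false],[.eqn 59 true]⟩,
⟨0,13,3,1,true,[.edge 15,.eqn 74 false],[.eqn 67 true,.eqn 74 false]⟩,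
⟨1635,6,3,1,true,[.edge 73,.eqn 74 false],[.eqn 74 false]⟩,
⟨544,3,0,2,true,[.edge 17,.edge 18],[]⟩,
⟨0,15,3,2,false,[.edge 17,.eqn 31 false,.edge 17],[]⟩,
⟨0,16,4,2,false,[.edge 78,.eqn 31 false,.edge 78],[]⟩,
⟨0,15,3,2,false,[.edge 17,.eqn 40 false,.edge 17],[]⟩,
⟨0,16,4,2,false,[.edge 78,.eqn 40 false,.edge 78],[]⟩,
⟨544,3,1,2,true,[.edge 17,.code],[.code,.code]⟩,
⟨544,3,2,21,false,[.code,.edge 77,.code,.edge 78,.code,.edge 19,.code,.edge 19,.code,.edge 20,.code,.edge 21,.code,.edge 22,.code,.edge 23,.code,.edge 24,.code,.edge 24,.code],[.edge 78,.code,.eqn 82 true,.eqn 80 false,.edge 19]⟩,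
⟨416,20,3,1,true,[.edge 23,.eqn 84 false],[]⟩,
⟨0,17,4,2,false,[.edge 19,.eqn 82 false,.edge 19],[]⟩,
⟨416,20,3,2,false,[.edge 85,.eqn 86 false,.edge 85],[]⟩,
⟨546,3,0,1,true,[.edge 25],[.edge 83]⟩,
⟨546,3,1,2,false,[.edge 25,.code],[.code,.code,.edge 78]⟩,
⟨67,15,3,1,true,[.edge 88,.eqn 89 false],[]⟩,
⟨0,18,3,2,false,[.edge 20,.edge 90],[]⟩,
⟨0,19,3,1,true,[.edge 21,.eqn 91 true],[]⟩,
⟨546,3,2,21,false,[.code,.edge 77,.code,.edge 83,.code,.edge 26,.code,.edge 26,.code,.edge 18,.code,.edge 27,.code,.edge 28,.code,.edge 29,.code,.edge 30,.code,.edge 30,.code],[.edge 83,.code,.eqn 81 true,.edge 26]⟩,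
⟨1632,27,3,1,true,[.edge 30],[.eqn 93 false]⟩,
⟨0,24,4,2,false,[.edge 26,.eqn 81 true,.eqn 79 true,.edge 26],[]⟩,
⟨0,15,2,5,false,[.code,.eqn 81 true,.edge 26,.code,.eqn 95 true,.edge 94,.code],[.edge 17,.code,.edge 5,.code,.edge 62,.eqn 74 false,.code,.edge 75,.code,.eqn 37 false,.edge 5,.code,.eqn 40 true,.edge 76,.code,.eqn 31 false,.edge 5,.code,.eqn 37 false,.edge 56,.eqn 67 true,.eqn 74 false,.code,.edge 77,.code,.edge 76]⟩,
⟨1632,27,3,1,true,[.edge 30,.eqn 96 false],[.eqn 93 false]⟩,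
⟨1022,3,3,2,false,[.edge 76,.edge 97],[]⟩,
⟨1908,15,3,1,true,[.edge 26,.eqn 98 false],[]⟩,
⟨0,15,3,2,false,[.edge 17,.edge 99],[]⟩,
⟨0,16,3,2,false,[.edge 18,.eqn 100 true,.edge 92],[]⟩,
⟨456,19,3,1,true,[.edge 22],[.eqn 101 false]⟩,
⟨0,20,4,2,false,[.edge 102,.eqn 80 false,.eqn 82 false,.eqn 80 true,.edge 102],[]⟩,
⟨625,16,3,2,false,[.edge 102,.eqn 87 true,.eqn 103 false,.eqn 87 false,.edge 102],[]⟩,
⟨67,15,3,2,false,[.edge 90,.eqn 104 false,.edge 27],[]⟩]⟩

/-- The involution. -/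
def th0 : ℕ := 456

/-- The terms. -/
def terms0 : List (ℕ × ℕ) := [(0,0),(0,1),(1227,3),(2,1),(445,3),(1727,3),(203,3),(1484,3),(1909,3),(324,2),(1481,3),(202,3),(93,3),(1151,3),(1135,3),(608,2),(214,15),(609,2),(19,16),(1893,3),(1130,3),(266,3),(162,2),(363,2),(0,2),(626,2),(742,3),(627,2),(1321,3),(128,3),(343,3),(377,2),(417,2),(726,2),(608,3),(298,15),(795,15),(194,15),(1333,3),(727,2),(416,2),(192,15),(911,16),(358,16),(237,16),(897,3),(2,2),(98,3),(190,15),(416,1),(375,16),(417,1),(162,15),(1509,3),(1514,3),(738,3),(1026,3),(195,16),(356,16),(1519,3),(620,3),(743,3),(128,15),(160,16),(163,3),(202,2),(45,2),(91,3),(747,3),(1317,3),(243,16),(915,3),(32,16),(928,1),(140,15),(212,15),(196,15),(1528,3),(1095,3),(384,15),(930,1),(66,15),(1504,3),(1090,3),(1314,3),(1282,3),(102,3),(252,3),(47,3),(219,15),(256,15),(218,16),(559,16),(232,16),(640,3),(34,15),(381,15),(315,15),(192,16),(549,3),(1856,3),(896,15),(271,1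6),(220,15),(221,15),(899,2),(68,16),(64,16),(392,16),(372,16),(256,16),(74,16),(736,3),(64,15),(69,16),(1122,2),(245,15),(898,15),(934,16),(324,16),(933,3),(711,3),(305,3),(75,3),(79,3),(427,3),(1120,2),(307,16),(512,3),(750,3),(1312,3),(1088,3),(1718,2),(36,16),(521,3),(741,3),(154,16),(930,2),(1140,3),(756,3),(1024,3),(17,3),(640,15),(1056,15),(1058,2),(1184,2),(357,16),(1911,3),(830,2),(110,3),(1090,2),(1440,2),(59,3),(1287,3),(314,3),(1002,2),(221,3),(1721,3),(1248,3),(1140,2),(1142,2),(128,16),(38,16),(0,3),(39,3),(258,15),(309,15),(1149,3),(1367,2),(1108,2),(312,3),(1818,3),(297,15),(1122,3),(1634,2),(757,3),(321,3),(177,3),(842,3),(224,3),(948,3),(828,2),(1600,2),(21,3),(1473,2),(1729,2),(1815,2),(577,3),(1802,3),(160,15),(1866,2),(1613,2),(1602,2),(299,3),(499,16),(216,16),(53,3),(288,3),(344,3),(1120,3),(139,3),(1208,2),(123,3),(1632,3),(1505,2),(847,2),(1442,2),(1466,2),(320,3),(1128,3),(264,3),(928,2),(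911,2),(411,3),(1464,2),(1327,2),(7,3),(992,3),(1491,3),(346,3),(96,3),(1125,3),(1764,3),(4,3),(576,3),(800,3),(226,3),(130,3),(1440,3),(1216,2),(1293,2),(1088,2),(952,3),(23,3),(213,15),(32,15),(539,3),(1438,3),(330,3),(1567,2),(1536,2),(161,3),(1056,3),(725,3),(414,2),(858,3),(347,3),(156,3),(794,3),(928,3),(1631,2),(1570,2),(49,3),(434,3),(64,3),(329,3),(145,2),(160,3),(105,3),(247,3),(695,3),(1631,3),(81,3),(113,2),(1797,2),(108,3),(416,3),(6,3),(1545,3),(1475,3),(192,3),(1280,3),(254,3),(542,3),(577,2),(856,3),(187,3),(594,2),(417,3),(1203,2),(1216,1),(66,3),(1441,2),(2,3),(61,3),(864,3),(1301,3),(1632,1),(744,2),(130,2),(1769,3),(485,2),(392,2),(1632,2),(651,3),(693,3),(1701,3),(666,3),(128,2),(36,2),(98,2),(1217,1),(13,3),(930,3),(641,2),(655,3),(1697,2),(96,2),(131,2),(1538,2),(937,3),(576,2),(1634,1),(1349,2),(1199,2)]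

/-- A part of the walks. -/
def walks0_0 : List (List Move) := [
[.code,.eqn 0 false],
[.code,.eqn 1 false],
[.code,.eqn 2 false],
[.edge 3],
[.code],
[.code],
[.code],
[.edge 6,.eqn 42 true,.eqn 32 false,.eqn 33 false,.eqn 34 false,.eqn 33 false],
[.code,.eqn 40 true,.eqn 31 false],
[.code,.eqn 40 true,.eqn 31 false],
[.code,.eqn 40 false,.eqn 31 false],
[.eqn 40 true,.edge 75,.eqn 37 false,.eqn 39 true],
[.code],
[.code],
[.code],
[.edge 43,.eqn 0 false,.eqn 1 false,.eqn 0 false,.eqn 2 false,.eqn 1 false,.eqn 2 false,.eqn 1 false,.eqn 2 true,.eqn 1 false,.eqn 0 false,.eqn 2 true],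
[.code,.eqn 31 false],
[.code,.eqn 40 false],
[.code,.eqn 31 false,.eqn 40 false,.eqn 31 false],
[.eqn 40 true,.edge 75,.eqn 39 false],
[.code,.eqn 40 true,.eqn 31 false,.eqn 40 false],
[.code,.eqn 31 false,.eqn 40 true],
[.code],
[.eqn 31 false,.edge 75,.eqn 37 false,.eqn 39 true],
[.code,.eqn 31 false,.eqn 40 true],
[.code,.eqn 31 false,.eqn 40 false,.eqn 31 false],
[.code,.eqn 31 false,.eqn 40 true],
[.eqn 31 false,.eqn 40 true,.edge 76,.eqn 31 false,.eqn 40 false],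
[.code,.eqn 31 false,.eqn 40 true],
[.code,.eqn 40 false,.eqn 31 false,.eqn 40 true],
[.code,.eqn 31 false,.eqn 40 false],
[.eqn 31 false,.edge 76],
[.code,.eqn 40 true,.eqn 31 false],
[.code],
[.code,.eqn 40 true],
[.eqn 31 false,.edge 75,.eqn 37 false,.eqn 39 true],
[.code,.eqn 35 true,.eqn 39 false,.eqn 35 true],
[.code],
[.code],
[.edge 60,.eqn 32 false],
[.code,.eqn 40 true,.eqn 31 false,.eqn 40 false],
[.code,.eqn 40 true],
[.code,.eqn 31 false,.eqn 40 true],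
[.eqn 31 false,.edge 75,.eqn 35 true,.eqn 37 false],
[.code,.eqn 40 false,.eqn 31 false],
[.code,.eqn 31 false,.eqn 40 true,.eqn 31 false],
[.code,.eqn 40 true,.eqn 31 false],
[.eqn 31 false,.eqn 40 true,.edge 76,.eqn 40 true],
[.code],
[.code,.eqn 31 false],
[.code,.eqn 40 false,.eqn 31 false,.eqn 40 true],
[.eqn 31 false,.eqn 40 true,.edge 76],
[.code,.eqn 31 false,.eqn 40 false,.eqn 31 false],
[.code,.eqn 40 true],
[.code,.eqn 40 true,.eqn 31 false],
[.eqn 31 false,.edge 75,.eqn 39 true,.eqn 35 false],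
[.code],
[.code],
[.code,.eqn 40 true,.eqn 31 false],
[.eqn 31 false,.edge 75,.eqn 35 true,.eqn 37 false],
[.code,.eqn 37 false],
[.code],
[.code,.eqn 35 false,.eqn 39 true,.eqn 35 false],
[.eqn 35 true,.edge 5],
[.code],
[.code,.eqn 79 false,.eqn 81 true,.eqn 100 false],
[.code,.eqn 100 false,.eqn 81 true,.eqn 79 false],
[.edge 18,.eqn 82 false,.eqn 80 false,.eqn 82 true],
[.code],
[.code],
[.code,.eqn 35 true,.eqn 39 true],
[.eqn 35 true,.edge 5],
[.code,.eqn 80 false,.eqn 82 true],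
[.code,.eqn 80 false,.eqn 82 false,.eqn 80 false,.eqn 104 true],
[.code],
[.edge 20,.eqn 91 true,.eqn 79 false],
[.code],
[.code],
[.code,.eqn 40 false],
[.eqn 31 false,.edge 75,.eqn 35 true,.eqn 37 false],
[.code],
[.code],
[.code,.eqn 31 false],
[.eqn 31 false,.edge 76],
[.code],
[.code],
[.code,.eqn 40 true],
[.eqn 31 false,.eqn 40 true,.edge 76,.eqn 40 false],
[.code,.eqn 35 false,.eqn 39 true,.eqn 35 false],
[.code],
[.code],
[.edge 60],
[.code],
[.code],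
[.code],
[.edge 58,.eqn 59 true],
[.code],
[.code],
[.code],
[.edge 58,.eqn 59 true],
[.code,.eqn 37 false],
[.code],
[.code,.eqn 35 true,.eqn 39 true],
[.edge 66,.eqn 70 true,.eqn 74 false],
[.code,.eqn 31 false,.eqn 40 true,.eqn 31 false],
[.code],
[.code],
[.edge 17],
[.code],
[.code],
[.code,.eqn 35 false,.eqn 37 false,.eqn 39 true],
[.edge 66,.eqn 70 true,.eqn 74 false],
[.code,.eqn 40 false,.eqn 31 false,.eqn 40 true],
[.code,.eqn 40 false],
[.code,.eqn 31 false,.eqn 40 false,.eqn 31 false],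
[.edge 25,.eqn 89 false],
[.code],
[.code],
[.code],
[.eqn 31 false,.eqn 40 true,.edge 76],
[.code,.eqn 31 false,.eqn 40 false,.eqn 31 false],
[.code],
[.code,.eqn 31 false],
[.eqn 31 false,.eqn 40 true,.edge 76,.eqn 31 false,.eqn 40 true],
[.code],
[.code],
[.code],
[.edge 60,.eqn 33 false,.eqn 38 true,.eqn 34 false,.eqn 33 true],
[.code,.eqn 35 true,.eqn 39 true],
[.code],
[.code,.eqn 39 true,.eqn 35 true],
[.edge 5],
[.code,.eqn 39 false,.eqn 35 false],
[.code],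
[.code,.eqn 35 true,.eqn 39 false,.eqn 35 true],
[.eqn 35 false,.edge 5],
[.code,.eqn 31 false,.eqn 40 false],
[.code],
[.code],
[.edge 17],
[.code,.eqn 81 true],
[.code,.eqn 79 false,.eqn 81 true,.eqn 100 false],
[.code,.eqn 79 false,.eqn 100 true],
[.edge 18,.eqn 82 false],
[.code,.eqn 79 false,.eqn 100 true,.eqn 81 false],
[.code,.eqn 81 true,.eqn 100 true,.eqn 81 false],
[.code,.eqn 81 false,.eqn 79 false,.eqn 81 true,.eqn 100 true],
[.eqn 79 false,.eqn 100 true,.edge 83,.eqn 40 false,.eqn 31 false],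
[.code],
[.code,.eqn 100 true,.eqn 81 false],
[.code,.eqn 100 false,.eqn 79 false],
[.edge 83,.eqn 31 false],
[.code,.eqn 40 false,.eqn 31 false],
[.code],
[.code,.eqn 31 false],
[.edge 25,.eqn 89 false],
[.code,.eqn 37 false],
[.code],
[.code,.eqn 35 true,.eqn 39 false],
[.eqn 35 false,.edge 5],
[.code,.eqn 37 false],
[.code],
[.code,.eqn 35 false],
[.edge 5],
[.code],
[.code,.eqn 81 false,.eqn 100 true,.eqn 81 true],
[.code,.eqn 81 false,.eqn 100 true,.eqn 81 true],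
[.edge 18],
[.code,.eqn 82 true,.eqn 104 false],
[.code,.eqn 82 true,.eqn 80 false,.eqn 104 true],
[.code,.eqn 82 false,.eqn 104 true],
[.eqn 80 false,.edge 27,.eqn 105 false,.eqn 79 false,.eqn 81 false],
[.code],
[.code,.eqn 82 false,.eqn 104 true],
[.code,.eqn 104 true,.eqn 82 true],
[.edge 78,.eqn 40 false],
[.code,.eqn 82 false],
[.code,.eqn 80 false,.eqn 82 true,.eqn 104 false,.eqn 82 true],
[.code,.eqn 80 false,.eqn 82 true,.eqn 104 true],
[.edge 78],
[.code],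
[.code,.eqn 31 false,.eqn 40 true],
[.code,.eqn 40 false,.eqn 31 false],
[.edge 17,.eqn 79 false,.eqn 81 false,.eqn 100 true,.eqn 81 true],
[.code],
[.code],
[.code],
[.edge 60,.eqn 32 false,.eqn 33 false,.eqn 34 false,.eqn 36 false,.eqn 38 false],
[.code],
[.code],
[.code],
[.eqn 31 false,.eqn 40 true,.edge 75,.eqn 35 false,.eqn 37 false],
[.code,.eqn 81 false,.eqn 79 false,.eqn 81 true],
[.code,.eqn 81 false,.eqn 79 false,.eqn 81 true,.eqn 100 true],
[.code,.eqn 81 true,.eqn 100 true,.eqn 81 false],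
[.edge 83],
[.code,.eqn 32 false,.eqn 36 false],
[.code],
[.code,.eqn 33 true],
[.eqn 33 false,.edge 4],
[.code],
[.code,.eqn 80 false,.eqn 82 true,.eqn 104 false],
[.code,.eqn 80 false,.eqn 104 false,.eqn 80 false],
[.edge 78,.eqn 40 true,.eqn 31 false,.eqn 40 false],
[.code,.eqn 32 false],
[.code],
[.code,.eqn 32 false,.eqn 34 false,.eqn 38 false,.eqn 33 false],
[.eqn 33 false,.edge 4],
[.code],
[.code,.eqn 81 false,.eqn 79 false,.eqn 81 true,.eqn 100 true]]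

/-- A part of the walks. -/
def walks0_1 : List (List Move) := [
[.code,.eqn 79 false,.eqn 81 true,.eqn 100 false,.eqn 81 true],
[.edge 83,.eqn 31 false],
[.code,.eqn 40 true,.eqn 31 false],
[.code],
[.code],
[.edge 25,.eqn 89 false],
[.code,.eqn 31 false,.eqn 40 false,.eqn 31 false],
[.code],
[.code,.eqn 40 false],
[.edge 17],
[.code],
[.code],
[.code,.eqn 40 true],
[.edge 25,.eqn 89 false],
[.code],
[.code,.eqn 31 false,.eqn 40 true],
[.code,.eqn 40 true,.eqn 31 false,.eqn 40 false],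
[.edge 25,.eqn 89 false,.eqn 80 false,.eqn 104 true,.eqn 82 false],
[.code,.eqn 82 false,.eqn 80 false,.eqn 82 true],
[.code],
[.code,.eqn 80 false,.eqn 82 false,.eqn 80 false,.eqn 104 false],
[.edge 20,.eqn 91 true,.eqn 100 true,.eqn 81 false],
[.code],
[.code,.eqn 80 false,.eqn 82 true,.eqn 104 false],
[.code,.eqn 104 true,.eqn 80 false],
[.edge 20,.eqn 91 true],
[.code,.eqn 31 false,.eqn 40 true],
[.code],
[.code,.eqn 31 false,.eqn 40 false],
[.edge 25,.eqn 89 false,.eqn 82 false,.eqn 104 false,.eqn 80 false],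
[.code,.eqn 40 true],
[.code],
[.code,.eqn 31 false,.eqn 40 false,.eqn 31 false],
[.edge 17],
[.code],
[.code],
[.code,.eqn 31 false],
[.edge 17],
[.code,.eqn 81 true,.eqn 79 false,.eqn 100 true],
[.code,.eqn 79 false,.eqn 100 false,.eqn 81 false],
[.code,.eqn 81 false,.eqn 79 false,.eqn 100 true],
[.edge 18],
[.code,.eqn 82 false,.eqn 80 false,.eqn 82 true],
[.code,.eqn 82 true,.eqn 104 true,.eqn 82 false],
[.code,.eqn 104 false,.eqn 82 true],
[.edge 78],
[.code],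
[.code,.eqn 40 true],
[.code,.eqn 40 false,.eqn 31 false],
[.eqn 31 false,.eqn 40 true,.edge 75,.eqn 39 true,.eqn 35 false],
[.code,.eqn 35 true,.eqn 39 false,.eqn 35 true],
[.code],
[.code],
[.edge 58,.eqn 59 true],
[.code,.eqn 35 false,.eqn 39 true,.eqn 35 false],
[.code],
[.code],
[.edge 58,.eqn 59 true,.eqn 35 false,.eqn 39 true,.eqn 35 false],
[.code,.eqn 31 false],
[.code,.eqn 40 true,.eqn 31 false],
[.code,.eqn 40 false,.eqn 31 false],
[.eqn 31 false,.eqn 40 true,.edge 76,.eqn 31 false],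
[.code,.eqn 40 true],
[.code],
[.code,.eqn 31 false,.eqn 40 true],
[.edge 17],
[.code,.eqn 40 true,.eqn 31 false,.eqn 40 false],
[.code],
[.code,.eqn 31 false,.eqn 40 true],
[.edge 25,.eqn 89 false],
[.code,.eqn 82 true,.eqn 80 false,.eqn 82 false],
[.code,.eqn 80 false,.eqn 82 false,.eqn 80 false,.eqn 104 false],
[.code,.eqn 80 false,.eqn 82 true,.eqn 104 true],
[.edge 20,.eqn 91 true,.eqn 79 false],
[.code],
[.code,.eqn 31 false,.eqn 40 true,.eqn 31 false],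
[.code,.eqn 31 false,.eqn 40 true],
[.edge 25,.eqn 89 false],
[.code,.eqn 82 false,.eqn 80 false],
[.code,.eqn 104 false,.eqn 80 false,.eqn 82 false],
[.code,.eqn 82 false,.eqn 80 false,.eqn 104 false],
[.edge 78],
[.code],
[.code],
[.code],
[.edge 4],
[.code,.eqn 79 false,.eqn 100 true,.eqn 81 false],
[.code,.eqn 79 false,.eqn 100 false,.eqn 81 false],
[.code,.eqn 81 false,.eqn 100 false],
[.edge 18,.eqn 80 false,.eqn 82 false,.eqn 80 false,.eqn 104 false],
[.code],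
[.code,.eqn 79 false,.eqn 81 true,.eqn 100 false,.eqn 81 true],
[.code,.eqn 100 false,.eqn 81 true,.eqn 79 false],
[.edge 83],
[.code,.eqn 81 false],
[.code,.eqn 79 false,.eqn 81 true,.eqn 100 false,.eqn 81 true],
[.code,.eqn 81 false,.eqn 79 false,.eqn 100 true],
[.edge 83],
[.code,.eqn 31 false,.eqn 40 false,.eqn 31 false],
[.code],
[.code,.eqn 31 false,.eqn 40 false],
[.edge 25,.eqn 89 false],
[.code,.eqn 40 true,.eqn 31 false,.eqn 40 false],
[.code,.eqn 40 true],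
[.code],
[.edge 17],
[.code,.eqn 81 true,.eqn 100 false,.eqn 81 true],
[.code],
[.code,.eqn 81 false,.eqn 100 false],
[.eqn 79 false,.eqn 100 true,.edge 83,.eqn 40 true,.eqn 31 false],
[.code],
[.code],
[.code],
[.eqn 32 false,.edge 4],
[.code],
[.code,.eqn 79 false,.eqn 100 true,.eqn 81 false],
[.code,.eqn 81 false,.eqn 100 true,.eqn 81 true],
[.edge 83,.eqn 40 true,.eqn 31 false],
[.code,.eqn 31 false,.eqn 40 false,.eqn 31 false],
[.code],
[.code,.eqn 40 false],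
[.edge 17],
[.code],
[.code,.eqn 31 false,.eqn 40 false,.eqn 31 false],
[.code,.eqn 40 true,.eqn 31 false],
[.edge 25,.eqn 89 false],
[.code],
[.code,.eqn 31 false,.eqn 40 false],
[.code,.eqn 40 false,.eqn 31 false],
[.edge 25,.eqn 89 false],
[.code],
[.code,.eqn 31 false],
[.code],
[.eqn 31 false,.edge 75,.eqn 35 true,.eqn 37 false],
[.code,.eqn 31 false,.eqn 40 true,.eqn 31 false],
[.code,.eqn 40 false,.eqn 31 false,.eqn 40 true],
[.code,.eqn 40 false,.eqn 31 false,.eqn 40 true],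
[.eqn 31 false,.eqn 40 true,.edge 76,.eqn 31 false,.eqn 40 false,.eqn 31 false],
[.code],
[.code,.eqn 40 true,.eqn 31 false,.eqn 40 false],
[.code,.eqn 40 true,.eqn 31 false,.eqn 40 false],
[.eqn 31 false,.eqn 40 true,.edge 76,.eqn 31 false,.eqn 40 false,.eqn 31 false],
[.code],
[.code,.eqn 31 false,.eqn 40 true],
[.code],
[.eqn 31 false,.eqn 40 true,.edge 75,.eqn 35 false,.eqn 39 true],
[.code,.eqn 81 false],
[.code,.eqn 100 true,.eqn 81 true],
[.code,.eqn 100 false,.eqn 79 false],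
[.edge 18,.eqn 80 false,.eqn 104 true],
[.code],
[.code,.eqn 81 false,.eqn 100 false],
[.code,.eqn 81 false,.eqn 100 true,.eqn 81 true],
[.edge 18],
[.code],
[.code,.eqn 82 false,.eqn 80 false,.eqn 82 true,.eqn 104 true],
[.code,.eqn 82 true,.eqn 104 true,.eqn 82 false],
[.edge 78,.eqn 40 true,.eqn 31 false,.eqn 40 false],
[.code,.eqn 82 false,.eqn 80 false],
[.code],
[.code,.eqn 104 false,.eqn 82 false,.eqn 80 false],
[.eqn 80 false,.edge 27,.eqn 105 false,.eqn 81 false,.eqn 79 false],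
[.code,.eqn 80 false],
[.code,.eqn 104 true,.eqn 82 true],
[.code,.eqn 80 false,.eqn 82 true,.eqn 104 true],
[.edge 20,.eqn 91 true,.eqn 100 false,.eqn 81 true,.eqn 79 false],
[.code,.eqn 31 false,.eqn 40 false],
[.code],
[.code],
[.eqn 31 false,.edge 76],
[.code],
[.code,.eqn 79 false,.eqn 100 true,.eqn 81 false],
[.code],
[.edge 83,.eqn 31 false,.eqn 40 true,.eqn 31 false],
[.code,.eqn 81 false,.eqn 79 false],
[.code,.eqn 79 false,.eqn 81 true,.eqn 79 false,.eqn 100 true],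
[.code,.eqn 79 false,.eqn 100 true,.eqn 79 false],
[.edge 18,.eqn 82 false,.eqn 80 false,.eqn 82 true],
[.code],
[.code,.eqn 79 false,.eqn 81 false,.eqn 79 false,.eqn 100 false],
[.code,.eqn 79 false,.eqn 81 true,.eqn 100 true],
[.edge 18],
[.code,.eqn 80 false,.eqn 82 true],
[.code,.eqn 82 false,.eqn 80 false,.eqn 104 true,.eqn 80 false],
[.code,.eqn 82 true,.eqn 104 true,.eqn 82 false],
[.edge 78],
[.code,.eqn 40 false],
[.code],
[.code,.eqn 31 false],
[.edge 25,.eqn 89 false],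
[.code,.eqn 31 false,.eqn 40 true],
[.code,.eqn 31 false],
[.code],
[.edge 17,.eqn 79 false,.eqn 100 false,.eqn 81 false],
[.code],
[.code,.eqn 79 false,.eqn 100 true,.eqn 81 true],
[.code,.eqn 81 false,.eqn 79 false,.eqn 100 true],
[.eqn 79 false,.edge 92,.eqn 101 false],
[.code,.eqn 82 false,.eqn 80 false],
[.code],
[.code,.eqn 104 false],
[.edge 20,.eqn 91 true],
[.code,.eqn 81 false,.eqn 100 true,.eqn 81 false],
[.code,.eqn 81 false,.eqn 100 true,.eqn 81 true],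
[.code,.eqn 81 false,.eqn 79 false,.eqn 81 true,.eqn 100 true],
[.edge 18,.eqn 82 false,.eqn 104 false,.eqn 80 false,.eqn 82 false],
[.code,.eqn 81 false,.eqn 79 false,.eqn 81 true],
[.code,.eqn 81 false,.eqn 79 false,.eqn 100 false],
[.code,.eqn 81 false,.eqn 79 false,.eqn 100 true,.eqn 79 false],
[.edge 18]]

/-- A part of the walks. -/
def walks0_2 : List (List Move) := [
[.code,.eqn 35 false,.eqn 39 true,.eqn 35 false],
[.code],
[.code],
[.edge 66,.eqn 70 true,.eqn 74 false],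
[.code,.eqn 82 false,.eqn 80 false,.eqn 104 false],
[.code,.eqn 82 false,.eqn 104 false,.eqn 80 false],
[.code,.eqn 104 false,.eqn 80 false,.eqn 82 false],
[.edge 20,.eqn 91 true,.eqn 79 false,.eqn 81 true],
[.code,.eqn 82 true,.eqn 80 false,.eqn 82 false],
[.code,.eqn 80 false,.eqn 82 false,.eqn 80 false,.eqn 104 true],
[.code,.eqn 104 false,.eqn 82 true,.eqn 80 false],
[.edge 78],
[.code,.eqn 80 false,.eqn 104 false,.eqn 80 false],
[.code],
[.code,.eqn 82 true,.eqn 104 false],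
[.eqn 80 false,.eqn 104 false,.edge 78,.eqn 40 false,.eqn 31 false,.eqn 40 true],
[.code,.eqn 82 true],
[.code,.eqn 80 false,.eqn 82 true,.eqn 104 false],
[.code,.eqn 80 false,.eqn 82 false,.eqn 80 false,.eqn 104 true,.eqn 80 false],
[.edge 20,.eqn 91 true],
[.code,.eqn 104 true,.eqn 82 false],
[.code,.eqn 82 false,.eqn 80 false,.eqn 104 false],
[.code,.eqn 104 false,.eqn 82 false,.eqn 80 false],
[.edge 78],
[.code,.eqn 82 false,.eqn 80 false],
[.code,.eqn 82 false,.eqn 104 true,.eqn 82 true],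
[.code,.eqn 104 false,.eqn 82 false,.eqn 80 false],
[.edge 78,.eqn 31 false,.eqn 40 true,.eqn 31 false],
[.code],
[.code],
[.code],
[.edge 17],
[.code],
[.code,.eqn 81 true,.eqn 100 false],
[.code,.eqn 81 false,.eqn 100 true,.eqn 81 true],
[.edge 18],
[.code,.eqn 80 false,.eqn 82 true],
[.code,.eqn 82 false,.eqn 104 false],
[.code,.eqn 104 false,.eqn 82 false,.eqn 80 false],
[.edge 20,.eqn 91 true,.eqn 81 false,.eqn 79 false,.eqn 100 true],
[.code],
[.code],
[.code],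
[.edge 65,.eqn 70 true,.eqn 74 false],
[.code,.eqn 79 false,.eqn 81 true,.eqn 100 false,.eqn 81 true],
[.code,.eqn 81 false,.eqn 79 false,.eqn 100 true],
[.code,.eqn 81 false,.eqn 100 false,.eqn 79 false,.eqn 81 false],
[.edge 83],
[.code],
[.code,.eqn 79 false,.eqn 81 true,.eqn 100 false,.eqn 81 true],
[.code,.eqn 100 false,.eqn 79 false],
[.eqn 79 false,.eqn 100 false,.edge 83,.eqn 40 true,.eqn 31 false],
[.code,.eqn 82 true,.eqn 104 true,.eqn 82 false],
[.code,.eqn 80 false,.eqn 104 false,.eqn 82 false],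
[.code,.eqn 82 false,.eqn 80 false,.eqn 104 true,.eqn 80 false],
[.eqn 104 true,.edge 78,.eqn 31 false,.eqn 40 false,.eqn 31 false],
[.code,.eqn 80 false,.eqn 104 true,.eqn 80 false],
[.code,.eqn 80 false,.eqn 82 false,.eqn 104 true,.eqn 82 false],
[.code,.eqn 80 false,.eqn 104 false,.eqn 82 false,.eqn 80 false],
[.edge 20,.eqn 91 true],
[.code,.eqn 40 true,.eqn 31 false],
[.code,.eqn 40 false],
[.code,.eqn 31 false,.eqn 40 false,.eqn 31 false],
[.eqn 31 false,.edge 75,.eqn 35 false,.eqn 39 true,.eqn 35 false],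
[.code],
[.code,.eqn 40 true,.eqn 31 false,.eqn 40 false],
[.code,.eqn 31 false,.eqn 40 true],
[.eqn 31 false,.edge 76,.eqn 31 false,.eqn 40 false],
[.code,.eqn 31 false,.eqn 40 false,.eqn 31 false],
[.code,.eqn 40 false,.eqn 31 false],
[.code,.eqn 31 false,.eqn 40 true],
[.eqn 31 false,.eqn 40 true,.edge 76,.eqn 31 false,.eqn 40 true],
[.code,.eqn 40 true,.eqn 31 false,.eqn 40 false],
[.code,.eqn 31 false,.eqn 40 false,.eqn 31 false],
[.code,.eqn 31 false,.eqn 40 true,.eqn 31 false],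
[.eqn 31 false,.eqn 40 true,.edge 76,.eqn 40 true,.eqn 31 false],
[.code],
[.code,.eqn 31 false],
[.code,.eqn 40 false,.eqn 31 false,.eqn 40 true],
[.eqn 31 false,.eqn 40 true,.edge 75,.eqn 37 false,.eqn 39 false],
[.code,.eqn 31 false,.eqn 40 true],
[.code],
[.code],
[.eqn 40 true,.edge 75,.eqn 35 false,.eqn 37 false,.eqn 39 true],
[.code],
[.code,.eqn 35 true],
[.code],
[.eqn 35 false,.edge 5],
[.code,.eqn 82 true,.eqn 80 false,.eqn 82 false],
[.code,.eqn 82 false,.eqn 80 false,.eqn 104 true,.eqn 80 false],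
[.code,.eqn 80 false,.eqn 82 false,.eqn 80 false,.eqn 104 true],
[.edge 20,.eqn 91 true,.eqn 79 false,.eqn 81 false,.eqn 100 true,.eqn 81 true],
[.code,.eqn 40 true],
[.code],
[.code],
[.eqn 31 false,.edge 76,.eqn 40 false,.eqn 31 false,.eqn 40 true],
[.code,.eqn 31 false,.eqn 40 true,.eqn 31 false],
[.code,.eqn 31 false],
[.code,.eqn 31 false],
[.edge 25,.eqn 89 false],
[.code],
[.code,.eqn 31 false],
[.code],
[.edge 17],
[.code],
[.code],
[.code,.eqn 40 false],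
[.edge 17],
[.code,.eqn 35 false,.eqn 39 true,.eqn 35 false],
[.code,.eqn 39 false,.eqn 35 true],
[.code],
[.eqn 35 false,.edge 5],
[.code],
[.code],
[.code],
[.edge 20,.eqn 91 true],
[.code],
[.code,.eqn 31 false,.eqn 40 true,.eqn 31 false],
[.code,.eqn 31 false,.eqn 40 true,.eqn 31 false],
[.eqn 31 false,.edge 75,.eqn 37 false,.eqn 39 true],
[.code,.eqn 40 false],
[.code],
[.code],
[.edge 25,.eqn 89 false],
[.code,.eqn 80 false],
[.code,.eqn 80 false,.eqn 104 true,.eqn 82 true],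
[.code,.eqn 104 true,.eqn 82 false],
[.edge 78,.eqn 40 true,.eqn 31 false],
[.code],
[.code,.eqn 39 true,.eqn 35 true],
[.code],
[.edge 65,.eqn 70 true,.eqn 74 false],
[.code,.eqn 31 false,.eqn 40 false,.eqn 31 false],
[.code],
[.code],
[.eqn 31 false,.edge 75,.eqn 35 true,.eqn 39 false,.eqn 35 true],
[.code,.eqn 31 false,.eqn 40 true,.eqn 31 false],
[.code],
[.code,.eqn 31 false],
[.edge 25,.eqn 89 false],
[.code],
[.code,.eqn 40 false,.eqn 31 false],
[.code,.eqn 40 true,.eqn 31 false],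
[.edge 17],
[.code,.eqn 31 false,.eqn 40 true,.eqn 31 false],
[.code],
[.code],
[.eqn 31 false,.eqn 40 true,.edge 76],
[.code,.eqn 100 false,.eqn 79 false,.eqn 81 false],
[.code],
[.code,.eqn 81 false,.eqn 100 true,.eqn 81 true],
[.eqn 100 false,.edge 83,.eqn 31 false,.eqn 40 false],
[.code,.eqn 79 false,.eqn 81 true,.eqn 100 false,.eqn 81 true],
[.code,.eqn 100 false,.eqn 79 false],
[.code,.eqn 79 false,.eqn 81 false,.eqn 100 true],
[.eqn 100 true,.edge 18],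
[.code,.eqn 35 false,.eqn 39 true,.eqn 35 false],
[.code],
[.code],
[.eqn 39 false,.edge 5],
[.code,.eqn 35 true,.eqn 39 true],
[.code,.eqn 35 false],
[.code,.eqn 35 false],
[.edge 5],
[.code],
[.code,.eqn 80 false,.eqn 82 true,.eqn 104 false,.eqn 82 true],
[.code,.eqn 80 false,.eqn 104 false,.eqn 80 false],
[.edge 20,.eqn 91 true],
[.code],
[.code,.eqn 31 false,.eqn 40 true],
[.code,.eqn 31 false,.eqn 40 true],
[.eqn 31 false,.edge 76,.eqn 40 false,.eqn 31 false,.eqn 40 true],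
[.code],
[.code],
[.code],
[.eqn 37 false,.edge 5],
[.code],
[.code,.eqn 31 false],
[.code,.eqn 40 true,.eqn 31 false,.eqn 40 false],
[.eqn 31 false,.eqn 40 true,.edge 75,.eqn 39 false,.eqn 35 true],
[.code],
[.code],
[.code],
[.edge 66,.eqn 70 true,.eqn 74 false],
[.code],
[.code],
[.code],
[.eqn 37 false,.eqn 39 false,.edge 5],
[.code,.eqn 31 false,.eqn 40 false,.eqn 31 false],
[.code,.eqn 40 false],
[.code,.eqn 40 false,.eqn 31 false,.eqn 40 true],
[.eqn 31 false,.eqn 40 true,.edge 76,.eqn 31 false,.eqn 40 false],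
[.code],
[.code,.eqn 31 false,.eqn 40 true],
[.code],
[.eqn 31 false,.edge 76,.eqn 31 false,.eqn 40 false,.eqn 31 false],
[.code],
[.code],
[.code],
[.eqn 31 false,.eqn 40 true,.edge 76],
[.code,.eqn 35 true,.eqn 39 false,.eqn 35 true],
[.code],
[.code],
[.eqn 35 false,.edge 5],
[.code,.eqn 40 true,.eqn 31 false,.eqn 40 false],
[.code,.eqn 40 false,.eqn 31 false],
[.code,.eqn 40 true],
[.eqn 31 false,.eqn 40 true,.edge 76,.eqn 40 true,.eqn 31 false,.eqn 40 false],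
[.code,.eqn 40 false,.eqn 31 false],
[.code,.eqn 40 true]]

/-- A part of the walks. -/
def walks0_3 : List (List Move) := [
[.code,.eqn 40 true],
[.eqn 31 false,.edge 75,.eqn 35 false,.eqn 39 false,.eqn 35 true],
[.code,.eqn 40 false,.eqn 31 false],
[.code,.eqn 31 false,.eqn 40 true],
[.code],
[.edge 75,.eqn 35 false,.eqn 39 true,.eqn 35 true],
[.code],
[.code,.eqn 35 true],
[.code],
[.edge 65,.eqn 70 true,.eqn 74 false],
[.code],
[.code,.eqn 37 false,.eqn 39 false],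
[.code],
[.eqn 35 false,.edge 5],
[.code,.eqn 82 true,.eqn 80 false,.eqn 82 false],
[.code,.eqn 80 false,.eqn 82 false,.eqn 104 true,.eqn 82 true],
[.code,.eqn 104 true,.eqn 82 false],
[.edge 78],
[.code],
[.code,.eqn 80 false,.eqn 104 false,.eqn 82 false,.eqn 80 false],
[.code,.eqn 82 true,.eqn 104 false],
[.edge 78],
[.code],
[.code],
[.code],
[.eqn 31 false,.eqn 40 true,.edge 76],
[.code],
[.code],
[.code,.eqn 31 false,.eqn 40 false],
[.eqn 31 false,.eqn 40 true,.edge 76,.eqn 40 true,.eqn 31 false],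
[.code],
[.code,.eqn 79 false,.eqn 100 true],
[.code,.eqn 81 false,.eqn 100 true,.eqn 81 true],
[.edge 83,.eqn 31 false],
[.code,.eqn 81 true],
[.code,.eqn 81 false,.eqn 100 false,.eqn 79 false],
[.code],
[.edge 83],
[.code],
[.code,.eqn 40 false,.eqn 31 false],
[.code,.eqn 40 true,.eqn 31 false],
[.eqn 31 false,.edge 76,.eqn 40 false],
[.code],
[.code,.eqn 37 false,.eqn 39 true],
[.code,.eqn 37 false,.eqn 39 false],
[.eqn 37 false,.eqn 39 false,.edge 5,.eqn 40 false,.eqn 31 false],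
[.code,.eqn 35 false,.eqn 39 true,.eqn 35 true],
[.code],
[.code],
[.edge 66,.eqn 70 true,.eqn 74 false],
[.code],
[.code,.eqn 40 false,.eqn 31 false,.eqn 40 true],
[.code,.eqn 31 false,.eqn 40 true],
[.eqn 31 false,.eqn 40 true,.edge 75,.eqn 37 false,.eqn 39 false],
[.code,.eqn 40 false,.eqn 31 false],
[.code],
[.code,.eqn 40 true],
[.edge 17],
[.code],
[.code,.eqn 79 false,.eqn 81 true,.eqn 100 false],
[.code,.eqn 79 false,.eqn 81 true,.eqn 100 true],
[.edge 83,.eqn 40 true,.eqn 31 false,.eqn 40 false],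
[.code],
[.code,.eqn 31 false],
[.code,.eqn 31 false],
[.eqn 31 false,.edge 75],
[.code],
[.code,.eqn 35 false,.eqn 37 false,.eqn 39 true],
[.code],
[.eqn 39 false,.edge 5],
[.code],
[.code],
[.code,.eqn 31 false],
[.edge 25,.eqn 89 false],
[.code,.eqn 31 false,.eqn 40 true,.eqn 31 false],
[.code],
[.code,.eqn 31 false,.eqn 40 true],
[.eqn 31 false,.eqn 40 true,.edge 76],
[.code],
[.code,.eqn 40 false,.eqn 31 false],
[.code,.eqn 40 false,.eqn 31 false],
[.eqn 31 false,.eqn 40 true,.edge 76,.eqn 31 false,.eqn 40 true,.eqn 31 false],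
[.code,.eqn 31 false,.eqn 40 true,.eqn 31 false],
[.code],
[.code,.eqn 40 false,.eqn 31 false,.eqn 40 true],
[.eqn 40 true,.edge 75,.eqn 39 false,.eqn 35 false],
[.code],
[.code],
[.code],
[.eqn 31 false,.eqn 40 true,.edge 76],
[.code,.eqn 40 true,.eqn 31 false],
[.code,.eqn 31 false,.eqn 40 false],
[.code,.eqn 40 false,.eqn 31 false],
[.eqn 31 false,.edge 75,.eqn 35 true,.eqn 39 false,.eqn 35 true],
[.code],
[.code,.eqn 35 true,.eqn 39 false,.eqn 35 true],
[.code],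
[.edge 5],
[.code],
[.code,.eqn 39 true,.eqn 35 false],
[.code],
[.edge 5],
[.code],
[.code,.eqn 40 false,.eqn 31 false],
[.code,.eqn 40 true,.eqn 31 false,.eqn 40 false],
[.eqn 31 false,.eqn 40 true,.edge 75,.eqn 35 true],
[.code,.eqn 39 false,.eqn 35 false],
[.code],
[.code,.eqn 35 false,.eqn 39 true],
[.eqn 35 false,.edge 5,.eqn 40 false,.eqn 31 false],
[.code,.eqn 35 true,.eqn 39 false,.eqn 35 true],
[.code,.eqn 35 true],
[.code],
[.eqn 37 false,.eqn 39 false,.edge 5],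
[.code],
[.code,.eqn 35 false,.eqn 39 false,.eqn 35 true],
[.code],
[.eqn 35 true,.edge 5,.eqn 31 false,.eqn 40 false],
[.code,.eqn 31 false,.eqn 40 false,.eqn 31 false],
[.code],
[.code,.eqn 31 false],
[.edge 75,.eqn 35 true,.eqn 37 false],
[.code,.eqn 40 false,.eqn 31 false,.eqn 40 true],
[.code],
[.code,.eqn 40 true,.eqn 31 false,.eqn 40 false],
[.edge 17],
[.code],
[.code],
[.code],
[.edge 18],
[.code,.eqn 35 true,.eqn 39 false,.eqn 35 true],
[.code,.eqn 35 true,.eqn 39 false],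
[.code],
[.eqn 35 true,.edge 5],
[.code],
[.code,.eqn 35 false,.eqn 39 true,.eqn 35 true],
[.code],
[.edge 5,.eqn 40 true,.eqn 31 false,.eqn 40 false],
[.code],
[.code,.eqn 35 true,.eqn 39 true,.eqn 35 false],
[.code],
[.eqn 37 false,.edge 5,.eqn 31 false,.eqn 40 false],
[.code,.eqn 40 true,.eqn 31 false,.eqn 40 false],
[.code],
[.code,.eqn 31 false,.eqn 40 false],
[.eqn 31 false,.eqn 40 true,.edge 76,.eqn 31 false,.eqn 40 false,.eqn 31 false],
[.code,.eqn 80 false,.eqn 82 true],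
[.code],
[.code,.eqn 80 false,.eqn 82 false],
[.eqn 104 false,.edge 78,.eqn 31 false],
[.code],
[.code,.eqn 104 false,.eqn 82 true],
[.code,.eqn 82 true,.eqn 104 true,.eqn 82 false],
[.edge 20,.eqn 91 true,.eqn 81 false,.eqn 79 false,.eqn 81 true],
[.code],
[.code,.eqn 31 false],
[.code,.eqn 40 false,.eqn 31 false,.eqn 40 true],
[.eqn 31 false,.eqn 40 true,.edge 75,.eqn 35 true,.eqn 37 false],
[.code,.eqn 31 false,.eqn 40 false],
[.code,.eqn 31 false,.eqn 40 false,.eqn 31 false],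
[.code,.eqn 31 false,.eqn 40 true],
[.eqn 31 false,.eqn 40 true,.edge 76],
[.code],
[.code],
[.code],
[.eqn 31 false,.eqn 40 true,.edge 75,.eqn 35 true,.eqn 39 false,.eqn 35 true],
[.code],
[.code],
[.code,.eqn 40 false],
[.eqn 31 false,.edge 76],
[.code,.eqn 31 false,.eqn 40 true,.eqn 31 false],
[.code,.eqn 40 false,.eqn 31 false],
[.code,.eqn 31 false,.eqn 40 true],
[.eqn 31 false,.eqn 40 true,.edge 76,.eqn 40 true,.eqn 31 false,.eqn 40 false],
[.code,.eqn 35 true,.eqn 39 false,.eqn 35 true],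
[.code,.eqn 35 false],
[.code,.eqn 39 true],
[.eqn 37 false,.edge 5,.eqn 40 false,.eqn 31 false,.eqn 40 true],
[.code],
[.code,.eqn 31 false,.eqn 40 true,.eqn 31 false],
[.code,.eqn 31 false,.eqn 40 false,.eqn 31 false],
[.eqn 31 false,.eqn 40 true,.edge 76,.eqn 40 false],
[.code,.eqn 31 false,.eqn 40 true,.eqn 31 false],
[.code,.eqn 40 false],
[.code],
[.edge 75,.eqn 35 false,.eqn 39 true,.eqn 35 false],
[.code,.eqn 35 true],
[.code],
[.code,.eqn 37 false,.eqn 39 false],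
[.eqn 35 true,.edge 5,.eqn 40 false,.eqn 31 false],
[.code,.eqn 35 true,.eqn 39 false,.eqn 35 true],
[.code],
[.code],
[.eqn 37 false,.edge 5],
[.code],
[.code,.eqn 35 false,.eqn 39 false],
[.code,.eqn 35 true,.eqn 39 true],
[.eqn 39 false,.edge 5],
[.code],
[.code,.eqn 35 false,.eqn 39 true,.eqn 35 false],
[.code,.eqn 35 true,.eqn 39 false,.eqn 35 true],
[.eqn 37 false,.eqn 39 false,.edge 5,.eqn 31 false,.eqn 40 true,.eqn 31 false],
[.code,.eqn 31 false,.eqn 40 false],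
[.code],
[.code,.eqn 31 false],
[.eqn 31 false,.eqn 40 true,.edge 76,.eqn 40 true],
[.code],
[.code,.eqn 31 false,.eqn 40 true,.eqn 31 false],
[.code,.eqn 31 false],
[.eqn 31 false,.edge 75,.eqn 39 true,.eqn 35 false]]

/-- A part of the walks. -/
def walks0_4 : List (List Move) := [
[.code],
[.code,.eqn 40 true,.eqn 31 false],
[.code,.eqn 40 false,.eqn 31 false,.eqn 40 true],
[.eqn 31 false,.eqn 40 true,.edge 75,.eqn 35 true,.eqn 39 false],
[.code],
[.code],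
[.code],
[.eqn 35 false,.edge 5],
[.code,.eqn 35 false,.eqn 39 false,.eqn 35 true],
[.code],
[.code],
[.edge 66,.eqn 70 true,.eqn 74 false],
[.code,.eqn 40 false],
[.code],
[.code,.eqn 40 false],
[.eqn 40 true,.edge 75,.eqn 35 true,.eqn 39 false,.eqn 35 true],
[.code],
[.code],
[.code],
[.eqn 39 false,.edge 5],
[.code,.eqn 35 false,.eqn 39 true,.eqn 35 false],
[.code],
[.code,.eqn 35 false],
[.edge 66,.eqn 70 true,.eqn 74 false],
[.code],
[.code,.eqn 31 false],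
[.code],
[.eqn 31 false,.eqn 40 true,.edge 76],
[.code,.eqn 31 false,.eqn 40 true,.eqn 31 false],
[.code,.eqn 31 false,.eqn 40 false,.eqn 31 false],
[.code],
[.eqn 31 false,.edge 76,.eqn 40 true,.eqn 31 false],
[.code,.eqn 40 true,.eqn 31 false,.eqn 40 false],
[.code,.eqn 40 true],
[.code,.eqn 40 false,.eqn 31 false,.eqn 40 true],
[.eqn 31 false,.edge 75,.eqn 35 false,.eqn 39 false,.eqn 35 true],
[.code],
[.code],
[.code],
[.eqn 31 false,.eqn 40 true,.edge 76],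
[.code],
[.code],
[.code],
[.eqn 31 false,.eqn 40 true,.edge 76],
[.code,.eqn 40 true,.eqn 31 false],
[.code],
[.code,.eqn 40 true,.eqn 31 false],
[.eqn 31 false,.edge 75,.eqn 35 false,.eqn 39 true,.eqn 35 false],
[.code,.eqn 31 false,.eqn 40 false,.eqn 31 false],
[.code,.eqn 31 false,.eqn 40 true,.eqn 31 false],
[.code,.eqn 31 false,.eqn 40 false],
[.eqn 31 false,.edge 75,.eqn 35 true],
[.code],
[.code,.eqn 40 false,.eqn 31 false,.eqn 40 true],
[.code,.eqn 31 false,.eqn 40 false,.eqn 31 false],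
[.eqn 31 false,.eqn 40 true,.edge 75,.eqn 37 false,.eqn 39 false],
[.code,.eqn 31 false,.eqn 40 true,.eqn 31 false],
[.code],
[.code],
[.edge 75,.eqn 35 true],
[.code,.eqn 31 false,.eqn 40 false],
[.code],
[.code,.eqn 40 true,.eqn 31 false],
[.eqn 40 true,.edge 75,.eqn 35 true,.eqn 39 true,.eqn 35 false],
[.code],
[.code,.eqn 31 false,.eqn 40 false,.eqn 31 false],
[.code],
[.eqn 31 false,.eqn 40 true,.edge 75,.eqn 35 true,.eqn 39 false,.eqn 35 true],
[.code],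
[.code,.eqn 31 false],
[.code],
[.eqn 31 false,.eqn 40 true,.edge 75,.eqn 35 true,.eqn 39 true],
[.code,.eqn 31 false,.eqn 40 true,.eqn 31 false],
[.code],
[.code,.eqn 40 false],
[.edge 75,.eqn 35 true],
[.code,.eqn 39 false,.eqn 35 true],
[.code],
[.code,.eqn 35 true],
[.edge 5],
[.code,.eqn 35 false,.eqn 39 true,.eqn 35 false],
[.code],
[.code,.eqn 39 false],
[.eqn 35 false,.edge 5],
[.code],
[.code],
[.code],
[.eqn 35 true,.edge 5],
[.code,.eqn 31 false,.eqn 40 false,.eqn 31 false],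
[.code,.eqn 31 false,.eqn 40 true,.eqn 31 false],
[.code,.eqn 40 false,.eqn 31 false,.eqn 40 true],
[.eqn 31 false,.edge 75,.eqn 35 false,.eqn 39 true,.eqn 35 false],
[.code,.eqn 31 false,.eqn 40 false,.eqn 31 false],
[.code],
[.code,.eqn 31 false,.eqn 40 false,.eqn 31 false],
[.eqn 31 false,.eqn 40 true,.edge 76,.eqn 40 true],
[.code,.eqn 79 false,.eqn 81 true],
[.code,.eqn 79 false,.eqn 81 true,.eqn 100 false],
[.code,.eqn 81 false,.eqn 79 false,.eqn 100 true,.eqn 79 false],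
[.edge 83],
[.code],
[.code],
[.code],
[.edge 18],
[.code],
[.code,.eqn 40 true],
[.code],
[.eqn 31 false,.edge 76],
[.code,.eqn 31 false,.eqn 40 false,.eqn 31 false],
[.code,.eqn 40 false],
[.code,.eqn 31 false],
[.eqn 31 false,.edge 75,.eqn 35 false,.eqn 39 false,.eqn 35 true],
[.code,.eqn 31 false,.eqn 40 true,.eqn 31 false],
[.code],
[.code],
[.eqn 31 false,.eqn 40 true,.edge 76,.eqn 31 false,.eqn 40 false,.eqn 31 false],
[.code,.eqn 35 false,.eqn 39 true,.eqn 35 true],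
[.code,.eqn 35 true,.eqn 39 true],
[.code],
[.eqn 37 false,.edge 5],
[.code],
[.code],
[.code],
[.edge 5],
[.code,.eqn 31 false,.eqn 40 false],
[.code,.eqn 31 false,.eqn 40 false],
[.code,.eqn 40 false,.eqn 31 false],
[.eqn 31 false,.eqn 40 true,.edge 76,.eqn 40 true,.eqn 31 false],
[.code,.eqn 31 false,.eqn 40 true,.eqn 31 false],
[.code,.eqn 40 false,.eqn 31 false],
[.code,.eqn 40 false,.eqn 31 false,.eqn 40 true],
[.edge 75,.eqn 39 false],
[.code],
[.code,.eqn 40 true],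
[.code,.eqn 31 false,.eqn 40 true],
[.eqn 31 false,.edge 75,.eqn 35 false,.eqn 39 false],
[.code,.eqn 37 false],
[.code],
[.code,.eqn 39 false,.eqn 35 false],
[.eqn 37 false,.edge 5],
[.code],
[.code],
[.code,.eqn 31 false],
[.eqn 40 true,.edge 75,.eqn 39 true,.eqn 35 false],
[.code],
[.code],
[.code,.eqn 31 false,.eqn 40 true],
[.eqn 31 false,.eqn 40 true,.edge 76],
[.code,.eqn 31 false,.eqn 40 false],
[.code],
[.code,.eqn 40 true,.eqn 31 false],
[.eqn 31 false,.eqn 40 true,.edge 76,.eqn 40 true,.eqn 31 false,.eqn 40 false],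
[.code,.eqn 31 false,.eqn 40 true],
[.code,.eqn 31 false,.eqn 40 true,.eqn 31 false],
[.code,.eqn 40 false,.eqn 31 false],
[.eqn 40 true,.edge 75,.eqn 35 true,.eqn 39 false],
[.code],
[.code,.eqn 40 false],
[.code],
[.eqn 31 false,.edge 76,.eqn 40 false,.eqn 31 false,.eqn 40 true],
[.code],
[.code,.eqn 35 false,.eqn 39 true],
[.code],
[.eqn 37 false,.edge 5,.eqn 31 false,.eqn 40 true,.eqn 31 false],
[.code,.eqn 35 false,.eqn 39 true,.eqn 35 false],
[.code],
[.code],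
[.eqn 37 false,.edge 5],
[.code,.eqn 40 true,.eqn 31 false],
[.code,.eqn 40 false],
[.code,.eqn 31 false],
[.eqn 31 false,.eqn 40 true,.edge 76,.eqn 40 true,.eqn 31 false],
[.code,.eqn 40 true],
[.code],
[.code,.eqn 40 true,.eqn 31 false,.eqn 40 false],
[.eqn 40 true,.edge 76,.eqn 40 false],
[.code],
[.code,.eqn 40 false],
[.code],
[.eqn 31 false,.eqn 40 true,.edge 76,.eqn 40 true],
[.code],
[.code],
[.code,.eqn 31 false,.eqn 40 true],
[.eqn 31 false,.eqn 40 true,.edge 75,.eqn 35 false,.eqn 37 false],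
[.code],
[.code],
[.code],
[.edge 58,.eqn 59 true,.eqn 35 false,.eqn 39 false],
[.code,.eqn 31 false,.eqn 40 false],
[.code],
[.code],
[.eqn 31 false,.eqn 40 true,.edge 76],
[.code],
[.code,.eqn 40 false,.eqn 31 false,.eqn 40 true],
[.code,.eqn 31 false,.eqn 40 true,.eqn 31 false],
[.eqn 31 false,.eqn 40 true,.edge 75,.eqn 39 true,.eqn 35 false],
[.code,.eqn 31 false,.eqn 40 false,.eqn 31 false],
[.code,.eqn 40 true,.eqn 31 false],
[.code,.eqn 31 false,.eqn 40 true],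
[.eqn 31 false,.eqn 40 true,.edge 76,.eqn 40 false,.eqn 31 false],
[.code,.eqn 40 false],
[.code],
[.code,.eqn 31 false,.eqn 40 false],
[.edge 75,.eqn 39 true,.eqn 35 false],
[.code,.eqn 31 false,.eqn 40 false,.eqn 31 false],
[.code,.eqn 31 false],
[.code,.eqn 40 false],
[.eqn 40 true,.edge 76,.eqn 31 false,.eqn 40 true],
[.code,.eqn 40 true,.eqn 31 false,.eqn 40 false],
[.code,.eqn 31 false,.eqn 40 true]]

/-- A part of the walks. -/
def walks0_5 : List (List Move) := [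
[.code,.eqn 31 false],
[.eqn 31 false,.eqn 40 true,.edge 76,.eqn 31 false,.eqn 40 true,.eqn 31 false],
[.code,.eqn 35 false,.eqn 39 true,.eqn 35 true],
[.code],
[.code],
[.edge 58,.eqn 59 true,.eqn 39 true,.eqn 35 false],
[.code],
[.code,.eqn 39 false,.eqn 35 false],
[.code],
[.edge 66,.eqn 70 true,.eqn 74 false],
[.code],
[.code,.eqn 40 false,.eqn 31 false],
[.code],
[.eqn 31 false,.eqn 40 true,.edge 76],
[.code,.eqn 40 true],
[.code],
[.code],
[.eqn 40 true,.edge 75,.eqn 35 true,.eqn 39 true],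
[.code],
[.code,.eqn 31 false],
[.code,.eqn 31 false,.eqn 40 false,.eqn 31 false],
[.eqn 31 false,.eqn 40 true,.edge 76],
[.code,.eqn 31 false,.eqn 40 true,.eqn 31 false],
[.code,.eqn 31 false,.eqn 40 false,.eqn 31 false],
[.code],
[.eqn 40 true,.edge 76,.eqn 31 false,.eqn 40 false,.eqn 31 false],
[.code,.eqn 40 false,.eqn 31 false],
[.code,.eqn 31 false,.eqn 40 true,.eqn 31 false],
[.code,.eqn 31 false,.eqn 40 true],
[.eqn 31 false,.edge 75,.eqn 35 false,.eqn 39 false,.eqn 35 true],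
[.code,.eqn 31 false,.eqn 40 true,.eqn 31 false],
[.code,.eqn 40 false,.eqn 31 false,.eqn 40 true],
[.code],
[.eqn 31 false,.eqn 40 true,.edge 76,.eqn 40 true,.eqn 31 false],
[.code],
[.code],
[.code],
[.eqn 31 false,.edge 76],
[.code],
[.code,.eqn 40 false,.eqn 31 false],
[.code,.eqn 40 true,.eqn 31 false,.eqn 40 false],
[.eqn 31 false,.eqn 40 true,.edge 75,.eqn 39 false],
[.code,.eqn 31 false,.eqn 40 false,.eqn 31 false],
[.code,.eqn 40 true],
[.code],
[.eqn 31 false,.edge 75,.eqn 39 true,.eqn 35 false],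
[.code,.eqn 35 false,.eqn 39 true,.eqn 35 true],
[.code],
[.code,.eqn 35 false,.eqn 37 false],
[.eqn 37 false,.eqn 39 false,.edge 5],
[.code],
[.code,.eqn 31 false,.eqn 40 false,.eqn 31 false],
[.code,.eqn 31 false],
[.eqn 40 true,.edge 76,.eqn 40 true,.eqn 31 false],
[.code,.eqn 31 false,.eqn 40 true,.eqn 31 false],
[.code,.eqn 31 false,.eqn 40 false,.eqn 31 false],
[.code,.eqn 40 false,.eqn 31 false],
[.eqn 31 false,.eqn 40 true,.edge 76,.eqn 31 false,.eqn 40 false,.eqn 31 false],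
[.code,.eqn 37 false],
[.code],
[.code],
[.eqn 39 false,.edge 5],
[.code,.eqn 31 false,.eqn 40 false,.eqn 31 false],
[.code],
[.code,.eqn 31 false,.eqn 40 false,.eqn 31 false],
[.eqn 40 true,.edge 75,.eqn 35 false,.eqn 39 false,.eqn 35 true],
[.code,.eqn 35 false],
[.code],
[.code,.eqn 39 true,.eqn 35 false],
[.eqn 37 false,.edge 5,.eqn 40 false,.eqn 31 false],
[.code,.eqn 34 false,.eqn 33 false,.eqn 38 true],
[.code],
[.code,.eqn 33 false,.eqn 34 false],
[.eqn 33 false,.edge 4],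
[.code],
[.code,.eqn 40 true,.eqn 31 false],
[.code,.eqn 31 false,.eqn 40 true,.eqn 31 false],
[.eqn 31 false,.eqn 40 true,.edge 75,.eqn 37 false,.eqn 39 true],
[.code,.eqn 35 true,.eqn 39 false,.eqn 35 true],
[.code],
[.code,.eqn 39 true,.eqn 35 false],
[.eqn 37 false,.eqn 39 false,.edge 5],
[.code],
[.code],
[.code],
[.eqn 31 false,.eqn 40 true,.edge 75,.eqn 39 true,.eqn 35 true],
[.code],
[.code,.eqn 31 false,.eqn 40 false],
[.code],
[.eqn 31 false,.eqn 40 true,.edge 76],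
[.code,.eqn 31 false,.eqn 40 true,.eqn 31 false],
[.code,.eqn 40 false],
[.code,.eqn 40 false],
[.edge 75,.eqn 35 false,.eqn 39 true],
[.code],
[.code,.eqn 40 true],
[.code,.eqn 40 false,.eqn 31 false,.eqn 40 true],
[.eqn 31 false,.edge 75,.eqn 37 false,.eqn 39 true],
[.code],
[.code,.eqn 34 false],
[.code],
[.eqn 38 false,.edge 4],
[.code,.eqn 39 true,.eqn 35 true],
[.code],
[.code,.eqn 35 false],
[.edge 66,.eqn 70 true,.eqn 74 false],
[.code],
[.code],
[.code],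
[.edge 60,.eqn 38 true],
[.code,.eqn 40 true,.eqn 31 false],
[.code,.eqn 40 true],
[.code,.eqn 40 false],
[.eqn 31 false,.edge 75,.eqn 35 true,.eqn 37 false],
[.code,.eqn 37 false],
[.code],
[.code,.eqn 35 true,.eqn 39 false,.eqn 35 true],
[.eqn 39 false,.edge 5],
[.code,.eqn 35 false,.eqn 39 false,.eqn 35 true],
[.code],
[.code,.eqn 35 false,.eqn 39 true,.eqn 35 false],
[.eqn 37 false,.edge 5],
[.code],
[.code],
[.code],
[.eqn 37 false,.eqn 39 false,.edge 5],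
[.code,.eqn 31 false,.eqn 40 true],
[.code,.eqn 40 true,.eqn 31 false,.eqn 40 false],
[.code,.eqn 40 false,.eqn 31 false],
[.eqn 31 false,.edge 76,.eqn 31 false],
[.code,.eqn 40 false],
[.code],
[.code],
[.edge 76,.eqn 31 false,.eqn 40 true],
[.code,.eqn 31 false,.eqn 40 true],
[.code,.eqn 40 false],
[.code,.eqn 31 false,.eqn 40 true,.eqn 31 false],
[.eqn 31 false,.edge 75,.eqn 37 false,.eqn 39 true],
[.code,.eqn 40 false,.eqn 31 false],
[.code,.eqn 31 false,.eqn 40 true],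
[.code,.eqn 31 false],
[.eqn 31 false,.edge 76,.eqn 40 true,.eqn 31 false,.eqn 40 false],
[.code],
[.code],
[.code],
[.edge 58,.eqn 59 true,.eqn 35 false,.eqn 39 true,.eqn 35 false],
[.code,.eqn 35 false,.eqn 39 false,.eqn 35 true],
[.code],
[.code],
[.edge 60,.eqn 33 true],
[.code],
[.code],
[.code],
[.edge 60,.eqn 33 false,.eqn 34 false,.eqn 38 true,.eqn 34 false],
[.code,.eqn 38 false,.eqn 33 true,.eqn 34 false],
[.code],
[.code,.eqn 34 false,.eqn 36 false,.eqn 38 true,.eqn 33 true],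
[.eqn 33 false,.edge 4],
[.code,.eqn 40 false,.eqn 31 false],
[.code,.eqn 31 false,.eqn 40 true],
[.code,.eqn 31 false,.eqn 40 true],
[.eqn 31 false,.eqn 40 true,.edge 76],
[.code],
[.code,.eqn 31 false,.eqn 40 false],
[.code,.eqn 31 false,.eqn 40 true,.eqn 31 false],
[.eqn 31 false,.edge 75,.eqn 35 false],
[.code,.eqn 35 false,.eqn 39 false],
[.code],
[.code,.eqn 39 false,.eqn 35 true],
[.eqn 35 false,.edge 5],
[.code,.eqn 31 false,.eqn 40 false,.eqn 31 false],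
[.code,.eqn 31 false,.eqn 40 false],
[.code],
[.eqn 31 false,.edge 75,.eqn 39 true,.eqn 35 false],
[.code,.eqn 35 false,.eqn 39 false,.eqn 35 true],
[.code],
[.code],
[.eqn 35 false,.edge 5],
[.code],
[.code],
[.code],
[.edge 58,.eqn 59 true],
[.code],
[.code],
[.code],
[.edge 60,.eqn 38 false,.eqn 34 false,.eqn 33 false],
[.code],
[.code,.eqn 35 false],
[.code],
[.eqn 37 false,.edge 5,.eqn 31 false,.eqn 40 false],
[.code,.eqn 40 true,.eqn 31 false,.eqn 40 false],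
[.code,.eqn 40 true,.eqn 31 false],
[.code,.eqn 40 true],
[.eqn 31 false,.edge 75,.eqn 39 false,.eqn 35 false],
[.code,.eqn 37 false],
[.code],
[.code],
[.eqn 37 false,.eqn 39 false,.edge 5],
[.code],
[.code,.eqn 33 false,.eqn 34 false,.eqn 33 false,.eqn 38 false],
[.code],
[.eqn 32 false,.eqn 38 false,.edge 4],
[.code],
[.code],
[.code,.eqn 37 false,.eqn 39 false],
[.eqn 39 false,.edge 5],
[.code,.eqn 35 false,.eqn 39 true],
[.code],
[.code,.eqn 35 false,.eqn 39 true,.eqn 35 true],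
[.eqn 37 false,.edge 5]]

/-- The walks. -/
def walks0 : List (List Move) := walks0_0 ++ walks0_1 ++ walks0_2 ++ walks0_3 ++ walks0_4 ++ walks0_5

end Cfsg.Agent.J2Uniq.CData
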