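import Cfsg.Agent.Lib.J2Uniq.Cert

/-!
A certificate giving the action on 315 points.
-/

set_option autoImplicit false
set_option maxRecDepth 100000
set_option maxHeartbeats 4000000

namespace Cfsg.Agent.J2Uniq.CData

/-- The deductions. -/
def t1 : Cert := ⟨[⟨false,0,0⟩,⟨false,928,1⟩,⟨false,416,2⟩,⟨false,0,1⟩,⟨true,660,1⟩,⟨true,1632,5⟩,⟨false,4,5⟩,⟨false,416,7⟩,⟨true,1080,8⟩,⟨true,416,9⟩,⟨true,1632,10⟩,⟨true,1859,6⟩,⟨false,194,6⟩,⟨true,1914,6⟩,⟨true,755,3⟩,⟨true,1632,15⟩,⟨false,4,15⟩,⟨false,1394,3⟩,⟨true,1080,18⟩,⟨true,416,19⟩,⟨true,1632,20⟩],[.edge 3,.code,.edge 4,.code,.edge 5],[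
⟨0,1,3,2,false,[.edge 3,.eqn 1 false,.eqn 0 false,.eqn 1 true,.edge 3],[]⟩,
⟨0,1,3,2,false,[.edge 3,.eqn 1 false,.eqn 2 false,.eqn 1 true,.edge 3],[]⟩,
⟨0,1,3,2,false,[.edge 3,.eqn 2 true,.eqn 1 false,.eqn 2 false,.edge 3],[]⟩,
⟨0,2,3,2,false,[.edge 4,.eqn 27 false,.eqn 26 true,.edge 4],[]⟩,
⟨0,1,3,2,false,[.edge 3,.eqn 0 false,.eqn 1 false,.eqn 0 false,.eqn 1 true,.eqn 0 true,.edge 3],[]⟩,
⟨0,2,3,2,false,[.edge 4,.eqn 29 false,.edge 4],[]⟩,
⟨0,1,3,2,false,[.edge 3,.eqn 0 false,.eqn 1 false,.eqn 2 false,.eqn 1 true,.eqn 0 true,.edge 3],[]⟩,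
⟨0,2,3,2,false,[.edge 4,.eqn 25 false,.eqn 26 true,.eqn 31 true,.edge 4],[]⟩,
⟨0,3,3,2,false,[.edge 5,.eqn 32 false,.eqn 28 true,.edge 5],[]⟩,
⟨0,0,0,2,true,[.edge 3,.edge 6],[]⟩,
⟨0,0,1,2,false,[.edge 3,.code],[.code,.code,.eqn 0 false,.edge 34]⟩,
⟨0,0,3,1,true,[.edge 34,.eqn 35 true],[]⟩,
⟨0,4,3,1,true,[.edge 6],[.eqn 35 true]⟩,
⟨0,0,2,21,false,[.code,.eqn 0 false,.eqn 2 true,.edge 34,.eqn 35 true,.code,.edge 7,.code,.edge 8,.code,.edge 8,.code,.edge 9,.code,.edge 10,.code,.edge 11,.code,.edge 12,.code,.edge 13,.code,.edge 13,.code],[.edge 34,.eqn 35 true,.code,.eqn 26 false,.edge 7]⟩,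
⟨416,9,3,1,true,[.edge 12,.eqn 38 false],[]⟩,
⟨1632,10,3,1,true,[.edge 13],[.eqn 38 false]⟩,
⟨0,5,4,2,false,[.edge 7,.eqn 27 false,.eqn 26 true,.edge 7],[]⟩,
⟨416,9,3,2,false,[.edge 39,.edge 9],[]⟩,
⟨1080,8,3,1,true,[.edge 11,.eqn 42 true],[]⟩,
⟨0,5,4,2,false,[.edge 7,.eqn 29 false,.edge 7],[]⟩,
⟨0,7,3,2,false,[.edge 9,.eqn 44 false,.edge 9],[]⟩,
⟨0,6,4,2,false,[.edge 8,.eqn 41 true,.eqn 44 false,.edge 40],[]⟩,
⟨0,5,4,2,false,[.edge 7,.eqn 25 false,.eqn 26 true,.eqn 31 true,.edge 7],[]⟩,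
⟨0,6,4,2,false,[.edge 8,.eqn 47 true,.eqn 41 false,.edge 8],[]⟩,
⟨0,1,2,11,true,[.code,.eqn 31 false,.edge 7,.code,.eqn 41 false,.edge 40,.eqn 46 false,.code,.edge 14,.code,.edge 14,.code,.edge 15,.code],[.edge 3,.code,.eqn 1 false,.edge 34,.eqn 35 true,.code,.eqn 25 false,.eqn 26 true,.edge 7,.code,.edge 7,.code,.edge 6,.eqn 35 true,.code,.eqn 26 true,.edge 4,.code]⟩,
⟨0,13,3,2,false,[.edge 15,.eqn 48 false,.edge 15],[]⟩,
⟨2,1,2,11,true,[.code,.eqn 25 false,.eqn 31 false,.edge 7,.code,.edge 8,.code,.edge 16,.code,.edge 16,.code,.edge 15,.code],[.edge 37,.code,.eqn 31 true,.edge 7,.code,.eqn 41 false,.edge 8,.code,.edge 8,.code,.edge 9,.code,.eqn 45 false,.edge 10,.code]⟩,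
⟨384,1,0,1,true,[.eqn 26 false,.edge 4],[.eqn 31 true,.edge 7]⟩,
⟨384,1,1,2,false,[.eqn 26 false,.edge 4,.code],[.code,.code,.eqn 26 false,.edge 7]⟩,
⟨660,1,3,1,true,[.edge 7,.eqn 53 true],[]⟩,
⟨0,7,3,1,true,[.edge 9,.eqn 53 true],[]⟩,
⟨1632,5,3,1,true,[.edge 8],[.eqn 53 true]⟩,
⟨311,5,3,1,true,[.edge 52],[.eqn 53 true]⟩,
⟨0,7,3,2,false,[.edge 55,.edge 57],[]⟩,
⟨0,8,3,1,true,[.edge 10,.eqn 58 true],[]⟩,
⟨1080,8,3,1,true,[.edge 43,.eqn 58 true],[]⟩,
⟨416,13,4,2,false,[.edge 49,.eqn 28 false,.eqn 30 false,.edge 56],[]⟩,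
⟨1068,8,3,1,true,[.edge 51,.eqn 61 true],[]⟩,
⟨0,13,3,1,true,[.edge 15],[.eqn 61 true]⟩,
⟨288,13,5,0,false,[.eqn 50 false,.eqn 61 true],[.eqn 61 true]⟩,
⟨1068,8,3,2,false,[.edge 62,.eqn 64 true,.edge 63],[]⟩,
⟨0,8,3,1,true,[.edge 59],[.eqn 65 true]⟩,
⟨1080,8,3,1,true,[.edge 60],[.eqn 65 true]⟩,
⟨0,3,3,2,false,[.edge 5,.edge 66],[]⟩,
⟨1632,5,3,1,true,[.edge 8,.eqn 68 false],[.eqn 53 true]⟩,
⟨0,13,3,1,true,[.edge 15,.eqn 68 false],[.eqn 61 true,.eqn 68 false]⟩,
⟨1068,8,3,1,true,[.edge 62,.eqn 68 false],[.eqn 65 true,.eqn 68 false]⟩,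
⟨1033,6,3,1,true,[.edge 67],[.eqn 68 false]⟩,
⟨0,2,2,11,true,[.code,.eqn 30 false,.eqn 32 false,.edge 49,.eqn 61 true,.eqn 68 false,.code,.edge 17,.code,.edge 18,.code,.edge 18,.code,.edge 19,.code],[.edge 4,.code,.eqn 31 true,.edge 7,.eqn 53 true,.code,.eqn 28 true,.edge 56,.eqn 68 false,.code,.edge 69,.code,.edge 52,.eqn 53 true,.code,.eqn 32 false,.edge 5,.code]⟩,
⟨0,15,4,2,false,[.edge 17,.eqn 24 false,.edge 17],[]⟩,
⟨416,17,4,2,false,[.edge 73,.eqn 24 false,.edge 73],[]⟩,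
⟨0,17,3,2,false,[.edge 19,.eqn 74 false,.edge 19],[]⟩,
⟨0,15,4,2,false,[.edge 17,.eqn 33 false,.edge 17],[]⟩,
⟨416,17,4,2,false,[.edge 73,.eqn 33 false,.edge 73],[]⟩,
⟨544,3,0,0,true,[],[.edge 73,.eqn 76 false,.eqn 78 true,.edge 19]⟩,
⟨544,3,2,21,true,[.code,.eqn 33 true,.edge 72,.code,.eqn 28 true,.edge 49,.eqn 61 true,.eqn 68 false,.code,.edge 70,.code,.edge 70,.code,.edge 70,.code,.edge 20,.code,.edge 21,.code,.edge 22,.code,.edge 23,.code,.edge 23,.code],[.edge 73,.code]⟩,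
⟨4,20,4,2,false,[.edge 80,.eqn 75 false,.eqn 78 false,.eqn 75 true,.edge 80],[]⟩,
⟨416,19,3,2,false,[.edge 22,.eqn 81 false,.edge 22],[]⟩,
⟨546,3,0,1,true,[.edge 20],[.edge 17]⟩,
⟨546,3,1,2,false,[.edge 20,.code],[.code,.code,.edge 73]⟩,
⟨33,15,3,1,true,[.edge 83,.eqn 84 false],[]⟩,
⟨1080,18,3,1,true,[.edge 21],[.eqn 84 false]⟩,
⟨4,15,4,2,false,[.edge 19,.edge 86],[]⟩,
⟨1565,19,5,0,false,[.eqn 82 false,.eqn 87 false],[.eqn 87 false]⟩]⟩

/-- The involution. -/
def th1 : ℕ := 1080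

/-- The terms. -/
def terms1 : List (ℕ × ℕ) := [(0,0),(0,1),(642,3),(2,1),(206,3),(683,3),(203,3),(219,3),(1447,3),(105,2),(1255,3),(202,3),(93,3),(1757,3),(977,3),(608,2),(211,15),(609,2),(1173,17),(1756,3),(129,3),(266,3),(382,2),(363,2),(0,2),(626,2),(1883,3),(627,2),(1043,3),(128,3),(343,3),(377,2),(417,2),(726,2),(608,3),(78,15),(868,15),(170,15),(1333,3),(727,2),(416,2),(168,15),(1765,17),(1553,17),(65,17),(897,3),(2,2),(98,3),(167,15),(416,1),(832,17),(417,1),(283,15),(610,3),(1867,3),(738,3),(1026,3),(825,17),(1539,17),(1394,3),(759,3),(1882,3),(35,15),(107,17),(163,3),(202,2),(45,2),(91,3),(747,3),(751,3),(1615,17),(915,3),(10,17),(928,1),(47,15),(193,15),(268,15),(1102,3),(1095,3),(733,15),(930,1),(183,15),(1504,3),(1090,3),(1032,3),(232,3),(236,3),(1365,3),(47,3),(110,15),(67,15),(784,17),(84,17),(420,17),(640,3),(364,15),(79,15),(95,15),(218,17),(549,3),(614,3),(821,15),(472,17),(371,15),(296,15),(899,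2),(425,17),(61,17),(1261,17),(851,17),(247,17),(7,17),(736,3),(165,15),(776,17),(1122,2),(221,15),(807,15),(1403,17),(479,17),(493,3),(1647,3),(26,3),(75,3),(79,3),(200,3),(1120,2),(846,17),(512,3),(1506,3),(1034,3),(1088,3),(1718,2),(798,17),(1344,3),(1864,3),(6,17),(930,2),(1469,3),(756,3),(1024,3),(17,3),(550,15),(972,15),(805,2),(1184,2),(834,17),(1758,3),(830,2),(110,3),(1090,2),(1440,2),(59,3),(253,3),(314,3),(1002,2),(221,3),(685,3),(1834,3),(1140,2),(1142,2),(172,17),(796,17),(0,3),(39,3),(81,15),(65,15),(963,3),(1367,2),(1108,2),(312,3),(1115,3),(77,15),(1122,3),(1634,2),(757,3),(321,3),(177,3),(335,3),(224,3),(1658,3),(828,2),(1600,2),(21,3),(1290,2),(1543,2),(1815,2),(577,3),(1868,3),(265,15),(1866,2),(1613,2),(1602,2),(299,3),(1302,17),(786,17),(53,3),(288,3),(344,3),(1120,3),(139,3),(1208,2),(123,3),(1632,3),(1505,2),(1100,2),(1442,2),(1466,2),(320,3),(147,3),(264,3),(928,2),(988,2),(411,3),(1464,2),(1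468,2),(7,3),(595,3),(1847,3),(346,3),(96,3),(1751,3),(1068,3),(487,3),(576,3),(517,3),(226,3),(130,3),(1440,3),(1216,2),(1293,2),(1088,2),(496,3),(484,3),(189,15),(366,15),(1346,3),(988,3),(1732,3),(1567,2),(1536,2),(161,3),(1056,3),(1661,3),(414,2),(858,3),(1749,3),(331,3),(794,3),(928,3),(1631,2),(1803,2),(231,3),(434,3),(64,3),(1735,3),(145,2),(160,3),(105,3),(247,3),(695,3),(1203,3),(81,3),(113,2),(1797,2),(108,3),(416,3),(501,3),(1545,3),(1831,3),(192,3),(234,3),(1351,3),(1367,3),(577,2),(856,3),(22,3),(594,2),(417,3),(1203,2),(1216,1),(66,3),(1441,2),(2,3),(61,3),(864,3),(602,3),(1632,1),(582,2),(130,2),(1644,3),(485,2),(566,2),(1632,2),(65,3),(693,3),(673,3),(80,3),(128,2),(281,2),(98,2),(1217,1),(310,3),(930,3),(717,2),(1275,3),(1911,2),(96,2),(131,2),(1538,2),(937,3),(576,2),(1634,1),(1349,2),(1388,2)]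

/-- A part of the walks. -/
def walks1_0 : List (List Move) := [
[.code,.eqn 0 false],
[.code,.eqn 1 false],
[.code,.eqn 2 false],
[.edge 3],
[.code],
[.code],
[.code],
[.edge 6,.eqn 35 true,.eqn 25 false,.eqn 26 false,.eqn 27 false,.eqn 26 false],
[.code],
[.code],
[.code,.eqn 24 false,.eqn 33 true],
[.eqn 33 false,.eqn 24 false,.edge 69,.eqn 28 false],
[.code],
[.code],
[.code],
[.edge 36,.eqn 0 false,.eqn 1 false,.eqn 0 false,.eqn 2 false,.eqn 1 false,.eqn 2 false,.eqn 1 false,.eqn 2 true,.eqn 1 false,.eqn 0 false,.eqn 2 true],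
[.code,.eqn 33 false],
[.code,.eqn 24 false,.eqn 33 true],
[.code,.eqn 24 false,.eqn 33 true,.eqn 24 false],
[.edge 69,.eqn 28 false,.eqn 30 false],
[.code,.eqn 24 false],
[.code,.eqn 33 true],
[.code,.eqn 24 false,.eqn 33 false,.eqn 24 false],
[.eqn 24 false,.edge 69,.eqn 32 true,.eqn 28 true],
[.code,.eqn 33 false,.eqn 24 false],
[.code,.eqn 24 false,.eqn 33 false,.eqn 24 false],
[.code,.eqn 33 false,.eqn 24 false],
[.edge 70,.eqn 33 true,.eqn 24 false,.eqn 33 false],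
[.code,.eqn 24 false],
[.code],
[.code,.eqn 24 false,.eqn 33 true,.eqn 24 false],
[.edge 70],
[.code,.eqn 24 false,.eqn 33 true],
[.code],
[.code,.eqn 33 true,.eqn 24 false],
[.eqn 24 false,.edge 69,.eqn 32 true,.eqn 28 true],
[.code,.eqn 28 true,.eqn 32 false],
[.code],
[.code],
[.edge 54,.eqn 25 false,.eqn 31 false,.eqn 26 false],
[.code,.eqn 24 false,.eqn 33 true],
[.code,.eqn 24 false,.eqn 33 false],
[.code,.eqn 33 false,.eqn 24 false],
[.eqn 24 false,.edge 69,.eqn 28 false,.eqn 32 false,.eqn 28 true],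
[.code],
[.code,.eqn 24 false,.eqn 33 false],
[.code,.eqn 33 false,.eqn 24 false],
[.edge 70,.eqn 24 false,.eqn 33 false],
[.code],
[.code,.eqn 33 true],
[.code,.eqn 24 false,.eqn 33 true,.eqn 24 false],
[.edge 70],
[.code,.eqn 24 false,.eqn 33 false],
[.code,.eqn 33 false,.eqn 24 false],
[.code,.eqn 33 true,.eqn 24 false],
[.eqn 24 false,.edge 69,.eqn 30 false,.eqn 32 true],
[.code],
[.code],
[.code,.eqn 24 false,.eqn 33 true],
[.eqn 24 false,.edge 69,.eqn 28 false,.eqn 32 false,.eqn 28 true],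
[.code,.eqn 30 false],
[.code],
[.code,.eqn 28 false,.eqn 32 true,.eqn 28 false],
[.eqn 28 true,.edge 5],
[.code],
[.code,.eqn 77 true,.eqn 88 false,.eqn 74 false],
[.code,.eqn 77 true,.eqn 74 false,.eqn 88 true],
[.edge 19,.eqn 76 false,.eqn 78 false,.eqn 76 false],
[.code],
[.code],
[.code,.eqn 28 true,.eqn 30 false],
[.eqn 28 true,.edge 5],
[.code,.eqn 76 false,.eqn 78 false,.eqn 75 false],
[.code,.eqn 78 true,.eqn 76 false],
[.code],
[.edge 85,.eqn 77 false],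
[.code],
[.code],
[.code],
[.eqn 24 false,.edge 69,.eqn 32 false,.eqn 28 true],
[.code],
[.code],
[.code,.eqn 33 false,.eqn 24 false],
[.edge 70],
[.code],
[.code],
[.code,.eqn 24 false,.eqn 33 false,.eqn 24 false],
[.edge 70,.eqn 24 false,.eqn 33 false,.eqn 24 false],
[.code,.eqn 28 false,.eqn 32 true,.eqn 28 true],
[.code],
[.code],
[.edge 54,.eqn 31 false,.eqn 26 false],
[.code],
[.code],
[.code],
[.edge 52,.eqn 53 true],
[.code],
[.code],
[.code],
[.edge 52,.eqn 53 true],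
[.code,.eqn 30 false],
[.code],
[.code,.eqn 28 true,.eqn 32 true],
[.eqn 28 true,.eqn 30 false,.edge 5],
[.code,.eqn 24 false,.eqn 33 true,.eqn 24 false],
[.code],
[.code],
[.edge 79],
[.code],
[.code],
[.code,.eqn 28 false,.eqn 30 false,.eqn 32 true],
[.eqn 28 true,.eqn 30 false,.edge 5],
[.code,.eqn 24 false,.eqn 33 true],
[.code,.eqn 24 false,.eqn 33 true],
[.code,.eqn 24 false,.eqn 33 true,.eqn 24 false],
[.edge 20,.eqn 84 false],
[.code],
[.code],
[.code],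
[.edge 70],
[.code,.eqn 33 false,.eqn 24 false],
[.code],
[.code,.eqn 33 true,.eqn 24 false,.eqn 33 false],
[.edge 70,.eqn 33 true],
[.code],
[.code],
[.code],
[.edge 54,.eqn 25 false,.eqn 31 false,.eqn 27 false,.eqn 31 true],
[.code,.eqn 28 true,.eqn 32 true],
[.code],
[.code,.eqn 32 true,.eqn 28 true],
[.edge 5],
[.code,.eqn 32 false,.eqn 28 false],
[.code],
[.code,.eqn 28 true,.eqn 32 false,.eqn 28 true],
[.eqn 28 false,.edge 5],
[.code],
[.code],
[.code],
[.edge 79],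
[.code,.eqn 77 false,.eqn 74 false],
[.code,.eqn 77 true,.eqn 88 true],
[.code,.eqn 88 true,.eqn 74 false,.eqn 77 true],
[.edge 19,.eqn 78 true,.eqn 75 false,.eqn 78 false,.eqn 76 false],
[.code,.eqn 88 true],
[.code,.eqn 74 false,.eqn 88 true,.eqn 74 false],
[.code,.eqn 88 false,.eqn 74 false,.eqn 88 false],
[.eqn 88 true,.edge 17,.eqn 24 false,.eqn 33 false],
[.code],
[.code,.eqn 77 false,.eqn 74 false,.eqn 77 true,.eqn 88 true],
[.code,.eqn 77 false,.eqn 74 false,.eqn 88 true],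
[.edge 17,.eqn 33 false],
[.code,.eqn 33 true,.eqn 24 false,.eqn 33 false],
[.code],
[.code],
[.edge 20,.eqn 84 false],
[.code,.eqn 30 false],
[.code],
[.code,.eqn 28 true,.eqn 32 false],
[.eqn 28 false,.edge 5],
[.code,.eqn 30 false],
[.code],
[.code,.eqn 28 false],
[.edge 5],
[.code],
[.code,.eqn 88 false,.eqn 74 false],
[.code,.eqn 88 false,.eqn 74 false],
[.edge 19],
[.code,.eqn 75 false,.eqn 76 false],
[.code,.eqn 75 false,.eqn 76 false,.eqn 78 false,.eqn 76 false],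
[.code,.eqn 76 false,.eqn 78 true,.eqn 75 false,.eqn 76 false],
[.eqn 78 true,.eqn 76 false,.edge 85,.eqn 74 false,.eqn 77 false],
[.code],
[.code,.eqn 75 false,.eqn 78 true,.eqn 75 false,.eqn 76 false],
[.code,.eqn 76 false,.eqn 75 false,.eqn 78 false],
[.edge 73,.eqn 24 false,.eqn 33 false,.eqn 24 false],
[.code,.eqn 76 false,.eqn 78 false,.eqn 76 false],
[.code,.eqn 75 false,.eqn 78 true,.eqn 75 false],
[.code,.eqn 76 false,.eqn 78 false,.eqn 75 false],
[.eqn 78 false,.eqn 76 false,.edge 73],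
[.code],
[.code,.eqn 33 true,.eqn 24 false],
[.code,.eqn 33 false],
[.edge 79,.eqn 74 false,.eqn 88 false,.eqn 74 false,.eqn 88 false],
[.code],
[.code],
[.code],
[.edge 54,.eqn 26 false,.eqn 31 false,.eqn 27 false,.eqn 31 false],
[.code],
[.code],
[.code],
[.edge 69,.eqn 30 false,.eqn 32 true],
[.code,.eqn 77 false],
[.code,.eqn 77 false,.eqn 88 true,.eqn 74 false],
[.code,.eqn 88 true,.eqn 77 true],
[.edge 17],
[.code,.eqn 25 false,.eqn 29 false],
[.code],
[.code,.eqn 26 true],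
[.eqn 26 false,.edge 4],
[.code],
[.code,.eqn 75 false,.eqn 76 false,.eqn 75 false,.eqn 78 false],
[.code,.eqn 76 false,.eqn 78 true,.eqn 75 false,.eqn 78 false],
[.edge 73,.eqn 24 false],
[.code,.eqn 25 false],
[.code],
[.code,.eqn 25 false,.eqn 27 false,.eqn 31 false,.eqn 26 false],
[.eqn 26 false,.edge 4],
[.code],
[.code,.eqn 74 false,.eqn 77 false,.eqn 88 true]]

/-- A part of the walks. -/
def walks1_1 : List (List Move) := [
[.code,.eqn 88 true,.eqn 74 false,.eqn 77 false],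
[.edge 17,.eqn 24 false],
[.code],
[.code],
[.code],
[.edge 20,.eqn 84 false],
[.code,.eqn 24 false,.eqn 33 false],
[.code],
[.code,.eqn 33 true,.eqn 24 false],
[.edge 79],
[.code],
[.code],
[.code,.eqn 33 true],
[.edge 20,.eqn 84 false],
[.code],
[.code,.eqn 33 true,.eqn 24 false,.eqn 33 false],
[.code,.eqn 33 false,.eqn 24 false,.eqn 33 true],
[.edge 20,.eqn 84 false,.eqn 75 false,.eqn 76 false,.eqn 75 false,.eqn 76 false,.eqn 75 false],
[.code,.eqn 75 false,.eqn 76 false,.eqn 75 false,.eqn 76 false,.eqn 75 false],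
[.code],
[.code,.eqn 78 true,.eqn 75 false,.eqn 76 false,.eqn 78 true],
[.edge 85,.eqn 74 false,.eqn 77 false,.eqn 88 true],
[.code],
[.code,.eqn 76 false,.eqn 75 false,.eqn 78 true],
[.code,.eqn 75 false,.eqn 78 true,.eqn 75 false,.eqn 76 false],
[.edge 85],
[.code,.eqn 24 false,.eqn 33 false,.eqn 24 false],
[.code],
[.code,.eqn 33 false,.eqn 24 false,.eqn 33 true],
[.edge 20,.eqn 84 false,.eqn 75 false,.eqn 76 false,.eqn 75 false,.eqn 76 false],
[.code,.eqn 33 true,.eqn 24 false],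
[.code],
[.code,.eqn 33 true,.eqn 24 false],
[.edge 79],
[.code,.eqn 24 false,.eqn 33 false],
[.code],
[.code,.eqn 33 false],
[.edge 79],
[.code,.eqn 88 true,.eqn 74 false,.eqn 88 true],
[.code,.eqn 74 false,.eqn 88 true],
[.code,.eqn 77 false,.eqn 88 true,.eqn 74 false,.eqn 88 false],
[.edge 19],
[.code,.eqn 75 false,.eqn 76 false,.eqn 75 false,.eqn 76 false,.eqn 75 false],
[.code,.eqn 78 true],
[.code,.eqn 76 false,.eqn 75 false,.eqn 78 false,.eqn 76 false],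
[.eqn 78 false,.eqn 76 false,.edge 73],
[.code],
[.code,.eqn 33 false,.eqn 24 false],
[.code,.eqn 24 false,.eqn 33 false],
[.edge 69,.eqn 28 true,.eqn 32 false],
[.code,.eqn 28 false,.eqn 32 false,.eqn 28 true],
[.code],
[.code],
[.edge 52,.eqn 53 true,.eqn 30 false,.eqn 32 true],
[.code,.eqn 32 true,.eqn 28 false],
[.code],
[.code],
[.edge 52,.eqn 53 true,.eqn 28 false,.eqn 32 true,.eqn 28 true],
[.code,.eqn 33 true],
[.code,.eqn 24 false,.eqn 33 false],
[.code,.eqn 24 false,.eqn 33 false],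
[.edge 70],
[.code,.eqn 33 true],
[.code],
[.code,.eqn 33 true,.eqn 24 false],
[.edge 79],
[.code,.eqn 33 false,.eqn 24 false],
[.code],
[.code],
[.edge 20,.eqn 84 false],
[.code,.eqn 75 false,.eqn 76 false,.eqn 78 true],
[.code,.eqn 75 false,.eqn 76 false,.eqn 75 false,.eqn 78 true],
[.code,.eqn 75 false,.eqn 76 false,.eqn 75 false,.eqn 78 true],
[.edge 85,.eqn 74 false],
[.code],
[.code,.eqn 24 false,.eqn 33 true],
[.code,.eqn 33 false,.eqn 24 false],
[.edge 20,.eqn 84 false],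
[.code,.eqn 78 true,.eqn 75 false,.eqn 78 false,.eqn 76 false],
[.code,.eqn 75 false,.eqn 76 false,.eqn 78 true,.eqn 75 false],
[.code,.eqn 78 false],
[.eqn 78 false,.eqn 76 false,.edge 73],
[.code],
[.code],
[.code],
[.edge 4],
[.code,.eqn 88 false],
[.code,.eqn 74 false,.eqn 77 false,.eqn 74 false,.eqn 88 true],
[.code,.eqn 77 false,.eqn 88 false,.eqn 77 false,.eqn 74 false],
[.edge 19,.eqn 76 false,.eqn 78 false,.eqn 75 false,.eqn 78 true],
[.code],
[.code,.eqn 88 true,.eqn 74 false,.eqn 77 true],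
[.code,.eqn 77 true,.eqn 74 false,.eqn 88 true],
[.edge 17,.eqn 33 false,.eqn 24 false],
[.code,.eqn 74 false,.eqn 77 true],
[.code,.eqn 77 false,.eqn 74 false,.eqn 88 false],
[.code,.eqn 88 true,.eqn 74 false],
[.edge 17],
[.code,.eqn 24 false,.eqn 33 false,.eqn 24 false],
[.code],
[.code,.eqn 33 true,.eqn 24 false],
[.edge 20,.eqn 84 false],
[.code,.eqn 24 false,.eqn 33 true],
[.code,.eqn 24 false,.eqn 33 true,.eqn 24 false],
[.code],
[.edge 79],
[.code,.eqn 77 true,.eqn 74 false,.eqn 88 true],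
[.code],
[.code,.eqn 77 false,.eqn 88 false,.eqn 77 false,.eqn 74 false],
[.eqn 88 false,.edge 17,.eqn 33 false,.eqn 24 false],
[.code],
[.code],
[.code],
[.eqn 25 false,.edge 4],
[.code],
[.code,.eqn 77 false,.eqn 88 true],
[.code,.eqn 88 true,.eqn 77 true],
[.edge 17,.eqn 33 false,.eqn 24 false],
[.code],
[.code],
[.code,.eqn 24 false,.eqn 33 false],
[.edge 79],
[.code],
[.code,.eqn 24 false],
[.code,.eqn 24 false,.eqn 33 false,.eqn 24 false],
[.edge 20,.eqn 84 false],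
[.code],
[.code,.eqn 24 false,.eqn 33 true,.eqn 24 false],
[.code,.eqn 24 false,.eqn 33 true],
[.edge 20,.eqn 84 false],
[.code],
[.code,.eqn 33 false,.eqn 24 false],
[.code],
[.edge 69,.eqn 32 false],
[.code,.eqn 33 true,.eqn 24 false],
[.code,.eqn 33 false,.eqn 24 false,.eqn 33 true],
[.code,.eqn 33 false,.eqn 24 false,.eqn 33 true],
[.edge 70,.eqn 24 false,.eqn 33 true],
[.code],
[.code,.eqn 33 true,.eqn 24 false,.eqn 33 false],
[.code,.eqn 33 true,.eqn 24 false,.eqn 33 false],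
[.eqn 24 false,.edge 70,.eqn 24 false,.eqn 33 true],
[.code],
[.code,.eqn 33 true,.eqn 24 false],
[.code],
[.edge 69,.eqn 30 false,.eqn 32 false],
[.code,.eqn 74 false,.eqn 77 true,.eqn 74 false],
[.code,.eqn 74 false,.eqn 77 false,.eqn 88 false,.eqn 77 false],
[.code,.eqn 74 false,.eqn 77 true,.eqn 74 false,.eqn 88 true],
[.edge 19,.eqn 75 false,.eqn 76 false,.eqn 78 false,.eqn 76 false],
[.code],
[.code,.eqn 77 false,.eqn 88 false,.eqn 77 false,.eqn 74 false],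
[.code,.eqn 74 false,.eqn 77 false,.eqn 88 false,.eqn 77 false],
[.edge 19],
[.code],
[.code,.eqn 75 false,.eqn 78 false,.eqn 75 false,.eqn 76 false],
[.code,.eqn 75 false,.eqn 78 false,.eqn 76 false,.eqn 78 true],
[.edge 73,.eqn 24 false],
[.code,.eqn 75 false],
[.code],
[.code,.eqn 76 false,.eqn 78 true],
[.eqn 78 false,.eqn 76 false,.edge 85,.eqn 77 false,.eqn 74 false,.eqn 77 true],
[.code,.eqn 78 false,.eqn 76 false,.eqn 78 true],
[.code,.eqn 78 true,.eqn 75 false,.eqn 78 false,.eqn 76 false],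
[.code,.eqn 76 false,.eqn 75 false,.eqn 76 false],
[.edge 85,.eqn 77 false,.eqn 74 false,.eqn 88 false],
[.code],
[.code],
[.code],
[.eqn 24 false,.edge 71],
[.code],
[.code,.eqn 77 false,.eqn 88 true],
[.code],
[.edge 17,.eqn 33 true,.eqn 24 false,.eqn 33 false],
[.code,.eqn 74 false,.eqn 77 true],
[.code,.eqn 74 false,.eqn 88 true,.eqn 77 true],
[.code,.eqn 88 true,.eqn 74 false,.eqn 77 false],
[.edge 19,.eqn 76 false,.eqn 78 false,.eqn 76 false],
[.code],
[.code,.eqn 74 false,.eqn 88 true,.eqn 77 true],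
[.code,.eqn 88 true,.eqn 74 false,.eqn 77 false],
[.edge 19],
[.code,.eqn 75 false,.eqn 78 true,.eqn 76 false,.eqn 75 false],
[.code,.eqn 76 false,.eqn 78 false],
[.code,.eqn 75 false,.eqn 78 true,.eqn 75 false],
[.eqn 78 false,.eqn 76 false,.edge 73],
[.code,.eqn 33 false],
[.code],
[.code],
[.edge 20,.eqn 84 false],
[.code,.eqn 33 true,.eqn 24 false,.eqn 33 false],
[.code,.eqn 24 false,.eqn 33 false,.eqn 24 false],
[.code,.eqn 33 false,.eqn 24 false],
[.edge 79,.eqn 77 false,.eqn 74 false,.eqn 77 true,.eqn 88 false],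
[.code],
[.code,.eqn 77 true,.eqn 74 false,.eqn 88 true],
[.code,.eqn 74 false,.eqn 88 false],
[.eqn 74 false,.eqn 88 true,.edge 19],
[.code,.eqn 75 false,.eqn 76 false,.eqn 78 false,.eqn 75 false],
[.code],
[.code,.eqn 76 false,.eqn 78 true,.eqn 75 false],
[.edge 85],
[.code,.eqn 77 true,.eqn 74 false,.eqn 88 true],
[.code,.eqn 74 false,.eqn 88 false,.eqn 74 false,.eqn 88 false],
[.code,.eqn 88 true,.eqn 74 false,.eqn 88 true],
[.edge 19,.eqn 75 false,.eqn 76 false,.eqn 78 false,.eqn 75 false],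
[.code,.eqn 77 true],
[.code,.eqn 74 false,.eqn 88 false,.eqn 74 false],
[.code,.eqn 77 true,.eqn 88 true],
[.edge 19,.eqn 75 false,.eqn 78 true,.eqn 76 false,.eqn 75 false]]

/-- A part of the walks. -/
def walks1_2 : List (List Move) := [
[.code,.eqn 32 true,.eqn 28 false],
[.code],
[.code],
[.eqn 28 true,.eqn 30 false,.edge 5],
[.code,.eqn 75 false,.eqn 76 false,.eqn 75 false],
[.code],
[.code,.eqn 75 false],
[.edge 85,.eqn 74 false,.eqn 77 false],
[.code,.eqn 76 false,.eqn 78 false,.eqn 76 false],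
[.code,.eqn 78 false,.eqn 75 false],
[.code,.eqn 75 false,.eqn 76 false,.eqn 75 false,.eqn 78 true],
[.eqn 78 false,.eqn 76 false,.edge 73],
[.code,.eqn 76 false,.eqn 78 false,.eqn 75 false],
[.code],
[.code,.eqn 78 false,.eqn 75 false,.eqn 78 true,.eqn 76 false],
[.eqn 76 false,.edge 73,.eqn 33 true],
[.code,.eqn 75 false,.eqn 76 false,.eqn 78 true],
[.code,.eqn 78 false,.eqn 75 false,.eqn 76 false],
[.code,.eqn 78 false,.eqn 75 false,.eqn 76 false],
[.edge 85,.eqn 74 false,.eqn 77 false],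
[.code,.eqn 76 false,.eqn 75 false],
[.code,.eqn 78 false],
[.code,.eqn 78 true,.eqn 75 false,.eqn 76 false],
[.eqn 78 false,.eqn 76 false,.edge 73],
[.code,.eqn 75 false,.eqn 78 true,.eqn 76 false],
[.code,.eqn 75 false,.eqn 76 false,.eqn 75 false],
[.code,.eqn 78 true,.eqn 76 false,.eqn 78 true],
[.eqn 78 false,.eqn 76 false,.edge 73,.eqn 33 true,.eqn 24 false,.eqn 33 false],
[.code],
[.code],
[.code],
[.edge 79],
[.code],
[.code,.eqn 77 false,.eqn 74 false,.eqn 77 true,.eqn 88 true],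
[.code,.eqn 88 true,.eqn 77 true],
[.edge 19],
[.code,.eqn 76 false,.eqn 78 true,.eqn 75 false,.eqn 78 false],
[.code,.eqn 76 false,.eqn 78 true,.eqn 75 false,.eqn 78 false],
[.code,.eqn 75 false,.eqn 78 false,.eqn 76 false,.eqn 78 true],
[.edge 85,.eqn 88 true,.eqn 74 false],
[.code],
[.code],
[.code],
[.eqn 28 false,.eqn 30 false,.edge 5],
[.code,.eqn 77 true,.eqn 74 false,.eqn 88 false],
[.code,.eqn 77 false,.eqn 74 false,.eqn 77 true,.eqn 88 false],
[.code,.eqn 77 false,.eqn 88 true,.eqn 74 false],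
[.edge 17],
[.code],
[.code,.eqn 77 true,.eqn 88 false],
[.code,.eqn 77 false,.eqn 74 false,.eqn 88 false],
[.eqn 74 false,.eqn 88 true,.edge 17,.eqn 33 true,.eqn 24 false,.eqn 33 false],
[.code,.eqn 75 false,.eqn 76 false,.eqn 75 false],
[.code,.eqn 75 false,.eqn 76 false,.eqn 75 false],
[.code,.eqn 78 false,.eqn 75 false,.eqn 78 true,.eqn 76 false],
[.eqn 75 false,.eqn 76 false,.edge 73,.eqn 24 false,.eqn 33 false],
[.code,.eqn 75 false,.eqn 78 true,.eqn 76 false],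
[.code,.eqn 75 false,.eqn 78 true,.eqn 76 false,.eqn 78 true],
[.code,.eqn 76 false,.eqn 75 false,.eqn 78 true],
[.edge 85],
[.code,.eqn 24 false,.eqn 33 true],
[.code,.eqn 33 true,.eqn 24 false],
[.code,.eqn 33 false],
[.eqn 24 false,.edge 69,.eqn 30 false,.eqn 32 false],
[.code],
[.code,.eqn 33 true,.eqn 24 false],
[.code,.eqn 33 true],
[.eqn 24 false,.edge 70,.eqn 33 true,.eqn 24 false],
[.code,.eqn 24 false],
[.code,.eqn 33 true,.eqn 24 false,.eqn 33 false],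
[.code,.eqn 33 false,.eqn 24 false],
[.edge 70,.eqn 33 false,.eqn 24 false],
[.code,.eqn 33 false,.eqn 24 false],
[.code,.eqn 33 false,.eqn 24 false],
[.code,.eqn 24 false,.eqn 33 true],
[.edge 70,.eqn 24 false,.eqn 33 false,.eqn 24 false],
[.code],
[.code,.eqn 33 true,.eqn 24 false,.eqn 33 false],
[.code,.eqn 24 false,.eqn 33 true,.eqn 24 false],
[.edge 69,.eqn 28 false,.eqn 30 false,.eqn 32 true],
[.code],
[.code],
[.code,.eqn 33 true,.eqn 24 false,.eqn 33 false],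
[.edge 69,.eqn 32 false,.eqn 28 true],
[.code],
[.code,.eqn 28 true],
[.code],
[.eqn 28 false,.edge 5],
[.code,.eqn 75 false,.eqn 78 true,.eqn 76 false,.eqn 78 true],
[.code,.eqn 75 false,.eqn 78 true],
[.code,.eqn 76 false,.eqn 78 false,.eqn 75 false,.eqn 78 true],
[.edge 85,.eqn 74 false,.eqn 77 false,.eqn 88 false,.eqn 77 false],
[.code,.eqn 33 true],
[.code],
[.code],
[.eqn 24 false,.edge 71,.eqn 24 false,.eqn 33 true],
[.code],
[.code,.eqn 24 false],
[.code,.eqn 24 false,.eqn 33 false,.eqn 24 false],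
[.edge 20,.eqn 84 false],
[.code],
[.code,.eqn 33 false,.eqn 24 false],
[.code],
[.edge 79],
[.code],
[.code],
[.code,.eqn 24 false,.eqn 33 false],
[.edge 79],
[.code,.eqn 32 true,.eqn 28 false],
[.code,.eqn 32 false,.eqn 28 true],
[.code],
[.eqn 28 false,.edge 5],
[.code],
[.code],
[.code],
[.edge 85],
[.code],
[.code,.eqn 24 false,.eqn 33 true],
[.code],
[.eqn 24 false,.edge 69,.eqn 28 false],
[.code,.eqn 24 false,.eqn 33 false],
[.code],
[.code],
[.edge 20,.eqn 84 false],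
[.code,.eqn 78 false,.eqn 76 false,.eqn 78 true],
[.code],
[.code,.eqn 75 false],
[.eqn 78 false,.eqn 76 false,.edge 73,.eqn 33 false,.eqn 24 false],
[.code],
[.code,.eqn 32 true,.eqn 28 true],
[.code],
[.eqn 28 false,.eqn 30 false,.edge 5],
[.code,.eqn 24 false,.eqn 33 false,.eqn 24 false],
[.code],
[.code],
[.eqn 24 false,.edge 69,.eqn 32 false,.eqn 28 true],
[.code,.eqn 33 true,.eqn 24 false],
[.code],
[.code,.eqn 33 true,.eqn 24 false,.eqn 33 false],
[.edge 20,.eqn 84 false],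
[.code],
[.code,.eqn 24 false,.eqn 33 true],
[.code,.eqn 24 false,.eqn 33 true,.eqn 24 false],
[.edge 79],
[.code,.eqn 33 true,.eqn 24 false],
[.code],
[.code,.eqn 24 false,.eqn 33 true],
[.edge 70],
[.code,.eqn 88 false,.eqn 74 false,.eqn 88 false],
[.code],
[.code,.eqn 88 true,.eqn 77 true],
[.eqn 74 false,.eqn 88 false,.edge 17],
[.code,.eqn 88 true,.eqn 74 false,.eqn 77 false],
[.code,.eqn 74 false,.eqn 77 true,.eqn 74 false,.eqn 88 true],
[.code,.eqn 77 true,.eqn 74 false,.eqn 88 true],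
[.eqn 88 true,.edge 19],
[.code,.eqn 28 false,.eqn 32 true,.eqn 28 true],
[.code],
[.code],
[.eqn 30 false,.edge 5],
[.code,.eqn 28 true,.eqn 30 false],
[.code,.eqn 28 false],
[.code,.eqn 28 false],
[.edge 5],
[.code],
[.code,.eqn 75 false,.eqn 78 false,.eqn 75 false],
[.code,.eqn 76 false,.eqn 78 true,.eqn 75 false,.eqn 78 false],
[.edge 85],
[.code],
[.code,.eqn 33 false,.eqn 24 false],
[.code,.eqn 33 false,.eqn 24 false],
[.eqn 24 false,.edge 70,.eqn 33 false,.eqn 24 false,.eqn 33 true],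
[.code],
[.code],
[.code],
[.eqn 30 false,.edge 5],
[.code],
[.code,.eqn 24 false,.eqn 33 true],
[.code,.eqn 24 false,.eqn 33 true],
[.edge 69,.eqn 28 false,.eqn 32 true,.eqn 28 true],
[.code],
[.code],
[.code],
[.eqn 28 true,.eqn 30 false,.edge 5],
[.code],
[.code],
[.code],
[.edge 60,.eqn 65 true,.eqn 68 false],
[.code,.eqn 33 false,.eqn 24 false],
[.code,.eqn 33 false,.eqn 24 false,.eqn 33 true],
[.code,.eqn 24 false,.eqn 33 false],
[.edge 70,.eqn 33 false],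
[.code,.eqn 33 false,.eqn 24 false],
[.code,.eqn 24 false,.eqn 33 true],
[.code],
[.edge 70,.eqn 24 false],
[.code],
[.code],
[.code],
[.edge 70],
[.code,.eqn 28 false,.eqn 32 false,.eqn 28 true],
[.code],
[.code],
[.eqn 28 false,.edge 5],
[.code,.eqn 24 false],
[.code,.eqn 24 false],
[.code,.eqn 24 false,.eqn 33 false],
[.edge 70,.eqn 24 false],
[.code,.eqn 24 false],
[.code,.eqn 33 true,.eqn 24 false]]

/-- A part of the walks. -/
def walks1_3 : List (List Move) := [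
[.code,.eqn 33 true,.eqn 24 false],
[.eqn 24 false,.edge 69,.eqn 32 true],
[.code,.eqn 24 false,.eqn 33 true],
[.code,.eqn 33 false,.eqn 24 false,.eqn 33 true],
[.code],
[.eqn 24 false,.edge 69,.eqn 30 false,.eqn 32 false],
[.code],
[.code,.eqn 28 true],
[.code],
[.eqn 28 false,.eqn 30 false,.edge 5],
[.code],
[.code,.eqn 30 false,.eqn 32 false],
[.code],
[.eqn 28 false,.edge 5],
[.code,.eqn 75 false,.eqn 78 true,.eqn 76 false,.eqn 78 true],
[.code,.eqn 78 true,.eqn 76 false,.eqn 75 false],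
[.code,.eqn 75 false,.eqn 78 false,.eqn 76 false,.eqn 78 false],
[.eqn 78 false,.eqn 76 false,.edge 73],
[.code],
[.code,.eqn 75 false,.eqn 76 false,.eqn 78 false],
[.code,.eqn 75 false,.eqn 76 false],
[.edge 73,.eqn 33 true,.eqn 24 false],
[.code],
[.code],
[.code],
[.edge 70],
[.code],
[.code],
[.code,.eqn 24 false,.eqn 33 false,.eqn 24 false],
[.edge 70,.eqn 24 false,.eqn 33 true],
[.code],
[.code,.eqn 74 false,.eqn 88 true,.eqn 74 false,.eqn 88 false],
[.code,.eqn 74 false,.eqn 77 false,.eqn 88 false,.eqn 77 false],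
[.edge 17,.eqn 24 false],
[.code,.eqn 74 false,.eqn 77 false,.eqn 74 false],
[.code,.eqn 77 true,.eqn 74 false,.eqn 88 true],
[.code],
[.edge 17],
[.code],
[.code,.eqn 33 true,.eqn 24 false,.eqn 33 false],
[.code,.eqn 24 false,.eqn 33 true],
[.eqn 24 false,.edge 70,.eqn 24 false,.eqn 33 false,.eqn 24 false],
[.code],
[.code,.eqn 30 false,.eqn 32 true],
[.code,.eqn 30 false,.eqn 32 false],
[.edge 60,.eqn 65 true,.eqn 68 false,.eqn 33 true,.eqn 24 false],
[.code,.eqn 32 false,.eqn 28 false],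
[.code],
[.code],
[.eqn 28 true,.eqn 30 false,.edge 5],
[.code],
[.code,.eqn 24 false],
[.code,.eqn 24 false,.eqn 33 false,.eqn 24 false],
[.edge 69,.eqn 28 false],
[.code,.eqn 24 false,.eqn 33 true,.eqn 24 false],
[.code],
[.code,.eqn 33 true,.eqn 24 false],
[.edge 79],
[.code],
[.code,.eqn 74 false,.eqn 77 true,.eqn 88 false],
[.code,.eqn 88 true,.eqn 74 false,.eqn 77 false],
[.edge 17,.eqn 33 false,.eqn 24 false,.eqn 33 true],
[.code],
[.code,.eqn 24 false,.eqn 33 true,.eqn 24 false],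
[.code,.eqn 33 true,.eqn 24 false,.eqn 33 false],
[.eqn 33 false,.eqn 24 false,.edge 69,.eqn 28 false,.eqn 30 false,.eqn 32 true],
[.code],
[.code,.eqn 28 false,.eqn 30 false,.eqn 32 true],
[.code],
[.eqn 32 false,.edge 5],
[.code,.eqn 33 true,.eqn 24 false],
[.code],
[.code,.eqn 33 true,.eqn 24 false,.eqn 33 false],
[.edge 20,.eqn 84 false],
[.code,.eqn 33 true,.eqn 24 false],
[.code],
[.code,.eqn 33 true,.eqn 24 false],
[.edge 70],
[.code],
[.code,.eqn 33 false],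
[.code,.eqn 24 false,.eqn 33 false],
[.edge 70,.eqn 24 false,.eqn 33 true,.eqn 24 false],
[.code,.eqn 24 false,.eqn 33 true,.eqn 24 false],
[.code],
[.code,.eqn 24 false,.eqn 33 false,.eqn 24 false],
[.edge 69,.eqn 28 true,.eqn 30 false],
[.code],
[.code],
[.code],
[.edge 70],
[.code,.eqn 24 false],
[.code,.eqn 33 true,.eqn 24 false],
[.code],
[.eqn 24 false,.edge 69,.eqn 32 false,.eqn 28 true],
[.code],
[.code,.eqn 28 true,.eqn 32 false,.eqn 28 true],
[.code],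
[.edge 5],
[.code],
[.code,.eqn 32 true,.eqn 28 false],
[.code],
[.edge 5],
[.code],
[.code,.eqn 33 false,.eqn 24 false,.eqn 33 true],
[.code,.eqn 33 false,.eqn 24 false,.eqn 33 true],
[.edge 69,.eqn 32 true,.eqn 28 false],
[.code,.eqn 28 false,.eqn 30 false],
[.code],
[.code,.eqn 32 true,.eqn 28 false],
[.eqn 28 false,.edge 5,.eqn 24 false,.eqn 33 true,.eqn 24 false],
[.code,.eqn 28 true,.eqn 32 false],
[.code,.eqn 28 false,.eqn 32 false],
[.code],
[.edge 5],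
[.code],
[.code,.eqn 28 false,.eqn 32 false,.eqn 28 true],
[.code],
[.eqn 28 true,.edge 5,.eqn 24 false,.eqn 33 false,.eqn 24 false],
[.code],
[.code],
[.code,.eqn 33 true,.eqn 24 false,.eqn 33 false],
[.eqn 24 false,.edge 69,.eqn 28 false,.eqn 32 true,.eqn 28 true],
[.code,.eqn 33 false,.eqn 24 false],
[.code],
[.code,.eqn 33 false],
[.edge 79],
[.code],
[.code],
[.code],
[.edge 19],
[.code,.eqn 28 false,.eqn 32 false,.eqn 28 true],
[.code,.eqn 28 true,.eqn 32 false],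
[.code],
[.eqn 28 true,.edge 5],
[.code],
[.code,.eqn 28 false,.eqn 32 true,.eqn 28 true],
[.code],
[.edge 5,.eqn 33 false,.eqn 24 false],
[.code],
[.code,.eqn 28 true,.eqn 32 true,.eqn 28 false],
[.code],
[.eqn 30 false,.edge 5,.eqn 33 true,.eqn 24 false],
[.code,.eqn 33 false,.eqn 24 false,.eqn 33 true],
[.code],
[.code,.eqn 24 false,.eqn 33 false,.eqn 24 false],
[.edge 70,.eqn 24 false,.eqn 33 false],
[.code,.eqn 75 false],
[.code],
[.code,.eqn 78 true,.eqn 75 false],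
[.eqn 78 true,.eqn 76 false,.edge 73,.eqn 33 false],
[.code],
[.code,.eqn 75 false,.eqn 78 true,.eqn 75 false,.eqn 76 false],
[.code,.eqn 75 false,.eqn 78 false,.eqn 76 false,.eqn 78 true],
[.edge 85,.eqn 77 true,.eqn 74 false,.eqn 77 false],
[.code],
[.code,.eqn 33 true,.eqn 24 false,.eqn 33 false],
[.code,.eqn 33 false,.eqn 24 false,.eqn 33 true],
[.edge 69,.eqn 28 false,.eqn 32 false,.eqn 28 true],
[.code,.eqn 33 true,.eqn 24 false],
[.code,.eqn 24 false,.eqn 33 false,.eqn 24 false],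
[.code,.eqn 33 true,.eqn 24 false],
[.edge 70],
[.code],
[.code],
[.code],
[.edge 69,.eqn 32 false,.eqn 28 false],
[.code],
[.code],
[.code,.eqn 24 false,.eqn 33 false],
[.eqn 24 false,.edge 71,.eqn 24 false,.eqn 33 true],
[.code,.eqn 33 true,.eqn 24 false],
[.code,.eqn 24 false,.eqn 33 false],
[.code,.eqn 33 true,.eqn 24 false,.eqn 33 false],
[.edge 70,.eqn 24 false],
[.code,.eqn 28 false,.eqn 32 false,.eqn 28 true],
[.code,.eqn 28 false],
[.code,.eqn 32 true],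
[.eqn 30 false,.edge 5,.eqn 24 false],
[.code],
[.code,.eqn 24 false,.eqn 33 true],
[.code],
[.edge 70],
[.code,.eqn 24 false,.eqn 33 false,.eqn 24 false],
[.code,.eqn 24 false,.eqn 33 false],
[.code],
[.eqn 24 false,.edge 69,.eqn 30 false,.eqn 32 false],
[.code,.eqn 28 true],
[.code],
[.code,.eqn 30 false,.eqn 32 false],
[.eqn 28 true,.edge 5,.eqn 24 false,.eqn 33 false],
[.code,.eqn 28 true,.eqn 32 false],
[.code],
[.code],
[.eqn 28 true,.edge 5],
[.code],
[.code,.eqn 28 false,.eqn 32 false],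
[.code,.eqn 28 true,.eqn 30 false],
[.eqn 32 false,.edge 5],
[.code],
[.code,.eqn 28 false,.eqn 32 true,.eqn 28 false],
[.code,.eqn 28 false,.eqn 32 false,.eqn 28 true],
[.edge 60,.eqn 65 true,.eqn 68 false,.eqn 33 true,.eqn 24 false,.eqn 33 false],
[.code,.eqn 33 false,.eqn 24 false],
[.code],
[.code,.eqn 33 true,.eqn 24 false,.eqn 33 false],
[.edge 70,.eqn 33 true,.eqn 24 false],
[.code],
[.code,.eqn 24 false],
[.code,.eqn 33 false,.eqn 24 false],
[.edge 69,.eqn 28 false,.eqn 32 true,.eqn 28 false]]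

/-- A part of the walks. -/
def walks1_4 : List (List Move) := [
[.code],
[.code,.eqn 24 false,.eqn 33 false,.eqn 24 false],
[.code,.eqn 24 false,.eqn 33 true,.eqn 24 false],
[.edge 69,.eqn 32 false,.eqn 28 true],
[.code],
[.code],
[.code],
[.eqn 28 false,.edge 5],
[.code,.eqn 28 true,.eqn 32 true],
[.code],
[.code],
[.edge 60,.eqn 65 true,.eqn 68 false],
[.code,.eqn 33 false],
[.code],
[.code,.eqn 33 false],
[.eqn 33 true,.eqn 24 false,.edge 69,.eqn 32 true],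
[.code],
[.code],
[.code],
[.eqn 32 false,.edge 5],
[.code,.eqn 28 false,.eqn 32 true,.eqn 28 true],
[.code],
[.code,.eqn 28 false,.eqn 32 false,.eqn 28 true],
[.edge 60,.eqn 65 true,.eqn 68 false,.eqn 33 false,.eqn 24 false],
[.code],
[.code,.eqn 33 true,.eqn 24 false,.eqn 33 false],
[.code],
[.edge 70],
[.code],
[.code,.eqn 33 false,.eqn 24 false],
[.code],
[.eqn 24 false,.edge 70,.eqn 24 false,.eqn 33 false],
[.code,.eqn 24 false],
[.code,.eqn 33 true,.eqn 24 false],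
[.code,.eqn 33 true,.eqn 24 false],
[.eqn 24 false,.edge 69,.eqn 32 true],
[.code],
[.code],
[.code],
[.edge 70],
[.code],
[.code],
[.code],
[.edge 70],
[.code,.eqn 24 false,.eqn 33 false],
[.code],
[.code,.eqn 33 true,.eqn 24 false],
[.eqn 24 false,.edge 69,.eqn 30 false,.eqn 32 false],
[.code,.eqn 24 false],
[.code,.eqn 24 false,.eqn 33 true,.eqn 24 false],
[.code,.eqn 24 false,.eqn 33 false],
[.eqn 24 false,.edge 69,.eqn 28 true,.eqn 32 false],
[.code],
[.code],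
[.code,.eqn 33 false],
[.eqn 24 false,.edge 69,.eqn 28 false],
[.code,.eqn 24 false,.eqn 33 true],
[.code],
[.code],
[.eqn 24 false,.edge 69,.eqn 28 true,.eqn 32 false],
[.code,.eqn 33 false,.eqn 24 false,.eqn 33 true],
[.code],
[.code],
[.eqn 33 false,.eqn 24 false,.edge 69,.eqn 28 true,.eqn 32 false],
[.code],
[.code,.eqn 33 false,.eqn 24 false],
[.code],
[.edge 69,.eqn 32 false,.eqn 28 false],
[.code],
[.code,.eqn 24 false,.eqn 33 true],
[.code],
[.edge 69,.eqn 28 true,.eqn 32 false,.eqn 28 true],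
[.code,.eqn 24 false,.eqn 33 true],
[.code],
[.code,.eqn 24 false,.eqn 33 false],
[.eqn 24 false,.edge 69,.eqn 28 true,.eqn 32 false],
[.code,.eqn 28 true,.eqn 32 false,.eqn 28 true],
[.code],
[.code,.eqn 28 true],
[.edge 5],
[.code,.eqn 28 false,.eqn 32 true,.eqn 28 false],
[.code],
[.code,.eqn 32 false],
[.eqn 28 false,.edge 5],
[.code],
[.code],
[.code],
[.eqn 28 true,.edge 5],
[.code,.eqn 24 false,.eqn 33 false],
[.code,.eqn 24 false,.eqn 33 true,.eqn 24 false],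
[.code,.eqn 33 false,.eqn 24 false,.eqn 33 true],
[.eqn 24 false,.edge 69,.eqn 30 false,.eqn 32 false],
[.code,.eqn 24 false,.eqn 33 true,.eqn 24 false],
[.code],
[.code,.eqn 24 false,.eqn 33 true,.eqn 24 false],
[.eqn 24 false,.edge 70,.eqn 33 false,.eqn 24 false,.eqn 33 true],
[.code,.eqn 77 false,.eqn 74 false],
[.code,.eqn 88 false,.eqn 77 false],
[.code,.eqn 88 true,.eqn 77 true],
[.edge 17],
[.code],
[.code],
[.code],
[.edge 19],
[.code],
[.code,.eqn 33 false,.eqn 24 false],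
[.code],
[.eqn 24 false,.edge 70],
[.code,.eqn 24 false,.eqn 33 false],
[.code,.eqn 24 false,.eqn 33 false,.eqn 24 false],
[.code,.eqn 33 false],
[.eqn 24 false,.edge 69,.eqn 32 true],
[.code,.eqn 24 false,.eqn 33 true,.eqn 24 false],
[.code],
[.code],
[.eqn 24 false,.edge 70,.eqn 24 false,.eqn 33 true],
[.code,.eqn 32 false,.eqn 28 false],
[.code,.eqn 28 true,.eqn 32 true],
[.code],
[.eqn 30 false,.edge 5],
[.code],
[.code],
[.code],
[.edge 5],
[.code,.eqn 33 false,.eqn 24 false],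
[.code],
[.code,.eqn 24 false,.eqn 33 false],
[.edge 70,.eqn 24 false,.eqn 33 false,.eqn 24 false],
[.code,.eqn 24 false],
[.code,.eqn 33 false,.eqn 24 false,.eqn 33 true],
[.code,.eqn 33 false,.eqn 24 false,.eqn 33 true],
[.eqn 24 false,.edge 69,.eqn 28 false,.eqn 30 false],
[.code],
[.code,.eqn 33 true,.eqn 24 false],
[.code,.eqn 33 true],
[.eqn 24 false,.edge 69,.eqn 32 true,.eqn 28 false],
[.code,.eqn 30 false],
[.code],
[.code,.eqn 32 false,.eqn 28 false],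
[.eqn 30 false,.edge 5],
[.code],
[.code],
[.code,.eqn 24 false,.eqn 33 true],
[.eqn 33 true,.eqn 24 false,.edge 69,.eqn 30 false,.eqn 32 true],
[.code],
[.code],
[.code,.eqn 33 true,.eqn 24 false],
[.eqn 24 false,.edge 70],
[.code,.eqn 33 true,.eqn 24 false],
[.code],
[.code,.eqn 33 true,.eqn 24 false],
[.edge 70],
[.code,.eqn 24 false,.eqn 33 false,.eqn 24 false],
[.code,.eqn 24 false,.eqn 33 true],
[.code,.eqn 33 false],
[.eqn 33 true,.eqn 24 false,.edge 69,.eqn 32 false,.eqn 28 false],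
[.code],
[.code,.eqn 24 false,.eqn 33 false],
[.code],
[.eqn 24 false,.edge 71,.eqn 24 false,.eqn 33 true],
[.code],
[.code,.eqn 28 false,.eqn 32 true],
[.code],
[.eqn 30 false,.edge 5,.eqn 33 true,.eqn 24 false],
[.code,.eqn 28 false,.eqn 32 true,.eqn 28 true],
[.code],
[.code],
[.eqn 28 true,.edge 5],
[.code,.eqn 33 false,.eqn 24 false,.eqn 33 true],
[.code,.eqn 24 false,.eqn 33 true],
[.code,.eqn 24 false,.eqn 33 true,.eqn 24 false],
[.edge 70,.eqn 24 false,.eqn 33 false],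
[.code,.eqn 33 true],
[.code],
[.code,.eqn 33 false,.eqn 24 false,.eqn 33 true],
[.edge 71],
[.code],
[.code,.eqn 24 false,.eqn 33 false],
[.code],
[.edge 70,.eqn 33 false,.eqn 24 false],
[.code],
[.code],
[.code,.eqn 33 true,.eqn 24 false],
[.eqn 24 false,.edge 69,.eqn 32 true,.eqn 28 false],
[.code],
[.code],
[.code],
[.edge 52,.eqn 53 true,.eqn 28 true,.eqn 32 true,.eqn 28 false],
[.code,.eqn 24 false],
[.code],
[.code],
[.edge 70],
[.code],
[.code,.eqn 24 false],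
[.code,.eqn 24 false,.eqn 33 false,.eqn 24 false],
[.edge 69,.eqn 28 true,.eqn 32 false],
[.code,.eqn 33 false,.eqn 24 false],
[.code,.eqn 24 false,.eqn 33 true,.eqn 24 false],
[.code,.eqn 33 false,.eqn 24 false],
[.edge 70,.eqn 33 false,.eqn 24 false],
[.code,.eqn 33 false],
[.code],
[.code,.eqn 24 false,.eqn 33 false,.eqn 24 false],
[.eqn 24 false,.edge 69,.eqn 30 false,.eqn 32 true],
[.code,.eqn 24 false,.eqn 33 false,.eqn 24 false],
[.code,.eqn 24 false],
[.code,.eqn 24 false,.eqn 33 true,.eqn 24 false],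
[.edge 71,.eqn 24 false,.eqn 33 false,.eqn 24 false],
[.code,.eqn 24 false],
[.code,.eqn 33 true,.eqn 24 false,.eqn 33 false]]

/-- A part of the walks. -/
def walks1_5 : List (List Move) := [
[.code,.eqn 24 false,.eqn 33 true,.eqn 24 false],
[.edge 70,.eqn 24 false,.eqn 33 true,.eqn 24 false],
[.code,.eqn 32 false,.eqn 28 false],
[.code],
[.code],
[.edge 52,.eqn 53 true,.eqn 32 false,.eqn 28 false],
[.code],
[.code,.eqn 32 false,.eqn 28 false],
[.code],
[.eqn 28 true,.eqn 30 false,.edge 5],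
[.code],
[.code,.eqn 24 false,.eqn 33 false],
[.code],
[.edge 70],
[.code,.eqn 33 true],
[.code],
[.code],
[.eqn 33 true,.eqn 24 false,.edge 69,.eqn 28 true],
[.code],
[.code,.eqn 33 false],
[.code,.eqn 33 false],
[.eqn 24 false,.edge 70],
[.code,.eqn 24 false,.eqn 33 true],
[.code,.eqn 24 false,.eqn 33 false,.eqn 24 false],
[.code],
[.edge 71,.eqn 24 false],
[.code,.eqn 24 false],
[.code,.eqn 24 false,.eqn 33 true,.eqn 24 false],
[.code,.eqn 33 true],
[.eqn 24 false,.edge 69,.eqn 32 true],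
[.code,.eqn 33 true,.eqn 24 false],
[.code,.eqn 24 false],
[.code,.eqn 24 false,.eqn 33 true],
[.edge 70,.eqn 24 false,.eqn 33 true],
[.code],
[.code],
[.code],
[.edge 70],
[.code],
[.code,.eqn 33 false,.eqn 24 false],
[.code,.eqn 33 false,.eqn 24 false],
[.eqn 24 false,.edge 69,.eqn 28 false,.eqn 30 false],
[.code,.eqn 24 false,.eqn 33 false],
[.code,.eqn 33 false,.eqn 24 false,.eqn 33 true],
[.code,.eqn 33 true,.eqn 24 false,.eqn 33 false],
[.eqn 24 false,.edge 69,.eqn 32 true,.eqn 28 false],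
[.code,.eqn 32 false,.eqn 28 false],
[.code],
[.code,.eqn 28 false,.eqn 30 false],
[.edge 60,.eqn 65 true,.eqn 68 false],
[.code],
[.code,.eqn 33 false,.eqn 24 false],
[.code,.eqn 24 false,.eqn 33 true],
[.edge 71,.eqn 24 false,.eqn 33 false],
[.code,.eqn 24 false],
[.code,.eqn 33 true,.eqn 24 false],
[.code,.eqn 33 false,.eqn 24 false],
[.edge 70,.eqn 24 false,.eqn 33 true],
[.code,.eqn 30 false],
[.code],
[.code],
[.eqn 32 false,.edge 5],
[.code,.eqn 33 false,.eqn 24 false],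
[.code],
[.code,.eqn 33 false,.eqn 24 false],
[.eqn 33 true,.eqn 24 false,.edge 69,.eqn 32 true],
[.code,.eqn 28 false],
[.code],
[.code,.eqn 32 true,.eqn 28 false],
[.eqn 30 false,.edge 5,.eqn 24 false,.eqn 33 false],
[.code,.eqn 27 false,.eqn 26 false,.eqn 31 true],
[.code],
[.code,.eqn 26 false,.eqn 27 false],
[.eqn 26 false,.edge 4],
[.code],
[.code,.eqn 24 false,.eqn 33 true,.eqn 24 false],
[.code,.eqn 24 false,.eqn 33 true],
[.edge 69,.eqn 28 false],
[.code,.eqn 28 true,.eqn 32 false,.eqn 28 true],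
[.code],
[.code,.eqn 32 true,.eqn 28 false],
[.edge 60,.eqn 65 true,.eqn 68 false],
[.code],
[.code],
[.code],
[.edge 69,.eqn 32 false],
[.code],
[.code,.eqn 24 false,.eqn 33 false,.eqn 24 false],
[.code],
[.edge 70],
[.code,.eqn 24 false,.eqn 33 true],
[.code,.eqn 24 false,.eqn 33 false],
[.code,.eqn 24 false,.eqn 33 false],
[.eqn 24 false,.edge 69,.eqn 28 false,.eqn 32 true,.eqn 28 false],
[.code,.eqn 24 false,.eqn 33 true],
[.code,.eqn 33 true,.eqn 24 false],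
[.code,.eqn 33 false,.eqn 24 false],
[.eqn 24 false,.edge 69,.eqn 32 true,.eqn 28 true],
[.code],
[.code,.eqn 27 false],
[.code],
[.eqn 31 false,.edge 4],
[.code,.eqn 28 true,.eqn 32 false,.eqn 28 true],
[.code],
[.code,.eqn 32 false,.eqn 28 true],
[.edge 60,.eqn 65 true,.eqn 68 false],
[.code],
[.code],
[.code],
[.edge 54,.eqn 26 true,.eqn 31 false],
[.code,.eqn 24 false,.eqn 33 false],
[.code,.eqn 24 false,.eqn 33 false],
[.code],
[.eqn 24 false,.edge 69,.eqn 28 false,.eqn 32 false,.eqn 28 true],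
[.code,.eqn 30 false],
[.code],
[.code,.eqn 28 true,.eqn 32 false,.eqn 28 true],
[.eqn 32 false,.edge 5],
[.code,.eqn 28 true,.eqn 32 true],
[.code],
[.code,.eqn 28 false,.eqn 32 true,.eqn 28 true],
[.eqn 28 true,.edge 5],
[.code],
[.code],
[.code],
[.edge 60,.eqn 65 true,.eqn 68 false],
[.code,.eqn 24 false],
[.code,.eqn 24 false,.eqn 33 false],
[.code,.eqn 24 false,.eqn 33 true],
[.edge 70,.eqn 24 false,.eqn 33 true,.eqn 24 false],
[.code,.eqn 33 false],
[.code],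
[.code],
[.eqn 24 false,.edge 70,.eqn 24 false,.eqn 33 true],
[.code,.eqn 24 false,.eqn 33 false],
[.code,.eqn 33 true,.eqn 24 false],
[.code,.eqn 24 false,.eqn 33 false,.eqn 24 false],
[.eqn 24 false,.edge 69,.eqn 32 true,.eqn 28 true],
[.code,.eqn 33 true,.eqn 24 false],
[.code,.eqn 33 false,.eqn 24 false,.eqn 33 true],
[.code,.eqn 24 false,.eqn 33 false,.eqn 24 false],
[.edge 70,.eqn 24 false,.eqn 33 true],
[.code],
[.code],
[.code],
[.edge 52,.eqn 53 true,.eqn 28 false,.eqn 32 true,.eqn 28 true],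
[.code,.eqn 28 true,.eqn 32 true],
[.code],
[.code],
[.edge 54,.eqn 31 false],
[.code],
[.code],
[.code],
[.edge 54,.eqn 25 false,.eqn 27 false,.eqn 26 false],
[.code,.eqn 31 false,.eqn 26 true,.eqn 27 false],
[.code],
[.code,.eqn 27 false,.eqn 29 false,.eqn 31 true,.eqn 26 true],
[.eqn 26 false,.edge 4],
[.code,.eqn 24 false,.eqn 33 true,.eqn 24 false],
[.code,.eqn 24 false],
[.code,.eqn 33 false,.eqn 24 false,.eqn 33 true],
[.edge 70],
[.code],
[.code,.eqn 24 false,.eqn 33 false,.eqn 24 false],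
[.code,.eqn 24 false,.eqn 33 false,.eqn 24 false],
[.eqn 33 false,.eqn 24 false,.edge 69,.eqn 32 true],
[.code,.eqn 28 false,.eqn 32 true,.eqn 28 false],
[.code],
[.code,.eqn 28 true,.eqn 32 false],
[.eqn 28 false,.edge 5],
[.code,.eqn 24 false,.eqn 33 false],
[.code,.eqn 33 false],
[.code,.eqn 33 true,.eqn 24 false,.eqn 33 false],
[.eqn 24 false,.edge 69,.eqn 30 false,.eqn 32 true],
[.code,.eqn 28 true,.eqn 32 true],
[.code],
[.code],
[.eqn 28 false,.edge 5],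
[.code],
[.code],
[.code],
[.edge 52,.eqn 53 true],
[.code],
[.code],
[.code],
[.edge 54,.eqn 26 true,.eqn 27 false,.eqn 26 false],
[.code],
[.code,.eqn 32 true,.eqn 28 true],
[.code],
[.eqn 30 false,.edge 5,.eqn 24 false,.eqn 33 false,.eqn 24 false],
[.code,.eqn 33 false,.eqn 24 false,.eqn 33 true],
[.code,.eqn 33 true],
[.code],
[.eqn 33 false,.eqn 24 false,.edge 69,.eqn 28 false,.eqn 32 true,.eqn 28 false],
[.code,.eqn 30 false],
[.code],
[.code],
[.edge 60,.eqn 65 true,.eqn 68 false],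
[.code],
[.code,.eqn 26 false,.eqn 27 false,.eqn 26 false,.eqn 31 false],
[.code],
[.eqn 25 false,.eqn 31 false,.edge 4],
[.code],
[.code],
[.code,.eqn 30 false,.eqn 32 false],
[.eqn 32 false,.edge 5],
[.code,.eqn 28 false,.eqn 32 true,.eqn 28 false],
[.code],
[.code,.eqn 28 false,.eqn 32 true],
[.eqn 28 true,.edge 5]]

/-- The walks. -/
def walks1 : List (List Move) := walks1_0 ++ walks1_1 ++ walks1_2 ++ walks1_3 ++ walks1_4 ++ walks1_5

end Cfsg.Agent.J2Uniq.CData
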