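import Cfsg.Agent.Lib.J2Uniq.Cert

/-!
A certificate giving the action on 315 points.
-/

set_option autoImplicit false
set_option maxRecDepth 100000
set_option maxHeartbeats 4000000

namespace Cfsg.Agent.J2Uniq.CData

/-- The deductions. -/
def t2 : Cert := ⟨[⟨false,0,0⟩,⟨false,928,1⟩,⟨false,416,2⟩,⟨false,0,1⟩,⟨true,600,1⟩,⟨true,1632,5⟩,⟨false,4,5⟩,⟨false,416,7⟩,⟨true,1776,8⟩,⟨true,416,9⟩,⟨true,1632,10⟩,⟨true,1823,6⟩,⟨false,357,6⟩,⟨true,1786,6⟩,⟨false,544,3⟩,⟨false,0,15⟩,⟨false,633,3⟩,⟨true,1776,17⟩,⟨true,416,18⟩,⟨true,1632,19⟩,⟨true,1695,15⟩,⟨true,416,21⟩,⟨true,1632,22⟩],[.edge 3,.code,.edge 4,.code,.edge 5],[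
⟨0,1,3,2,false,[.edge 3,.eqn 1 false,.eqn 0 false,.eqn 1 true,.edge 3],[]⟩,
⟨0,1,3,2,false,[.edge 3,.eqn 1 false,.eqn 2 false,.eqn 1 true,.edge 3],[]⟩,
⟨0,1,3,2,false,[.edge 3,.eqn 2 true,.eqn 1 false,.eqn 2 false,.edge 3],[]⟩,
⟨0,2,3,2,false,[.edge 4,.eqn 29 false,.eqn 28 true,.edge 4],[]⟩,
⟨0,1,3,2,false,[.edge 3,.eqn 0 false,.eqn 1 false,.eqn 0 false,.eqn 1 true,.eqn 0 true,.edge 3],[]⟩,
⟨0,2,3,2,false,[.edge 4,.eqn 31 false,.edge 4],[]⟩,
⟨0,1,3,2,false,[.edge 3,.eqn 0 false,.eqn 1 false,.eqn 2 false,.eqn 1 true,.eqn 0 true,.edge 3],[]⟩,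
⟨0,2,3,2,false,[.edge 4,.eqn 27 false,.eqn 28 true,.eqn 33 true,.edge 4],[]⟩,
⟨0,3,3,2,false,[.edge 5,.eqn 34 false,.eqn 30 true,.edge 5],[]⟩,
⟨0,0,0,2,true,[.edge 3,.edge 6],[]⟩,
⟨0,0,1,2,false,[.edge 3,.code],[.code,.code,.eqn 0 false,.edge 36]⟩,
⟨0,0,3,1,true,[.edge 36,.eqn 37 true],[]⟩,
⟨0,4,3,1,true,[.edge 6],[.eqn 37 true]⟩,
⟨0,0,2,21,false,[.code,.eqn 2 false,.edge 36,.eqn 37 true,.code,.edge 7,.code,.edge 8,.code,.edge 8,.code,.edge 9,.code,.edge 10,.code,.edge 11,.code,.edge 12,.code,.edge 13,.code,.edge 13,.code],[.edge 36,.eqn 37 true,.code,.eqn 29 false,.edge 7]⟩,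
⟨416,9,3,1,true,[.edge 12,.eqn 40 false],[]⟩,
⟨1632,10,3,1,true,[.edge 13],[.eqn 40 false]⟩,
⟨0,5,4,2,false,[.edge 7,.eqn 28 false,.edge 7],[]⟩,
⟨416,9,3,2,false,[.edge 41,.edge 9],[]⟩,
⟨1776,8,3,1,true,[.edge 11,.eqn 44 true],[]⟩,
⟨0,6,4,2,false,[.edge 8,.eqn 43 false,.edge 42],[]⟩,
⟨1632,10,3,1,true,[.edge 13,.eqn 46 false],[.eqn 40 false]⟩,
⟨0,5,4,2,false,[.edge 7,.eqn 31 false,.edge 7],[]⟩,
⟨0,7,3,2,false,[.edge 9,.eqn 48 false,.edge 9],[]⟩,
⟨0,5,4,2,false,[.edge 7,.eqn 27 false,.eqn 29 false,.eqn 33 false,.edge 7],[]⟩,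
⟨0,6,4,2,false,[.edge 8,.eqn 50 false,.eqn 48 true,.edge 8],[]⟩,
⟨0,1,2,11,true,[.code,.eqn 27 false,.eqn 33 true,.edge 7,.code,.eqn 48 false,.edge 42,.eqn 46 false,.code,.edge 14,.code,.edge 14,.code,.edge 15,.code],[.edge 3,.code,.eqn 1 false,.edge 36,.eqn 37 true,.code,.eqn 28 false,.eqn 33 false,.edge 7,.code,.edge 7,.code,.edge 6,.eqn 37 true,.code,.eqn 28 false,.edge 4,.code]⟩,
⟨0,13,3,2,false,[.edge 15,.eqn 51 false,.edge 15],[]⟩,
⟨2,1,2,11,true,[.code,.eqn 33 true,.edge 7,.code,.eqn 43 false,.eqn 48 false,.edge 8,.code,.edge 16,.code,.edge 16,.code,.edge 15,.code],[.edge 39,.code,.eqn 33 false,.edge 7,.code,.edge 8,.code,.edge 8,.code,.edge 9,.code,.eqn 49 false,.edge 10,.code]⟩,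
⟨384,1,0,1,true,[.eqn 28 false,.edge 4],[.eqn 33 false,.edge 7]⟩,
⟨384,1,1,2,false,[.eqn 28 false,.edge 4,.code],[.code,.code,.eqn 29 false,.edge 7]⟩,
⟨600,1,3,1,true,[.edge 7,.eqn 56 true],[]⟩,
⟨0,7,3,1,true,[.edge 9,.eqn 56 true],[]⟩,
⟨1632,5,3,1,true,[.edge 8],[.eqn 56 true]⟩,
⟨1595,5,3,1,true,[.edge 47],[.eqn 56 true]⟩,
⟨1,5,3,1,true,[.edge 55],[.eqn 56 true]⟩,
⟨0,7,3,2,false,[.edge 58,.edge 61],[]⟩,
⟨0,8,3,1,true,[.edge 10,.eqn 62 true],[]⟩,
⟨1776,8,3,1,true,[.edge 45,.eqn 62 true],[]⟩,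
⟨416,13,4,2,false,[.edge 52,.eqn 30 true,.eqn 32 false,.edge 59],[]⟩,
⟨1791,8,3,1,true,[.edge 54,.eqn 65 true],[]⟩,
⟨0,13,3,1,true,[.edge 15],[.eqn 65 true]⟩,
⟨234,13,5,0,false,[.eqn 53 false,.eqn 65 true],[.eqn 65 true]⟩,
⟨1791,8,3,2,false,[.edge 66,.eqn 68 true,.edge 67],[]⟩,
⟨0,8,3,1,true,[.edge 63],[.eqn 69 true]⟩,
⟨1776,8,3,1,true,[.edge 64],[.eqn 69 true]⟩,
⟨0,3,3,2,false,[.edge 5,.eqn 30 false,.edge 70],[]⟩,
⟨1632,5,3,1,true,[.edge 8,.eqn 72 false],[.eqn 56 true]⟩,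
⟨0,13,3,1,true,[.edge 15,.eqn 72 false],[.eqn 65 true,.eqn 72 false]⟩,
⟨1791,8,3,1,true,[.edge 66,.eqn 72 false],[.eqn 69 true,.eqn 72 false]⟩,
⟨1860,6,3,1,true,[.edge 71],[.eqn 72 false]⟩,
⟨544,3,0,2,true,[.edge 17,.edge 18],[]⟩,
⟨0,15,3,2,false,[.edge 17,.eqn 26 false,.edge 17],[]⟩,
⟨0,16,4,2,false,[.edge 77,.eqn 26 false,.edge 77],[]⟩,
⟨0,15,3,2,false,[.edge 17,.eqn 35 false,.edge 17],[]⟩,
⟨0,16,4,2,false,[.edge 77,.eqn 35 false,.edge 77],[]⟩,
⟨544,3,1,2,true,[.edge 17,.code],[.code,.code]⟩,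
⟨546,3,0,1,true,[.edge 19],[.edge 82]⟩,
⟨546,3,1,2,false,[.edge 19,.code],[.code,.code,.edge 77]⟩,
⟨67,15,3,1,true,[.edge 83,.eqn 84 false],[]⟩,
⟨546,3,2,21,true,[.code,.eqn 26 false,.edge 76,.code,.eqn 34 false,.edge 60,.eqn 72 false,.code,.eqn 35 true,.edge 74,.code,.edge 74,.code,.edge 74,.code,.edge 17,.code,.edge 23,.code,.edge 24,.code,.edge 25,.code,.edge 25,.code],[.edge 82,.code]⟩,
⟨0,21,4,2,false,[.edge 23,.eqn 80 true,.eqn 78 true,.edge 23],[]⟩,
⟨4,22,4,2,false,[.edge 86,.eqn 80 false,.eqn 78 true,.edge 86],[]⟩,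
⟨0,22,4,2,false,[.edge 24,.eqn 87 false,.edge 24],[]⟩,
⟨416,21,3,2,false,[.edge 24,.eqn 88 false,.edge 24],[]⟩,
⟨467,15,3,2,false,[.edge 86,.eqn 89 false,.edge 86],[]⟩,
⟨51,16,4,2,false,[.edge 85,.eqn 91 false,.edge 23],[]⟩,
⟨800,21,5,0,false,[.eqn 90 false,.eqn 92 false],[.eqn 92 false]⟩]⟩

/-- The involution. -/
def th2 : ℕ := 1776

/-- The terms. -/
def terms2 : List (ℕ × ℕ) := [(0,0),(0,1),(642,3),(2,1),(682,3),(1243,3),(203,3),(219,3),(855,3),(383,2),(1559,3),(1246,3),(93,3),(1197,3),(1601,3),(608,2),(109,15),(609,2),(19,16),(1616,3),(129,3),(1208,3),(121,2),(363,2),(0,2),(626,2),(554,3),(627,2),(1043,3),(128,3),(343,3),(377,2),(417,2),(726,2),(608,3),(125,15),(950,15),(79,15),(1333,3),(727,2),(416,2),(93,15),(870,16),(170,16),(374,16),(897,3),(2,2),(98,3),(21,15),(416,1),(375,16),(417,1),(162,15),(610,3),(923,3),(738,3),(1026,3),(195,16),(168,16),(1666,3),(571,3),(555,3),(128,15),(160,16),(293,3),(202,2),(45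,2),(91,3),(747,3),(1390,3),(243,16),(915,3),(32,16),(928,1),(140,15),(127,15),(196,15),(1342,3),(1095,3),(384,15),(930,1),(66,15),(1504,3),(1090,3),(1032,3),(232,3),(58,3),(42,3),(47,3),(219,15),(256,15),(140,16),(520,16),(259,16),(640,3),(34,15),(13,15),(108,15),(230,16),(916,3),(1404,3),(896,15),(228,16),(332,15),(289,15),(899,2),(111,16),(64,16),(451,16),(372,16),(256,16),(352,16),(736,3),(64,15),(69,16),(1122,2),(148,15),(898,15),(934,16),(180,16),(1597,3),(799,3),(167,3),(75,3),(79,3),(684,3),(1120,2),(377,16),(512,3),(1797,3),(1034,3),(1088,3),(1718,2),(83,16),(828,3),(553,3),(0,16),(930,2),(845,3),(756,3),(1024,3),(17,3),(640,15),(1056,15),(1116,2),(1184,2),(357,16),(1618,3),(830,2),(110,3),(1090,2),(1440,2),(237,3),(253,3),(314,3),(1002,2),(221,3),(1245,3),(1834,3),(1140,2),(1142,2),(128,16),(65,16),(0,3),(39,3),(258,15),(3,15),(1619,3),(1367,2),(1108,2),(312,3),(1323,3),(110,15),(1122,3),(1634,2),(757,3),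(321,3),(311,3),(989,3),(224,3),(778,3),(828,2),(1600,2),(21,3),(1452,2),(1812,2),(1815,2),(577,3),(1680,3),(160,15),(1866,2),(1613,2),(1602,2),(299,3),(499,16),(142,16),(53,3),(288,3),(344,3),(1120,3),(139,3),(1208,2),(123,3),(1632,3),(1505,2),(817,2),(1442,2),(1466,2),(320,3),(147,3),(1210,3),(928,2),(933,2),(411,3),(1464,2),(1298,2),(7,3),(1177,3),(423,3),(346,3),(96,3),(1191,3),(476,3),(319,3),(576,3),(517,3),(226,3),(130,3),(1440,3),(1216,2),(1293,2),(1088,2),(1568,3),(316,3),(313,15),(32,15),(830,3),(1612,3),(262,3),(1567,2),(1536,2),(777,3),(1056,3),(781,3),(414,2),(858,3),(279,3),(263,3),(794,3),(928,3),(1631,2),(1559,2),(125,3),(434,3),(64,3),(261,3),(145,2),(160,3),(105,3),(247,3),(695,3),(1731,3),(81,3),(113,2),(1797,2),(108,3),(416,3),(301,3),(1545,3),(439,3),(192,3),(234,3),(40,3),(811,3),(577,2),(856,3),(317,3),(594,2),(417,3),(1203,2),(1216,1),(66,3),(1441,2),(2,3),(61,3),(864,3),(810,3),(1632,1),(735,2),(130,2),(796,3),(485,2),(429,2),(1632,2),(65,3),(693,3),(1233,3),(80,3),(128,2),(30,2),(98,2),(1217,1),(176,3),(930,3),(598,2),(1547,3),(1643,2),(96,2),(131,2),(1538,2),(937,3),(576,2),(1634,1),(1349,2),(1226,2)]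

/-- A part of the walks. -/
def walks2_0 : List (List Move) := [
[.code,.eqn 0 false],
[.code,.eqn 1 false],
[.code,.eqn 2 false],
[.edge 3],
[.code],
[.code],
[.code],
[.edge 6,.eqn 37 true,.eqn 27 false,.eqn 28 false,.eqn 29 false,.eqn 28 false],
[.code],
[.code,.eqn 35 false,.eqn 26 false,.eqn 35 true],
[.code,.eqn 35 true,.eqn 26 false],
[.eqn 26 false,.edge 73,.eqn 30 false,.eqn 34 false],
[.code],
[.code],
[.code],
[.edge 38,.eqn 0 false,.eqn 1 false,.eqn 0 false,.eqn 2 false,.eqn 1 false,.eqn 2 false,.eqn 1 false,.eqn 2 true,.eqn 1 false,.eqn 0 false,.eqn 2 true],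
[.code,.eqn 26 false,.eqn 35 false,.eqn 26 false],
[.code],
[.code,.eqn 26 false,.eqn 35 true,.eqn 26 false],
[.eqn 35 true,.eqn 26 false,.edge 73,.eqn 34 true,.eqn 30 true],
[.code,.eqn 35 false,.eqn 26 false,.eqn 35 true],
[.code,.eqn 26 false],
[.code,.eqn 35 true,.eqn 26 false],
[.eqn 35 false,.eqn 26 false,.edge 73,.eqn 30 false,.eqn 32 false],
[.code,.eqn 26 false,.eqn 35 false],
[.code,.eqn 35 false],
[.code,.eqn 26 false,.eqn 35 false],
[.edge 74,.eqn 35 true,.eqn 26 false,.eqn 35 false],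
[.code,.eqn 35 false,.eqn 26 false,.eqn 35 true],
[.code,.eqn 35 true,.eqn 26 false,.eqn 35 false],
[.code,.eqn 26 false,.eqn 35 true],
[.edge 74],
[.code,.eqn 26 false,.eqn 35 true,.eqn 26 false],
[.code],
[.code,.eqn 35 true,.eqn 26 false],
[.eqn 35 false,.eqn 26 false,.edge 73,.eqn 30 false,.eqn 32 false],
[.code,.eqn 30 false],
[.code],
[.code],
[.edge 57,.eqn 27 false,.eqn 33 true,.eqn 28 false],
[.code,.eqn 26 false,.eqn 35 true,.eqn 26 false],
[.code,.eqn 35 false],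
[.code,.eqn 35 false],
[.eqn 35 false,.eqn 26 false,.edge 73],
[.code,.eqn 26 false],
[.code,.eqn 26 false],
[.code,.eqn 35 true,.eqn 26 false,.eqn 35 false],
[.eqn 35 false,.edge 75,.eqn 35 true],
[.code],
[.code,.eqn 26 false,.eqn 35 true,.eqn 26 false],
[.code,.eqn 35 true,.eqn 26 false],
[.edge 74],
[.code,.eqn 35 false,.eqn 26 false],
[.code,.eqn 35 false],
[.code,.eqn 35 true],
[.eqn 35 false,.eqn 26 false,.edge 73,.eqn 30 true],
[.code],
[.code],
[.code,.eqn 26 false,.eqn 35 true],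
[.eqn 35 false,.eqn 26 false,.edge 73],
[.code,.eqn 32 false],
[.code],
[.code,.eqn 30 false,.eqn 34 true,.eqn 30 false],
[.edge 63,.eqn 69 true,.eqn 72 false],
[.code],
[.code,.eqn 78 false,.eqn 80 true,.eqn 91 true,.eqn 80 true],
[.code,.eqn 91 false,.eqn 80 false,.eqn 91 false,.eqn 80 false],
[.edge 18,.eqn 79 false,.eqn 81 true,.eqn 79 false],
[.code],
[.code],
[.code,.eqn 34 true,.eqn 30 false],
[.edge 63,.eqn 69 true,.eqn 72 false],
[.code,.eqn 81 false,.eqn 79 false,.eqn 81 true],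
[.code,.eqn 93 false,.eqn 79 false,.eqn 93 false],
[.code],
[.edge 85,.eqn 80 false,.eqn 78 false],
[.code],
[.code],
[.code,.eqn 35 true],
[.eqn 35 false,.eqn 26 false,.edge 73,.eqn 34 true,.eqn 30 true],
[.code],
[.code],
[.code,.eqn 26 false,.eqn 35 false],
[.edge 74],
[.code],
[.code],
[.code,.eqn 35 false,.eqn 26 false],
[.eqn 35 false,.edge 75,.eqn 35 true],
[.code,.eqn 30 false,.eqn 32 false],
[.code],
[.code],
[.edge 57,.eqn 33 true,.eqn 28 false],
[.code],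
[.code],
[.code],
[.edge 55,.eqn 56 true],
[.code],
[.code],
[.code],
[.edge 55,.eqn 56 true],
[.code,.eqn 32 false],
[.code],
[.code,.eqn 30 true,.eqn 34 true],
[.eqn 32 false,.edge 63,.eqn 69 true,.eqn 72 false],
[.code,.eqn 26 false,.eqn 35 true],
[.code],
[.code],
[.edge 17],
[.code],
[.code],
[.code,.eqn 30 false,.eqn 32 false,.eqn 34 true],
[.eqn 32 false,.edge 63,.eqn 69 true,.eqn 72 false],
[.code,.eqn 35 true,.eqn 26 false,.eqn 35 false],
[.code,.eqn 35 true],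
[.code,.eqn 26 false,.eqn 35 true,.eqn 26 false],
[.edge 19,.eqn 84 false],
[.code],
[.code],
[.code],
[.edge 74],
[.code,.eqn 26 false,.eqn 35 false],
[.code],
[.code,.eqn 35 false,.eqn 26 false,.eqn 35 true],
[.edge 74,.eqn 26 false,.eqn 35 true],
[.code],
[.code],
[.code],
[.edge 57,.eqn 27 false,.eqn 28 false,.eqn 29 false,.eqn 31 false],
[.code,.eqn 30 true,.eqn 34 true],
[.code],
[.code,.eqn 34 true,.eqn 30 true],
[.edge 5],
[.code,.eqn 34 false,.eqn 30 false],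
[.code],
[.code,.eqn 30 true,.eqn 34 false,.eqn 30 true],
[.eqn 30 false,.edge 5],
[.code],
[.code],
[.code],
[.edge 17],
[.code,.eqn 80 false],
[.code,.eqn 78 false,.eqn 80 false,.eqn 78 false,.eqn 91 true],
[.code,.eqn 91 true,.eqn 78 false],
[.edge 18,.eqn 81 false],
[.code,.eqn 78 false,.eqn 80 false,.eqn 91 false,.eqn 80 true],
[.code,.eqn 80 true,.eqn 78 false,.eqn 80 false,.eqn 91 false],
[.code,.eqn 91 false,.eqn 78 false],
[.eqn 78 false,.eqn 91 false,.edge 82,.eqn 35 true,.eqn 26 false,.eqn 35 false],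
[.code],
[.code,.eqn 91 false,.eqn 78 false,.eqn 91 true],
[.code,.eqn 91 false,.eqn 78 false],
[.edge 82,.eqn 26 false,.eqn 35 false],
[.code,.eqn 35 true],
[.code],
[.code,.eqn 26 false],
[.edge 19,.eqn 84 false],
[.code,.eqn 32 false],
[.code],
[.code,.eqn 30 true,.eqn 34 false],
[.eqn 30 false,.edge 5],
[.code,.eqn 32 false],
[.code],
[.code,.eqn 30 false],
[.edge 5],
[.code],
[.code,.eqn 80 true,.eqn 78 false,.eqn 91 false],
[.code,.eqn 80 true,.eqn 78 false,.eqn 91 false],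
[.edge 18],
[.code,.eqn 79 false,.eqn 93 false,.eqn 79 false,.eqn 93 true],
[.code,.eqn 81 true,.eqn 93 false],
[.code,.eqn 81 false,.eqn 79 false,.eqn 93 false],
[.eqn 93 true,.edge 85,.eqn 78 false,.eqn 80 false],
[.code],
[.code,.eqn 79 false,.eqn 93 true],
[.code,.eqn 79 false,.eqn 93 true,.eqn 81 false],
[.edge 77,.eqn 35 false],
[.code],
[.code,.eqn 81 false,.eqn 93 false,.eqn 79 false,.eqn 93 true],
[.code,.eqn 93 false,.eqn 79 false,.eqn 93 false],
[.edge 77],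
[.code],
[.code,.eqn 26 false,.eqn 35 true,.eqn 26 false],
[.code,.eqn 35 false,.eqn 26 false],
[.edge 17,.eqn 80 true,.eqn 78 false,.eqn 80 false,.eqn 91 false],
[.code],
[.code],
[.code],
[.edge 57,.eqn 28 true,.eqn 31 false,.eqn 33 true],
[.code],
[.code],
[.code],
[.edge 73,.eqn 34 true],
[.code,.eqn 80 true,.eqn 78 false],
[.code,.eqn 78 false,.eqn 91 true,.eqn 80 false,.eqn 78 false],
[.code,.eqn 80 false,.eqn 78 false,.eqn 91 true],
[.edge 82],
[.code,.eqn 27 false,.eqn 31 false],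
[.code],
[.code,.eqn 28 true],
[.eqn 28 false,.edge 4],
[.code],
[.code,.eqn 81 false,.eqn 93 false,.eqn 79 false,.eqn 93 true],
[.code,.eqn 81 false,.eqn 93 true],
[.edge 77,.eqn 35 false,.eqn 26 false,.eqn 35 true],
[.code,.eqn 27 false],
[.code],
[.code,.eqn 27 false,.eqn 29 false,.eqn 33 false,.eqn 28 false],
[.eqn 28 false,.edge 4],
[.code],
[.code,.eqn 78 false,.eqn 80 false,.eqn 91 false,.eqn 80 true]]

/-- A part of the walks. -/
def walks2_1 : List (List Move) := [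
[.code,.eqn 91 false,.eqn 80 true],
[.edge 82,.eqn 35 false,.eqn 26 false,.eqn 35 true],
[.code],
[.code],
[.code],
[.edge 19,.eqn 84 false],
[.code,.eqn 35 false,.eqn 26 false],
[.code],
[.code,.eqn 35 true],
[.edge 17],
[.code],
[.code],
[.code,.eqn 35 true],
[.edge 19,.eqn 84 false],
[.code],
[.code,.eqn 35 true,.eqn 26 false,.eqn 35 false],
[.code,.eqn 26 false],
[.edge 19,.eqn 84 false,.eqn 93 false,.eqn 79 false,.eqn 81 true],
[.code,.eqn 79 false],
[.code],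
[.code,.eqn 81 false,.eqn 79 false,.eqn 93 true],
[.edge 85,.eqn 91 false,.eqn 78 false],
[.code],
[.code,.eqn 93 false,.eqn 79 false,.eqn 93 true],
[.code,.eqn 79 false,.eqn 93 true,.eqn 79 false],
[.edge 85],
[.code,.eqn 26 false,.eqn 35 false],
[.code],
[.code],
[.edge 19,.eqn 84 false,.eqn 81 true,.eqn 93 false],
[.code],
[.code],
[.code,.eqn 26 false],
[.edge 17],
[.code,.eqn 35 false],
[.code],
[.code,.eqn 26 false,.eqn 35 false,.eqn 26 false],
[.edge 17],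
[.code,.eqn 91 true,.eqn 78 false],
[.code,.eqn 91 false,.eqn 80 true,.eqn 91 false],
[.code,.eqn 78 false,.eqn 91 false,.eqn 80 false],
[.edge 18],
[.code,.eqn 79 false],
[.code,.eqn 81 true,.eqn 79 false,.eqn 93 true],
[.code,.eqn 93 true,.eqn 79 false,.eqn 81 true],
[.edge 77],
[.code],
[.code],
[.code,.eqn 35 false,.eqn 26 false],
[.edge 73,.eqn 30 true,.eqn 32 false],
[.code,.eqn 30 true,.eqn 32 false],
[.code],
[.code],
[.edge 55,.eqn 56 true,.eqn 30 true,.eqn 34 true,.eqn 30 false],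
[.code,.eqn 30 true],
[.code],
[.code],
[.edge 55,.eqn 56 true,.eqn 30 false,.eqn 32 false],
[.code,.eqn 26 false,.eqn 35 true,.eqn 26 false],
[.code,.eqn 26 false,.eqn 35 false],
[.code,.eqn 26 false,.eqn 35 false,.eqn 26 false],
[.edge 74,.eqn 26 false],
[.code,.eqn 26 false,.eqn 35 true],
[.code],
[.code,.eqn 26 false,.eqn 35 true,.eqn 26 false],
[.edge 17],
[.code,.eqn 35 false,.eqn 26 false],
[.code],
[.code,.eqn 35 true,.eqn 26 false,.eqn 35 false],
[.edge 19,.eqn 84 false],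
[.code,.eqn 81 false,.eqn 79 false,.eqn 81 true],
[.code,.eqn 93 false,.eqn 79 false,.eqn 93 true],
[.code,.eqn 81 true,.eqn 93 true],
[.edge 85,.eqn 80 true,.eqn 78 false,.eqn 80 false],
[.code],
[.code,.eqn 35 true,.eqn 26 false],
[.code,.eqn 26 false,.eqn 35 false],
[.edge 19,.eqn 84 false],
[.code,.eqn 79 false,.eqn 81 false],
[.code,.eqn 93 true,.eqn 81 false],
[.code,.eqn 93 false,.eqn 79 false,.eqn 81 false],
[.edge 77],
[.code],
[.code],
[.code],
[.edge 4],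
[.code,.eqn 78 false,.eqn 91 true,.eqn 80 false,.eqn 78 false],
[.code,.eqn 80 false,.eqn 78 false,.eqn 80 true,.eqn 91 false],
[.code,.eqn 91 true,.eqn 80 false],
[.edge 18,.eqn 93 false,.eqn 79 false,.eqn 93 true],
[.code],
[.code,.eqn 78 false,.eqn 80 true,.eqn 91 true],
[.code,.eqn 91 false,.eqn 80 false,.eqn 91 false,.eqn 80 false],
[.edge 82,.eqn 35 true],
[.code,.eqn 80 true],
[.code,.eqn 78 false,.eqn 80 true,.eqn 91 true],
[.code,.eqn 78 false,.eqn 91 false,.eqn 80 false],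
[.edge 82],
[.code,.eqn 35 false,.eqn 26 false],
[.code],
[.code,.eqn 35 true,.eqn 26 false],
[.edge 19,.eqn 84 false],
[.code,.eqn 26 false,.eqn 35 true],
[.code,.eqn 26 false,.eqn 35 true,.eqn 26 false],
[.code],
[.edge 17],
[.code,.eqn 78 false,.eqn 80 false,.eqn 78 false,.eqn 91 false],
[.code],
[.code,.eqn 91 true,.eqn 80 false],
[.eqn 78 false,.eqn 91 true,.edge 82],
[.code],
[.code],
[.code],
[.eqn 27 false,.edge 4],
[.code],
[.code,.eqn 80 false,.eqn 91 false,.eqn 80 true,.eqn 91 false],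
[.code,.eqn 91 false],
[.edge 82,.eqn 26 false,.eqn 35 false],
[.code,.eqn 26 false,.eqn 35 true,.eqn 26 false],
[.code],
[.code,.eqn 26 false,.eqn 35 false],
[.edge 17],
[.code],
[.code,.eqn 35 true,.eqn 26 false,.eqn 35 false],
[.code,.eqn 35 false,.eqn 26 false],
[.edge 19,.eqn 84 false],
[.code],
[.code,.eqn 35 true],
[.code,.eqn 35 true,.eqn 26 false],
[.edge 19,.eqn 84 false],
[.code],
[.code,.eqn 26 false,.eqn 35 false],
[.code],
[.edge 73,.eqn 30 false,.eqn 32 false,.eqn 34 true],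
[.code,.eqn 26 false,.eqn 35 true],
[.code,.eqn 35 false,.eqn 26 false,.eqn 35 true],
[.code,.eqn 35 false,.eqn 26 false,.eqn 35 true],
[.edge 74,.eqn 35 false,.eqn 26 false,.eqn 35 true],
[.code],
[.code,.eqn 35 false,.eqn 26 false,.eqn 35 true],
[.code,.eqn 35 false,.eqn 26 false,.eqn 35 true],
[.edge 74,.eqn 26 false,.eqn 35 true,.eqn 26 false],
[.code],
[.code,.eqn 26 false,.eqn 35 true,.eqn 26 false],
[.code],
[.edge 73,.eqn 34 false],
[.code,.eqn 78 false,.eqn 80 true,.eqn 78 false],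
[.code,.eqn 80 true,.eqn 91 false],
[.code,.eqn 78 false,.eqn 91 false,.eqn 80 true],
[.edge 18,.eqn 81 false,.eqn 79 false,.eqn 93 false],
[.code],
[.code,.eqn 91 true,.eqn 80 false],
[.code,.eqn 80 true,.eqn 91 false],
[.edge 18],
[.code],
[.code,.eqn 81 true,.eqn 93 true],
[.code,.eqn 79 false,.eqn 93 true,.eqn 79 false],
[.edge 77,.eqn 26 false,.eqn 35 true,.eqn 26 false],
[.code,.eqn 81 true,.eqn 79 false],
[.code],
[.code,.eqn 93 false,.eqn 79 false,.eqn 81 true],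
[.eqn 79 false,.eqn 93 true,.edge 85,.eqn 80 true,.eqn 78 false],
[.code,.eqn 79 false],
[.code,.eqn 93 false,.eqn 81 true],
[.code,.eqn 81 true,.eqn 79 false,.eqn 93 false],
[.edge 85,.eqn 80 false,.eqn 91 false,.eqn 80 false],
[.code],
[.code],
[.code],
[.edge 75],
[.code],
[.code,.eqn 80 false,.eqn 91 false,.eqn 80 true,.eqn 91 false],
[.code],
[.edge 82,.eqn 35 false,.eqn 26 false,.eqn 35 true],
[.code,.eqn 80 true,.eqn 78 false],
[.code,.eqn 80 false,.eqn 91 false,.eqn 80 true,.eqn 91 false],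
[.code,.eqn 80 false,.eqn 78 false,.eqn 91 true],
[.edge 18,.eqn 81 true,.eqn 79 false,.eqn 81 false],
[.code],
[.code,.eqn 78 false,.eqn 80 true,.eqn 91 true,.eqn 80 true],
[.code,.eqn 80 false,.eqn 78 false,.eqn 91 false,.eqn 78 false],
[.edge 18],
[.code],
[.code,.eqn 93 true,.eqn 79 false,.eqn 93 true],
[.code,.eqn 93 false],
[.edge 77],
[.code,.eqn 35 false,.eqn 26 false],
[.code],
[.code,.eqn 35 true,.eqn 26 false,.eqn 35 false],
[.edge 19,.eqn 84 false],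
[.code,.eqn 35 false],
[.code,.eqn 35 true],
[.code,.eqn 26 false,.eqn 35 true],
[.edge 17,.eqn 91 true,.eqn 80 true],
[.code],
[.code,.eqn 78 false,.eqn 80 false,.eqn 78 false,.eqn 91 false],
[.code,.eqn 78 false,.eqn 91 false,.eqn 80 false],
[.eqn 91 true,.edge 18],
[.code],
[.code],
[.code,.eqn 93 false],
[.edge 85],
[.code,.eqn 80 false,.eqn 78 false,.eqn 91 false,.eqn 78 false],
[.code,.eqn 80 false,.eqn 78 false,.eqn 80 true,.eqn 91 false],
[.code,.eqn 78 false,.eqn 91 true],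
[.edge 18,.eqn 79 false,.eqn 93 true,.eqn 79 false],
[.code,.eqn 78 false,.eqn 80 false],
[.code,.eqn 91 false,.eqn 80 false,.eqn 91 false,.eqn 80 false],
[.code,.eqn 78 false,.eqn 91 true,.eqn 78 false],
[.edge 18,.eqn 81 true,.eqn 79 false,.eqn 81 false]]

/-- A part of the walks. -/
def walks2_2 : List (List Move) := [
[.code,.eqn 30 true],
[.code],
[.code],
[.eqn 32 false,.edge 63,.eqn 69 true,.eqn 72 false],
[.code,.eqn 93 false,.eqn 79 false,.eqn 93 false],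
[.code,.eqn 93 true,.eqn 79 false],
[.code,.eqn 81 true,.eqn 93 true,.eqn 79 false],
[.edge 85,.eqn 80 false,.eqn 78 false],
[.code,.eqn 81 false,.eqn 79 false,.eqn 81 true],
[.code,.eqn 93 false,.eqn 79 false,.eqn 93 false],
[.code,.eqn 93 true,.eqn 81 false,.eqn 79 false],
[.edge 77],
[.code,.eqn 79 false,.eqn 93 false,.eqn 79 false],
[.code],
[.code,.eqn 81 false,.eqn 93 false,.eqn 79 false],
[.eqn 79 false,.eqn 93 false,.edge 77,.eqn 26 false],
[.code],
[.code,.eqn 93 false,.eqn 79 false,.eqn 93 true],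
[.code,.eqn 79 false,.eqn 81 false,.eqn 79 false,.eqn 93 false],
[.edge 85,.eqn 80 true],
[.code,.eqn 79 false,.eqn 81 true,.eqn 79 false,.eqn 93 false],
[.code,.eqn 93 false,.eqn 79 false,.eqn 81 false],
[.code,.eqn 93 true],
[.edge 77],
[.code,.eqn 81 false,.eqn 79 false,.eqn 81 true],
[.code,.eqn 93 true,.eqn 81 false],
[.code,.eqn 79 false,.eqn 93 false,.eqn 81 true],
[.edge 77,.eqn 35 false,.eqn 26 false],
[.code],
[.code],
[.code],
[.edge 17],
[.code],
[.code,.eqn 91 false,.eqn 78 false,.eqn 91 true],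
[.code,.eqn 91 false],
[.edge 18],
[.code,.eqn 81 true,.eqn 79 false],
[.code,.eqn 81 false,.eqn 93 true],
[.code,.eqn 93 true],
[.edge 85,.eqn 78 false,.eqn 91 false,.eqn 80 false],
[.code],
[.code],
[.code],
[.edge 64,.eqn 69 true,.eqn 72 false],
[.code,.eqn 80 false,.eqn 91 true],
[.code,.eqn 78 false,.eqn 80 true,.eqn 78 false,.eqn 91 false],
[.code,.eqn 78 false,.eqn 80 false,.eqn 91 false,.eqn 80 true],
[.edge 82],
[.code],
[.code,.eqn 78 false,.eqn 80 false,.eqn 78 false,.eqn 91 true],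
[.code,.eqn 78 false,.eqn 91 false],
[.eqn 91 true,.edge 82,.eqn 35 true,.eqn 26 false],
[.code,.eqn 93 true,.eqn 79 false,.eqn 93 true],
[.code,.eqn 81 true,.eqn 93 false],
[.code,.eqn 79 false,.eqn 93 true,.eqn 79 false,.eqn 93 true],
[.eqn 79 false,.eqn 93 true,.edge 77,.eqn 26 false,.eqn 35 true,.eqn 26 false],
[.code,.eqn 79 false,.eqn 93 true,.eqn 79 false],
[.code,.eqn 79 false,.eqn 81 false,.eqn 93 false,.eqn 79 false],
[.code,.eqn 93 true,.eqn 81 false],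
[.edge 85],
[.code,.eqn 35 true,.eqn 26 false],
[.code,.eqn 35 true],
[.code,.eqn 26 false,.eqn 35 false,.eqn 26 false],
[.eqn 35 false,.eqn 26 false,.edge 73,.eqn 34 false,.eqn 30 false],
[.code],
[.code,.eqn 35 true,.eqn 26 false],
[.code,.eqn 26 false,.eqn 35 true],
[.eqn 35 false,.edge 75],
[.code,.eqn 26 false,.eqn 35 true,.eqn 26 false],
[.code,.eqn 26 false,.eqn 35 true],
[.code,.eqn 35 true,.eqn 26 false,.eqn 35 false],
[.edge 74,.eqn 35 true,.eqn 26 false,.eqn 35 false],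
[.code,.eqn 26 false,.eqn 35 false,.eqn 26 false],
[.code,.eqn 26 false,.eqn 35 false],
[.code,.eqn 35 true,.eqn 26 false],
[.edge 74,.eqn 35 false,.eqn 26 false],
[.code],
[.code,.eqn 35 false,.eqn 26 false,.eqn 35 true],
[.code,.eqn 35 true,.eqn 26 false],
[.edge 73,.eqn 30 false,.eqn 34 true],
[.code,.eqn 26 false],
[.code],
[.code,.eqn 35 true,.eqn 26 false],
[.eqn 35 true,.eqn 26 false,.edge 73,.eqn 30 true,.eqn 34 true],
[.code],
[.code,.eqn 30 true],
[.code],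
[.eqn 30 false,.edge 5],
[.code,.eqn 79 false,.eqn 81 true,.eqn 79 false],
[.code,.eqn 93 true,.eqn 79 false,.eqn 93 true],
[.code,.eqn 79 false,.eqn 81 false,.eqn 79 false,.eqn 93 false],
[.edge 85,.eqn 78 false,.eqn 80 true,.eqn 91 false],
[.code,.eqn 35 true],
[.code],
[.code],
[.edge 75,.eqn 35 true],
[.code,.eqn 26 false,.eqn 35 false,.eqn 26 false],
[.code,.eqn 35 false],
[.code,.eqn 35 true],
[.edge 19,.eqn 84 false],
[.code],
[.code,.eqn 26 false,.eqn 35 false],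
[.code],
[.edge 17],
[.code],
[.code],
[.code,.eqn 26 false,.eqn 35 false],
[.edge 17],
[.code,.eqn 30 true],
[.code,.eqn 34 false,.eqn 30 true],
[.code],
[.eqn 30 false,.edge 5],
[.code],
[.code],
[.code],
[.edge 85],
[.code],
[.code,.eqn 35 true],
[.code,.eqn 26 false,.eqn 35 false,.eqn 26 false],
[.eqn 35 false,.eqn 26 false,.edge 73,.eqn 30 true,.eqn 34 true,.eqn 30 false],
[.code],
[.code],
[.code],
[.edge 19,.eqn 84 false],
[.code,.eqn 79 false],
[.code,.eqn 79 false,.eqn 93 false],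
[.code,.eqn 81 true,.eqn 79 false,.eqn 93 true],
[.edge 77,.eqn 35 false,.eqn 26 false,.eqn 35 true],
[.code],
[.code,.eqn 34 true,.eqn 30 true],
[.code],
[.edge 64,.eqn 69 true,.eqn 72 false],
[.code,.eqn 35 false,.eqn 26 false],
[.code],
[.code],
[.eqn 35 false,.eqn 26 false,.edge 73,.eqn 32 false,.eqn 34 false],
[.code,.eqn 26 false,.eqn 35 true],
[.code],
[.code,.eqn 35 false,.eqn 26 false,.eqn 35 true],
[.edge 19,.eqn 84 false],
[.code],
[.code,.eqn 35 true,.eqn 26 false,.eqn 35 false],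
[.code,.eqn 26 false,.eqn 35 true],
[.edge 17],
[.code,.eqn 26 false,.eqn 35 true],
[.code],
[.code,.eqn 35 true],
[.edge 74],
[.code,.eqn 78 false,.eqn 91 false],
[.code],
[.code,.eqn 91 false],
[.eqn 78 false,.eqn 91 false,.edge 82,.eqn 35 true],
[.code,.eqn 91 false,.eqn 80 true],
[.code,.eqn 78 false,.eqn 91 false,.eqn 80 true],
[.code,.eqn 80 true,.eqn 78 false,.eqn 80 false,.eqn 91 false],
[.eqn 91 false,.edge 18],
[.code,.eqn 30 false,.eqn 32 false],
[.code],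
[.code],
[.edge 63,.eqn 69 true,.eqn 72 false],
[.code,.eqn 34 true,.eqn 30 false],
[.code,.eqn 30 false],
[.code,.eqn 30 false],
[.edge 5],
[.code],
[.code,.eqn 81 false,.eqn 93 false,.eqn 79 false,.eqn 93 true],
[.code,.eqn 81 false,.eqn 93 true],
[.edge 85],
[.code],
[.code,.eqn 35 true,.eqn 26 false,.eqn 35 false],
[.code,.eqn 35 true,.eqn 26 false,.eqn 35 false],
[.eqn 35 false,.edge 75],
[.code],
[.code],
[.code],
[.eqn 32 false,.edge 5],
[.code],
[.code,.eqn 35 true,.eqn 26 false],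
[.code,.eqn 26 false,.eqn 35 true],
[.edge 73,.eqn 30 true,.eqn 34 false],
[.code],
[.code],
[.code],
[.eqn 32 false,.edge 63,.eqn 69 true,.eqn 72 false],
[.code],
[.code],
[.code],
[.eqn 34 true,.edge 63,.eqn 69 true,.eqn 72 false],
[.code,.eqn 35 true,.eqn 26 false,.eqn 35 false],
[.code,.eqn 35 false,.eqn 26 false],
[.code,.eqn 35 true,.eqn 26 false,.eqn 35 false],
[.edge 74],
[.code,.eqn 26 false,.eqn 35 false,.eqn 26 false],
[.code,.eqn 26 false,.eqn 35 true],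
[.code],
[.edge 74,.eqn 35 false,.eqn 26 false,.eqn 35 true],
[.code],
[.code],
[.code],
[.edge 74],
[.code,.eqn 30 true,.eqn 32 false],
[.code],
[.code],
[.eqn 30 false,.edge 5],
[.code,.eqn 35 false,.eqn 26 false,.eqn 35 true],
[.code,.eqn 35 true,.eqn 26 false],
[.code,.eqn 26 false,.eqn 35 false,.eqn 26 false],
[.edge 74,.eqn 35 false,.eqn 26 false,.eqn 35 true],
[.code,.eqn 35 false,.eqn 26 false,.eqn 35 true],
[.code,.eqn 35 true,.eqn 26 false]]

/-- A part of the walks. -/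
def walks2_3 : List (List Move) := [
[.code,.eqn 35 true,.eqn 26 false],
[.eqn 35 false,.eqn 26 false,.edge 73,.eqn 30 true,.eqn 32 false],
[.code,.eqn 35 true,.eqn 26 false],
[.code,.eqn 26 false],
[.code],
[.eqn 35 true,.eqn 26 false,.edge 73,.eqn 34 false,.eqn 30 true],
[.code],
[.code,.eqn 30 true],
[.code],
[.edge 64,.eqn 69 true,.eqn 72 false],
[.code],
[.code,.eqn 32 false,.eqn 34 false],
[.code],
[.eqn 30 false,.edge 5],
[.code,.eqn 79 false,.eqn 81 false,.eqn 79 false],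
[.code,.eqn 81 true,.eqn 93 true,.eqn 79 false],
[.code,.eqn 81 true,.eqn 79 false,.eqn 93 true],
[.edge 77],
[.code],
[.code,.eqn 79 false,.eqn 81 true,.eqn 93 true],
[.code,.eqn 79 false,.eqn 93 false,.eqn 79 false,.eqn 93 true],
[.edge 77,.eqn 35 false,.eqn 26 false,.eqn 35 true],
[.code],
[.code],
[.code],
[.edge 74],
[.code],
[.code],
[.code,.eqn 35 false,.eqn 26 false],
[.edge 74,.eqn 26 false,.eqn 35 true,.eqn 26 false],
[.code],
[.code,.eqn 80 false,.eqn 91 true,.eqn 78 false],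
[.code,.eqn 80 true,.eqn 91 false],
[.edge 82,.eqn 35 false,.eqn 26 false,.eqn 35 true],
[.code,.eqn 78 false,.eqn 80 false,.eqn 78 false],
[.code,.eqn 80 false,.eqn 78 false,.eqn 91 false,.eqn 78 false],
[.code],
[.edge 82],
[.code],
[.code,.eqn 35 true,.eqn 26 false,.eqn 35 false],
[.code,.eqn 26 false,.eqn 35 true],
[.eqn 35 false,.edge 75,.eqn 35 true],
[.code],
[.code,.eqn 32 false,.eqn 34 true],
[.code,.eqn 32 false,.eqn 34 false],
[.eqn 34 true,.edge 63,.eqn 69 true,.eqn 72 false,.eqn 26 false,.eqn 35 true],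
[.code,.eqn 30 false,.eqn 34 false],
[.code],
[.code],
[.eqn 32 false,.edge 63,.eqn 69 true,.eqn 72 false],
[.code],
[.code,.eqn 35 true,.eqn 26 false,.eqn 35 false],
[.code,.eqn 35 false,.eqn 26 false,.eqn 35 true],
[.edge 73,.eqn 30 true,.eqn 34 true,.eqn 30 false],
[.code,.eqn 35 true,.eqn 26 false],
[.code],
[.code,.eqn 35 true,.eqn 26 false],
[.edge 17],
[.code],
[.code,.eqn 78 false,.eqn 80 true,.eqn 91 true,.eqn 80 true],
[.code,.eqn 80 false,.eqn 78 false,.eqn 91 false,.eqn 78 false],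
[.edge 82,.eqn 35 false,.eqn 26 false,.eqn 35 true],
[.code],
[.code,.eqn 35 false],
[.code,.eqn 35 false,.eqn 26 false,.eqn 35 true],
[.eqn 26 false,.edge 73,.eqn 30 true,.eqn 34 true,.eqn 30 false],
[.code],
[.code,.eqn 30 false,.eqn 32 false,.eqn 34 true],
[.code],
[.eqn 34 false,.edge 5],
[.code,.eqn 35 true],
[.code],
[.code,.eqn 35 false,.eqn 26 false,.eqn 35 true],
[.edge 19,.eqn 84 false],
[.code,.eqn 26 false,.eqn 35 true],
[.code],
[.code,.eqn 26 false,.eqn 35 true,.eqn 26 false],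
[.edge 74],
[.code],
[.code,.eqn 26 false],
[.code,.eqn 35 false,.eqn 26 false],
[.edge 74,.eqn 26 false,.eqn 35 false,.eqn 26 false],
[.code,.eqn 26 false,.eqn 35 true],
[.code],
[.code,.eqn 35 false,.eqn 26 false],
[.eqn 35 true,.eqn 26 false,.edge 73,.eqn 34 true],
[.code],
[.code],
[.code],
[.edge 74],
[.code,.eqn 35 false,.eqn 26 false,.eqn 35 true],
[.code,.eqn 35 true,.eqn 26 false],
[.code,.eqn 26 false,.eqn 35 false],
[.eqn 35 false,.eqn 26 false,.edge 73,.eqn 32 false,.eqn 34 false],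
[.code],
[.code,.eqn 30 true,.eqn 34 false,.eqn 30 true],
[.code],
[.edge 5],
[.code],
[.code,.eqn 34 true,.eqn 30 false],
[.code],
[.edge 5],
[.code],
[.code,.eqn 26 false],
[.code,.eqn 26 false],
[.edge 73,.eqn 30 false,.eqn 34 false,.eqn 30 true],
[.code,.eqn 30 true,.eqn 34 false],
[.code],
[.code,.eqn 30 false,.eqn 34 true],
[.eqn 34 true,.edge 63,.eqn 69 true,.eqn 72 false,.eqn 26 false,.eqn 35 false],
[.code,.eqn 30 false],
[.code,.eqn 30 true,.eqn 34 true],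
[.code],
[.eqn 32 false,.edge 63,.eqn 69 true,.eqn 72 false],
[.code],
[.code,.eqn 30 false,.eqn 34 false,.eqn 30 true],
[.code],
[.edge 63,.eqn 69 true,.eqn 72 false,.eqn 35 false,.eqn 26 false],
[.code,.eqn 26 false,.eqn 35 true,.eqn 26 false],
[.code],
[.code,.eqn 35 false,.eqn 26 false,.eqn 35 true],
[.eqn 35 true,.eqn 26 false,.edge 73],
[.code,.eqn 35 true,.eqn 26 false,.eqn 35 false],
[.code],
[.code],
[.edge 17],
[.code],
[.code],
[.code],
[.edge 18],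
[.code,.eqn 30 true,.eqn 32 false],
[.code,.eqn 30 true,.eqn 34 false],
[.code],
[.edge 63,.eqn 69 true,.eqn 72 false],
[.code],
[.code,.eqn 30 false,.eqn 34 true,.eqn 30 true],
[.code],
[.edge 5,.eqn 26 false,.eqn 35 true],
[.code],
[.code,.eqn 30 true,.eqn 34 true,.eqn 30 false],
[.code],
[.eqn 32 false,.edge 5,.eqn 26 false,.eqn 35 true],
[.code,.eqn 26 false],
[.code],
[.code,.eqn 35 false,.eqn 26 false],
[.edge 74,.eqn 35 false,.eqn 26 false],
[.code,.eqn 79 false,.eqn 81 false],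
[.code],
[.code,.eqn 79 false,.eqn 81 true],
[.eqn 93 true,.edge 77,.eqn 26 false,.eqn 35 false],
[.code],
[.code,.eqn 93 false,.eqn 79 false],
[.code,.eqn 79 false,.eqn 93 true,.eqn 79 false],
[.edge 85,.eqn 80 true,.eqn 78 false,.eqn 80 false],
[.code],
[.code,.eqn 35 false,.eqn 26 false,.eqn 35 true],
[.code],
[.edge 73,.eqn 34 true,.eqn 30 false],
[.code,.eqn 26 false,.eqn 35 true],
[.code,.eqn 35 false],
[.code,.eqn 26 false,.eqn 35 true,.eqn 26 false],
[.edge 74],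
[.code],
[.code],
[.code],
[.edge 73,.eqn 30 true,.eqn 34 true],
[.code],
[.code],
[.code,.eqn 26 false,.eqn 35 false],
[.edge 75,.eqn 26 false,.eqn 35 true,.eqn 26 false],
[.code,.eqn 26 false,.eqn 35 true],
[.code,.eqn 26 false,.eqn 35 false,.eqn 26 false],
[.code,.eqn 35 false,.eqn 26 false],
[.edge 74,.eqn 35 false,.eqn 26 false,.eqn 35 true],
[.code,.eqn 30 true,.eqn 32 false],
[.code,.eqn 30 false],
[.code,.eqn 34 true],
[.eqn 32 false,.edge 5,.eqn 35 true,.eqn 26 false,.eqn 35 false],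
[.code],
[.code,.eqn 35 true,.eqn 26 false],
[.code,.eqn 26 false],
[.edge 74,.eqn 26 false],
[.code,.eqn 26 false,.eqn 35 false,.eqn 26 false],
[.code,.eqn 26 false,.eqn 35 false],
[.code],
[.eqn 35 true,.eqn 26 false,.edge 73,.eqn 34 false,.eqn 30 true],
[.code,.eqn 30 true],
[.code],
[.code,.eqn 32 false,.eqn 34 false],
[.edge 63,.eqn 69 true,.eqn 72 false,.eqn 26 false,.eqn 35 false,.eqn 26 false],
[.code,.eqn 30 false],
[.code],
[.code],
[.edge 5],
[.code],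
[.code,.eqn 30 false,.eqn 34 false],
[.code,.eqn 34 true,.eqn 30 false],
[.eqn 34 false,.edge 5],
[.code],
[.code,.eqn 30 false,.eqn 34 true,.eqn 30 false],
[.code,.eqn 30 true,.eqn 32 false],
[.eqn 34 true,.edge 63,.eqn 69 true,.eqn 72 false,.eqn 26 false],
[.code,.eqn 26 false,.eqn 35 false,.eqn 26 false],
[.code],
[.code,.eqn 35 false,.eqn 26 false,.eqn 35 true],
[.edge 74,.eqn 35 true,.eqn 26 false],
[.code],
[.code,.eqn 35 true,.eqn 26 false,.eqn 35 false],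
[.code,.eqn 26 false,.eqn 35 false],
[.edge 73,.eqn 30 true,.eqn 34 false,.eqn 30 true]]

/-- A part of the walks. -/
def walks2_4 : List (List Move) := [
[.code],
[.code,.eqn 35 false],
[.code,.eqn 26 false,.eqn 35 true],
[.eqn 35 false,.eqn 26 false,.edge 73,.eqn 32 false,.eqn 34 false],
[.code],
[.code],
[.code],
[.eqn 30 false,.edge 5],
[.code,.eqn 34 true,.eqn 30 true],
[.code],
[.code],
[.edge 64,.eqn 69 true,.eqn 72 false],
[.code,.eqn 35 false],
[.code],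
[.code,.eqn 35 false],
[.eqn 35 false,.eqn 26 false,.edge 73],
[.code],
[.code],
[.code],
[.eqn 34 false,.edge 5],
[.code,.eqn 30 false,.eqn 32 false],
[.code],
[.code,.eqn 32 false,.eqn 34 false],
[.edge 64,.eqn 69 true,.eqn 72 false,.eqn 26 false,.eqn 35 true],
[.code],
[.code,.eqn 35 false,.eqn 26 false,.eqn 35 true],
[.code],
[.edge 74],
[.code,.eqn 26 false,.eqn 35 false,.eqn 26 false],
[.code,.eqn 35 false],
[.code],
[.eqn 35 false,.edge 75,.eqn 35 false,.eqn 26 false,.eqn 35 true],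
[.code,.eqn 35 false,.eqn 26 false,.eqn 35 true],
[.code,.eqn 35 true,.eqn 26 false],
[.code,.eqn 35 false,.eqn 26 false],
[.eqn 35 false,.eqn 26 false,.edge 73,.eqn 30 true,.eqn 32 false],
[.code],
[.code],
[.code],
[.edge 74],
[.code],
[.code],
[.code],
[.edge 74],
[.code,.eqn 35 false,.eqn 26 false,.eqn 35 true],
[.code],
[.code,.eqn 35 true],
[.eqn 35 false,.eqn 26 false,.edge 73,.eqn 34 false,.eqn 30 false],
[.code,.eqn 26 false,.eqn 35 true,.eqn 26 false],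
[.code,.eqn 35 true],
[.code,.eqn 35 false],
[.eqn 35 false,.eqn 26 false,.edge 73,.eqn 30 false,.eqn 34 false,.eqn 30 true],
[.code],
[.code,.eqn 35 true,.eqn 26 false,.eqn 35 false],
[.code,.eqn 35 false,.eqn 26 false],
[.edge 73,.eqn 30 false,.eqn 32 false],
[.code,.eqn 35 true,.eqn 26 false],
[.code],
[.code],
[.eqn 35 true,.eqn 26 false,.edge 73,.eqn 32 false],
[.code,.eqn 26 false,.eqn 35 false],
[.code],
[.code],
[.eqn 26 false,.edge 73,.eqn 32 false],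
[.code],
[.code,.eqn 26 false,.eqn 35 false],
[.code],
[.edge 73,.eqn 30 true,.eqn 34 true],
[.code],
[.code,.eqn 35 true,.eqn 26 false],
[.code],
[.edge 73,.eqn 30 false,.eqn 34 true,.eqn 30 false],
[.code,.eqn 35 true,.eqn 26 false],
[.code],
[.code,.eqn 26 false,.eqn 35 false],
[.eqn 35 true,.eqn 26 false,.edge 73,.eqn 32 false],
[.code,.eqn 32 false],
[.code],
[.code,.eqn 30 true],
[.edge 5],
[.code,.eqn 30 false,.eqn 34 true,.eqn 30 false],
[.code],
[.code,.eqn 34 false],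
[.eqn 30 false,.edge 5],
[.code],
[.code],
[.code],
[.edge 63,.eqn 69 true,.eqn 72 false],
[.code,.eqn 35 false,.eqn 26 false],
[.code,.eqn 35 true],
[.code],
[.eqn 35 false,.eqn 26 false,.edge 73,.eqn 34 false,.eqn 30 false],
[.code,.eqn 26 false,.eqn 35 true,.eqn 26 false],
[.code],
[.code,.eqn 26 false,.eqn 35 true,.eqn 26 false],
[.edge 74],
[.code,.eqn 78 false,.eqn 80 false],
[.code,.eqn 78 false,.eqn 80 false,.eqn 78 false,.eqn 91 true],
[.code,.eqn 78 false,.eqn 91 true,.eqn 78 false],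
[.edge 82],
[.code],
[.code],
[.code],
[.edge 18],
[.code],
[.code,.eqn 26 false],
[.code],
[.eqn 35 false,.edge 75],
[.code,.eqn 35 false,.eqn 26 false],
[.code,.eqn 26 false,.eqn 35 false,.eqn 26 false],
[.code,.eqn 26 false,.eqn 35 true],
[.eqn 35 false,.eqn 26 false,.edge 73,.eqn 30 true,.eqn 32 false],
[.code,.eqn 26 false,.eqn 35 true],
[.code],
[.code],
[.edge 74,.eqn 26 false,.eqn 35 true,.eqn 26 false],
[.code,.eqn 30 false,.eqn 34 false],
[.code,.eqn 30 true,.eqn 34 true],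
[.code],
[.eqn 32 false,.edge 5],
[.code],
[.code],
[.code],
[.edge 5],
[.code,.eqn 26 false,.eqn 35 false],
[.code,.eqn 35 false,.eqn 26 false,.eqn 35 true],
[.code,.eqn 35 false,.eqn 26 false],
[.eqn 35 false,.edge 75,.eqn 26 false,.eqn 35 true,.eqn 26 false],
[.code,.eqn 26 false,.eqn 35 false,.eqn 26 false],
[.code,.eqn 26 false],
[.code],
[.eqn 35 true,.eqn 26 false,.edge 73,.eqn 34 true,.eqn 30 true],
[.code],
[.code,.eqn 35 true,.eqn 26 false],
[.code,.eqn 26 false,.eqn 35 true],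
[.eqn 35 false,.eqn 26 false,.edge 73,.eqn 32 false],
[.code,.eqn 32 false],
[.code],
[.code,.eqn 34 false,.eqn 30 false],
[.eqn 32 false,.edge 5],
[.code],
[.code],
[.code,.eqn 35 true,.eqn 26 false],
[.eqn 35 false,.eqn 26 false,.edge 73,.eqn 30 true,.eqn 34 false,.eqn 30 true],
[.code],
[.code],
[.code,.eqn 35 true,.eqn 26 false],
[.edge 74],
[.code,.eqn 35 false,.eqn 26 false,.eqn 35 true],
[.code],
[.code,.eqn 35 true,.eqn 26 false],
[.edge 74,.eqn 35 false,.eqn 26 false],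
[.code,.eqn 35 false,.eqn 26 false,.eqn 35 true],
[.code,.eqn 35 true,.eqn 26 false],
[.code,.eqn 35 false,.eqn 26 false],
[.eqn 35 false,.eqn 26 false,.edge 73,.eqn 32 false,.eqn 34 false],
[.code],
[.code,.eqn 26 false,.eqn 35 false],
[.code],
[.edge 75,.eqn 35 true],
[.code],
[.code,.eqn 30 false,.eqn 34 true],
[.code],
[.eqn 32 false,.edge 5,.eqn 26 false,.eqn 35 true],
[.code,.eqn 30 false,.eqn 32 false],
[.code],
[.code],
[.edge 5],
[.code,.eqn 35 true,.eqn 26 false],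
[.code,.eqn 26 false],
[.code,.eqn 35 false],
[.edge 74,.eqn 35 false,.eqn 26 false,.eqn 35 true],
[.code,.eqn 35 true],
[.code],
[.code,.eqn 26 false],
[.eqn 35 false,.edge 75,.eqn 35 true],
[.code],
[.code,.eqn 26 false,.eqn 35 false],
[.code],
[.edge 74,.eqn 35 false],
[.code],
[.code],
[.code,.eqn 35 true,.eqn 26 false],
[.edge 73,.eqn 30 true,.eqn 32 false],
[.code],
[.code],
[.code],
[.edge 55,.eqn 56 true,.eqn 34 true],
[.code,.eqn 35 false,.eqn 26 false,.eqn 35 true],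
[.code],
[.code],
[.edge 74],
[.code],
[.code,.eqn 35 true,.eqn 26 false,.eqn 35 false],
[.code,.eqn 26 false,.eqn 35 false,.eqn 26 false],
[.edge 73,.eqn 32 false,.eqn 34 true],
[.code,.eqn 26 false,.eqn 35 false],
[.code,.eqn 26 false,.eqn 35 true],
[.code,.eqn 26 false,.eqn 35 false],
[.edge 74,.eqn 35 false],
[.code,.eqn 35 false],
[.code],
[.code,.eqn 35 false,.eqn 26 false],
[.eqn 35 true,.eqn 26 false,.edge 73,.eqn 30 true,.eqn 34 false,.eqn 30 true],
[.code,.eqn 35 false,.eqn 26 false],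
[.code,.eqn 35 true],
[.code,.eqn 26 false,.eqn 35 true],
[.eqn 35 true,.edge 75,.eqn 26 false,.eqn 35 false],
[.code,.eqn 35 false,.eqn 26 false,.eqn 35 true],
[.code,.eqn 35 false,.eqn 26 false]]

/-- A part of the walks. -/
def walks2_5 : List (List Move) := [
[.code,.eqn 35 false],
[.edge 74,.eqn 35 true],
[.code,.eqn 30 false,.eqn 34 false],
[.code],
[.code],
[.edge 55,.eqn 56 true,.eqn 30 false,.eqn 34 false],
[.code],
[.code,.eqn 34 false,.eqn 30 false],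
[.code],
[.eqn 32 false,.edge 63,.eqn 69 true,.eqn 72 false],
[.code],
[.code,.eqn 26 false,.eqn 35 false,.eqn 26 false],
[.code],
[.edge 74],
[.code,.eqn 35 true],
[.code],
[.code],
[.eqn 35 false,.eqn 26 false,.edge 73,.eqn 32 false,.eqn 34 true],
[.code],
[.code,.eqn 26 false,.eqn 35 false,.eqn 26 false],
[.code,.eqn 35 false,.eqn 26 false],
[.edge 74],
[.code,.eqn 35 true,.eqn 26 false],
[.code,.eqn 35 false],
[.code],
[.eqn 35 false,.edge 75,.eqn 35 true,.eqn 26 false],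
[.code,.eqn 35 false,.eqn 26 false,.eqn 35 true],
[.code,.eqn 35 true],
[.code,.eqn 26 false,.eqn 35 true],
[.eqn 35 false,.eqn 26 false,.edge 73,.eqn 30 true,.eqn 32 false],
[.code,.eqn 26 false,.eqn 35 true],
[.code,.eqn 35 true,.eqn 26 false,.eqn 35 false],
[.code,.eqn 35 false,.eqn 26 false],
[.edge 74,.eqn 26 false,.eqn 35 true,.eqn 26 false],
[.code],
[.code],
[.code],
[.edge 74],
[.code],
[.code,.eqn 35 false,.eqn 26 false],
[.code,.eqn 35 false,.eqn 26 false],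
[.edge 73,.eqn 30 false],
[.code,.eqn 35 false,.eqn 26 false],
[.code,.eqn 26 false,.eqn 35 true],
[.code,.eqn 26 false,.eqn 35 false],
[.eqn 35 false,.eqn 26 false,.edge 73,.eqn 30 true,.eqn 32 false],
[.code,.eqn 30 false,.eqn 34 false],
[.code],
[.code,.eqn 30 false,.eqn 32 false],
[.eqn 34 true,.edge 63,.eqn 69 true,.eqn 72 false],
[.code],
[.code,.eqn 26 false,.eqn 35 false],
[.code,.eqn 35 true,.eqn 26 false],
[.eqn 35 false,.edge 75,.eqn 35 false,.eqn 26 false,.eqn 35 true],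
[.code,.eqn 26 false,.eqn 35 false,.eqn 26 false],
[.code,.eqn 26 false],
[.code,.eqn 35 false,.eqn 26 false],
[.edge 74,.eqn 35 false,.eqn 26 false],
[.code,.eqn 32 false],
[.code],
[.code],
[.eqn 34 false,.edge 5],
[.code,.eqn 26 false,.eqn 35 false],
[.code],
[.code,.eqn 26 false,.eqn 35 false],
[.eqn 35 false,.eqn 26 false,.edge 73,.eqn 30 false,.eqn 34 true,.eqn 30 false],
[.code,.eqn 30 false],
[.code],
[.code,.eqn 34 true,.eqn 30 false],
[.eqn 32 false,.edge 5,.eqn 26 false,.eqn 35 false,.eqn 26 false],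
[.code,.eqn 29 false,.eqn 28 false,.eqn 33 true],
[.code],
[.code,.eqn 28 false,.eqn 29 false],
[.eqn 28 false,.edge 4],
[.code],
[.code,.eqn 26 false,.eqn 35 true],
[.code,.eqn 35 true,.eqn 26 false,.eqn 35 false],
[.edge 73,.eqn 30 false,.eqn 32 false],
[.code,.eqn 30 true,.eqn 34 false,.eqn 30 true],
[.code],
[.code,.eqn 34 true,.eqn 30 false],
[.eqn 34 true,.edge 63,.eqn 69 true,.eqn 72 false],
[.code],
[.code],
[.code],
[.edge 73,.eqn 30 false,.eqn 32 false,.eqn 34 true],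
[.code],
[.code,.eqn 35 false,.eqn 26 false],
[.code],
[.edge 74],
[.code,.eqn 35 true,.eqn 26 false,.eqn 35 false],
[.code,.eqn 26 false,.eqn 35 false],
[.code,.eqn 26 false,.eqn 35 false],
[.eqn 35 true,.eqn 26 false,.edge 73,.eqn 30 false,.eqn 34 false,.eqn 30 true],
[.code,.eqn 26 false,.eqn 35 true,.eqn 26 false],
[.code,.eqn 35 true,.eqn 26 false],
[.code,.eqn 35 true],
[.eqn 35 false,.eqn 26 false,.edge 73,.eqn 30 false,.eqn 32 false],
[.code],
[.code,.eqn 29 false],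
[.code],
[.eqn 33 false,.edge 4],
[.code,.eqn 30 true,.eqn 34 false,.eqn 30 true],
[.code],
[.code,.eqn 30 true,.eqn 34 false],
[.edge 64,.eqn 69 true,.eqn 72 false],
[.code],
[.code],
[.code],
[.edge 57,.eqn 29 false,.eqn 33 false],
[.code,.eqn 35 false,.eqn 26 false],
[.code,.eqn 35 false],
[.code,.eqn 26 false],
[.eqn 35 false,.eqn 26 false,.edge 73],
[.code,.eqn 32 false],
[.code],
[.code,.eqn 30 true,.eqn 34 false,.eqn 30 true],
[.eqn 34 false,.edge 5],
[.code,.eqn 34 true,.eqn 30 true],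
[.code],
[.code,.eqn 30 false,.eqn 32 false],
[.edge 5],
[.code],
[.code],
[.code],
[.eqn 34 true,.edge 63,.eqn 69 true,.eqn 72 false],
[.code,.eqn 35 false,.eqn 26 false,.eqn 35 true],
[.code,.eqn 26 false,.eqn 35 false],
[.code,.eqn 35 true,.eqn 26 false],
[.edge 74,.eqn 35 true],
[.code,.eqn 35 false],
[.code],
[.code],
[.eqn 35 true,.edge 75,.eqn 26 false,.eqn 35 true,.eqn 26 false],
[.code,.eqn 35 false,.eqn 26 false],
[.code,.eqn 35 true],
[.code,.eqn 26 false,.eqn 35 false,.eqn 26 false],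
[.eqn 35 false,.eqn 26 false,.edge 73,.eqn 30 false,.eqn 32 false],
[.code,.eqn 26 false,.eqn 35 true],
[.code,.eqn 26 false],
[.code,.eqn 35 false],
[.edge 74,.eqn 26 false,.eqn 35 true,.eqn 26 false],
[.code],
[.code],
[.code],
[.edge 55,.eqn 56 true,.eqn 30 false,.eqn 32 false],
[.code,.eqn 34 true,.eqn 30 true],
[.code],
[.code],
[.edge 57,.eqn 33 true],
[.code],
[.code],
[.code],
[.edge 57,.eqn 27 false,.eqn 28 true,.eqn 29 false],
[.code,.eqn 33 false,.eqn 28 true,.eqn 29 false],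
[.code],
[.code,.eqn 29 false,.eqn 31 false,.eqn 33 true,.eqn 28 true],
[.eqn 28 false,.edge 4],
[.code,.eqn 35 false,.eqn 26 false,.eqn 35 true],
[.code,.eqn 26 false,.eqn 35 false],
[.code,.eqn 35 false],
[.edge 74],
[.code],
[.code,.eqn 35 false,.eqn 26 false],
[.code,.eqn 26 false,.eqn 35 false,.eqn 26 false],
[.eqn 26 false,.edge 73,.eqn 30 false,.eqn 34 true,.eqn 30 false],
[.code,.eqn 30 false,.eqn 34 true,.eqn 30 false],
[.code],
[.code,.eqn 34 false,.eqn 30 true],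
[.eqn 34 true,.edge 63,.eqn 69 true,.eqn 72 false],
[.code,.eqn 35 false,.eqn 26 false],
[.code,.eqn 26 false,.eqn 35 false],
[.code,.eqn 35 true,.eqn 26 false,.eqn 35 false],
[.eqn 35 false,.eqn 26 false,.edge 73,.eqn 30 true],
[.code,.eqn 34 true,.eqn 30 true],
[.code],
[.code],
[.eqn 34 true,.edge 63,.eqn 69 true,.eqn 72 false],
[.code],
[.code],
[.code],
[.edge 55,.eqn 56 true],
[.code],
[.code],
[.code],
[.edge 57,.eqn 28 false],
[.code],
[.code,.eqn 34 false,.eqn 30 false],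
[.code],
[.eqn 32 false,.edge 5,.eqn 35 false,.eqn 26 false],
[.code,.eqn 26 false],
[.code,.eqn 35 true,.eqn 26 false],
[.code,.eqn 26 false],
[.eqn 26 false,.edge 73,.eqn 30 true],
[.code,.eqn 32 false],
[.code],
[.code],
[.eqn 34 true,.edge 63,.eqn 69 true,.eqn 72 false],
[.code],
[.code,.eqn 28 false,.eqn 29 false,.eqn 28 false,.eqn 33 false],
[.code],
[.eqn 27 false,.eqn 33 false,.edge 4],
[.code],
[.code],
[.code,.eqn 32 false,.eqn 34 false],
[.eqn 34 false,.edge 5],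
[.code,.eqn 32 false],
[.code],
[.code,.eqn 30 true,.eqn 32 false],
[.edge 5]]

/-- The walks. -/
def walks2 : List (List Move) := walks2_0 ++ walks2_1 ++ walks2_2 ++ walks2_3 ++ walks2_4 ++ walks2_5

end Cfsg.Agent.J2Uniq.CData
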