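import Mathlib
import Cfsg.Agent.Lib.J2Uniq.CData0
import Cfsg.Agent.Lib.J2Uniq.CData1
import Cfsg.Agent.Lib.J2Uniq.CData2
import Cfsg.Agent.Lib.J2Uniq.CData3
import Cfsg.Agent.Lib.J2Uniq.TData0
import Cfsg.Agent.Lib.J2Uniq.TData1
import Cfsg.Agent.Lib.J2Uniq.TData2
import Cfsg.Agent.Lib.J2Uniq.Perms

/-!
The certificates are valid, and the four permutations come from words in the reflections.
-/

set_option autoImplicit false
set_option maxRecDepth 100000
set_option maxHeartbeats 4000000

namespace Cfsg.Agent.J2Uniq

/-- A permutation of the table. -/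
def perm (k j : ℕ) : ℕ := pget (CData.perms.getD k 0) 9 j

/-- A word of generators applied to a point. -/
def pact : List ℕ → ℕ → ℕ
  | [], j => j
  | k :: w, j => perm k (pact w j)

/-- All collapsing certificates. -/
def smalls : List (ℕ × Cert × List Move) := CData.list0 ++ CData.list1 ++ CData.list2 ++ CData.list3

theorem collapse0 : (CData.list0.all fun x => x.2.1.collapse x.1 x.2.2) = true := by decide +kernel

theorem collapse1 : (CData.list1.all fun x => x.2.1.collapse x.1 x.2.2) = true := by decide +kernel

theorem collapse2 : (CData.list2.all fun x => x.2.1.collapse x.1 x.2.2) = true := by decide +kernel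

theorem collapse3 : (CData.list3.all fun x => x.2.1.collapse x.1 x.2.2) = true := by decide +kernel

theorem table0 : CData.t0.table CData.th0 CData.terms0 perm CData.walks0 = true := by decide +kernel

theorem table1 : CData.t1.table CData.th1 CData.terms1 perm CData.walks1 = true := by decide +kernel

theorem table2 : CData.t2.table CData.th2 CData.terms2 perm CData.walks2 = true := by decide +kernel

theorem cases_ok : ∀ h ∈ Data.invs, h ∈ smalls.map Prod.fst ∨ h = CData.th0 ∨ h = CData.th1 ∨ h = CData.th2 := by
  decide +kernel

theorem base_ok : ∀ j < 315, pact (CData.fromBase.getD j []) 0 = j ∧ pact (CData.toBase.getD j []) j = 0 ∧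
    (∀ k ∈ CData.fromBase.getD j [], k < 4) ∧ (∀ k ∈ CData.toBase.getD j [], k < 4) ∧
    ∀ k < 4, perm k j < 315 := by
  decide +kernel

/-- Following a chain of pairs. -/
def chainEnd (j : ℕ) : List (List ℕ × Bool) → ℕ → Option ℕ
  | [], a => some a
  | (w, b) :: rest, a =>
    if b then (if Nat.beq (pact w j) a then chainEnd j rest (pact w 0) else none)
    else (if Nat.beq (pact w 0) a then chainEnd j rest (pact w j) else none)

theorem chains_ok : ∀ j < 314, chainEnd (j + 1) (CData.chains.getD j []) 0 = some (perm 3 0) ∧
    ∀ p ∈ CData.chains.getD j [], ∀ k ∈ p.1, k < 4 := by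
  decide +kernel

end Cfsg.Agent.J2Uniq
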