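import Mathlib.Init

/-!
Words in three generators of the group of order 1920.
-/

set_option autoImplicit false

namespace Cfsg.Agent.J2Uniq.Data

/-- Words for the letters. -/
def letterWords : List (List Nat) := [[1, 0, 1], [0], [2, 1, 0, 1, 2, 2], [1, 2, 1, 0, 1, 2, 2, 1], [0, 1, 0, 1, 0, 1, 0, 1]]

/-- Words for the permutations. -/
def permWords : List (List Nat) := [[], [1, 2, 1, 2, 1, 2, 2, 1, 2, 1], [2, 1, 2, 1, 2, 2, 1, 2], [2, 1, 2, 2], [1, 2, 1, 2, 1, 2, 2], [1, 2, 2, 1, 2, 1, 2, 2], [2, 2, 1, 2, 1, 2], [1, 2, 1], [1, 2, 2, 1, 2, 1, 2, 2, 1, 2, 1], [2, 1, 2, 2, 1, 2, 1], [1, 2, 2, 1], [1, 2, 1, 2, 2, 1, 2, 1, 2], [2, 1, 2, 1, 2, 2, 1, 2, 1], [1], [1, 2, 1, 2, 1, 2, 2, 1, 2], [1, 2, 2, 1, 2, 1, 2], [2, 1], [2,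 2, 1, 2, 1, 2, 2, 1, 2, 1], [1, 2, 1, 2, 2], [2, 1, 2, 1, 2, 2], [2, 2, 1, 2, 1, 2, 2], [1, 2, 1, 2, 2, 1, 2, 1], [2, 1, 2, 2, 1, 2, 1, 2], [2, 2, 1], [1, 2, 1, 2, 1, 2, 2, 1], [1, 2, 2, 1, 2, 1, 2, 2, 1], [2, 1, 2, 2, 1], [2, 2, 1, 2, 1, 2, 2, 1, 2], [1, 2, 1, 2, 2, 1, 2, 2], [2], [1, 2, 1, 2, 2, 1, 2, 1, 2, 2, 1, 2], [1, 2, 1, 2], [2, 1, 2, 1], [2, 1, 2, 2, 1, 2, 1, 2, 2], [2, 2, 1, 2, 2], [1, 2, 2, 1, 2], [1, 2, 2, 1, 2, 1, 2, 2, 1, 2], [2, 1, 2, 2, 1, 2, 2], [1, 2], [2, 1, 2, 1, 2, 2, 1], [2, 2, 1, 2, 1, 2, 2, 1], [1, 2, 1, 2, 2, 1], [2, 1, 2], [2, 1, 2, 2, 1, 2, 1, 2, 2, 1, 2], [1, 2, 1, 2, 1], [1, 2, 2, 1, 2, 2], [1, 2, 1, 2, 2, 1, 2, 1, 2, 2], [2, 2, 1, 2], [1, 2, 2], [1, 2, 1, 2, 1, 2, 2, 1, 2, 2], [2, 1, 2, 2,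 1, 2], [2, 2], [1, 2, 1, 2, 2, 1, 2], [2, 1, 2, 1, 2, 2, 1, 2, 2], [1, 2, 1, 2, 1, 2], [1, 2, 2, 1, 2, 1], [2, 1, 2, 2, 1, 2, 1, 2, 2, 1], [2, 2, 1, 2, 1], [2, 1, 2, 1, 2], [1, 2, 1, 2, 2, 1, 2, 1, 2, 2, 1]]

end Cfsg.Agent.J2Uniq.Data
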