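import Mathlib
import Cfsg.Agent.Lib.J2Uniq.Model

/-!
A checker for deductions on the points of an action of a group containing the group of order 1920
and an element `s` of order three. A term `(x, i)` is the image of the point `i` under the code `x`.
-/

set_option autoImplicit false
set_option maxRecDepth 100000

namespace Cfsg.Agent.J2Uniq

/-- A code, the element `s`, or its inverse. -/
inductive Letter where
  | code (g : ℕ)
  | s
  | si

/-- The inverse letter. -/
def Letter.flip : Letter → Letter
  | .code g => .code (inv g)
  | .s => .si
  | .si => .s

/-- The inverse word. -/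
def flipWord (L : List Letter) : List Letter := (L.map Letter.flip).reverse

/-- `s` maps the term `(a, i)` to `(b, j)` if `edge`; otherwise the two terms are equal. -/
structure Fact where
  edge : Bool
  a : ℕ
  i : ℕ
  b : ℕ
  j : ℕ

/-- A move: apply a code letter, rewrite by an equation, or apply `s` or its inverse by an edge. -/
inductive Move where
  | code
  | eqn (k : ℕ) (back : Bool)
  | edge (k : ℕ)

/-- The fact of a given number. -/
def getFact (F : List Fact) (k : ℕ) : Fact := F.getD k ⟨false, 0, 0, 0, 0⟩

/-- Rewriting by an equation. -/
def eqStep (f : Fact) (back : Bool) (x i : ℕ) : Option (ℕ × ℕ) :=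
  if f.edge then none
  else if back then (if Nat.beq f.j i then some (mul (mul x (inv f.b)) f.a, f.i) else none)
  else (if Nat.beq f.i i then some (mul (mul x (inv f.a)) f.b, f.j) else none)

/-- Applying `s` by an edge. -/
def fwdStep (f : Fact) (x i : ℕ) : Option (ℕ × ℕ) :=
  if f.edge && Nat.beq f.i i && inCU (mul x (inv f.a)) then some (mul (phi (mul x (inv f.a))) f.b, f.j) else none

/-- Applying the inverse of `s` by an edge. -/
def bwdStep (f : Fact) (x i : ℕ) : Option (ℕ × ℕ) :=
  if f.edge && Nat.beq f.j i && inCU (mul x (inv f.b)) then some (mul (phinv (mul x (inv f.b))) f.a, f.i) else none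

/-- Following a word by moves. -/
def walk (F : List Fact) : List Move → List Letter → ℕ → ℕ → Option (ℕ × ℕ)
  | [], [], x, i => some (x, i)
  | [], _ :: _, _, _ => none
  | .code :: ms, .code g :: L, x, i => walk F ms L (mul g x) i
  | .eqn k back :: ms, L, x, i =>
    match eqStep (getFact F k) back x i with
    | none => none
    | some p => walk F ms L p.1 p.2
  | .edge k :: ms, .s :: L, x, i =>
    match fwdStep (getFact F k) x i with
    | none => none
    | some p => walk F ms L p.1 p.2
  | .edge k :: ms, .si :: L, x, i =>
    match bwdStep (getFact F k) x i with
    | none => none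
    | some p => walk F ms L p.1 p.2
  | _ :: _, _, _, _ => none

/-- A deduction. -/
structure Cmd where
  x : ℕ
  i : ℕ
  rel : ℕ
  pos : ℕ
  gap : Bool
  fwd : List Move
  bwd : List Move

/-- One deduction; `rels` are the words acting trivially, `n` the number of nodes. -/
def derive (rels : List (List Letter)) (n : ℕ) (F : List Fact) (c : Cmd) : Option Fact :=
  if !decide (c.i < n) then none else
    let L := rels.getD c.rel []
    match walk F c.fwd (L.take c.pos) c.x c.i with
    | none => none
    | some A =>
      if c.gap then
        match walk F c.bwd (flipWord (L.drop (c.pos + 1))) c.x c.i with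
        | none => none
        | some B =>
          match L.drop c.pos with
          | .s :: _ => some ⟨true, A.1, A.2, B.1, B.2⟩
          | .si :: _ => some ⟨true, B.1, B.2, A.1, A.2⟩
          | _ => none
      else
        match walk F c.bwd (flipWord (L.drop c.pos)) c.x c.i with
        | none => none
        | some B => some ⟨false, A.1, A.2, B.1, B.2⟩

/-- All deductions. -/
def deriveAll (rels : List (List Letter)) (n : ℕ) : List Cmd → List Fact → Option (List Fact)
  | [], F => some F
  | c :: cs, F =>
    match derive rels n F c with
    | none => none
    | some f => deriveAll rels n cs (F ++ [f])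

/-- The definition of a node: the image under `s`, or its inverse, of a term of an earlier node. -/
structure Def where
  back : Bool
  x : ℕ
  i : ℕ

/-- The facts defining the nodes. -/
def defFacts : List Def → ℕ → Option (List Fact)
  | [], _ => some []
  | d :: ds, n =>
    if decide (d.i < n) then
      match defFacts ds (n + 1) with
      | none => none
      | some F => some ((if d.back then ⟨true, 0, n, d.x, d.i⟩ else ⟨true, d.x, d.i, 0, n⟩) :: F)
    else none

/-- The word whose image of the base point is fixed by the chosen involution. -/
def gWord : List Letter := [.s, .code 928, .s, .code 416, .s]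

/-- The words acting trivially. -/
def relsOf (h : ℕ) : List (List Letter) :=
  [[.s, .s, .s], [.s, .code ec, .s, .code ec, .code (inv cc)],
    ([.code h] ++ flipWord gWord ++ [.code zc] ++ gWord) ++ ([.code h] ++ flipWord gWord ++ [.code zc] ++ gWord),
    [.si, .s], [.s, .si], []]

/-- The facts fixing the base point. -/
def initFacts : List Fact := [⟨false, ec, 0, 0, 0⟩, ⟨false, 416, 0, 0, 0⟩, ⟨false, 928, 0, 0, 0⟩]

/-- A certificate. -/
structure Cert where
  defs : List Def
  fix : List Move
  cmds : List Cmd

/-- The facts of a certificate for the involution `h`. -/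
def Cert.facts (h : ℕ) (c : Cert) : Option (List Fact) :=
  match defFacts c.defs 1 with
  | none => none
  | some D =>
    match walk (initFacts ++ D) c.fix gWord 0 0 with
    | none => none
    | some w => deriveAll (relsOf h) (c.defs.length + 1) c.cmds
        (initFacts ++ D ++ [⟨false, mul h w.1, w.2, w.1, w.2⟩])

/-- The certificate shows that `s` fixes the base point. -/
def Cert.collapse (h : ℕ) (c : Cert) (ms : List Move) : Bool :=
  match c.facts h with
  | none => false
  | some F =>
    match walk F ms [.s] 0 0 with
    | none => false
    | some w => Nat.beq w.2 0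

/-- The four generators as letters. -/
def genLetter : ℕ → Letter
  | 0 => .code ec
  | 1 => .code 416
  | 2 => .code 928
  | _ => .s

/-- Walks of four generators between the terms. -/
def walksOk (F : List Fact) (terms : List (ℕ × ℕ)) (perm : ℕ → ℕ → ℕ) : List (List Move) → ℕ → Bool
  | [], _ => true
  | ms :: rest, n =>
    (match walk F ms [genLetter (n % 4)] (terms.getD (n / 4) (0, 0)).1 (terms.getD (n / 4) (0, 0)).2 with
    | none => false
    | some w => Nat.beq w.1 (terms.getD (perm (n % 4) (n / 4)) (0, 0)).1 &&
        Nat.beq w.2 (terms.getD (perm (n % 4) (n / 4)) (0, 0)).2) && walksOk F terms perm rest (n + 1)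

/-- The certificate gives the action on 315 terms. -/
def Cert.table (h : ℕ) (c : Cert) (terms : List (ℕ × ℕ)) (perm : ℕ → ℕ → ℕ) (walks : List (List Move)) : Bool :=
  match c.facts h with
  | none => false
  | some F => Nat.beq terms.length 315 && Nat.beq walks.length 1260 &&
      Nat.beq (terms.getD 0 (0, 0)).1 0 && Nat.beq (terms.getD 0 (0, 0)).2 0 &&
      (terms.all fun t => decide (t.2 ≤ c.defs.length)) && walksOk F terms perm walks 0

end Cfsg.Agent.J2Uniq
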