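import Mathlib
import Cfsg.Agent.Lib.J2Uniq.Frame
import Cfsg.Agent.Lib.J2Uniq.Cert

/-!
Soundness of the checker.
-/

set_option autoImplicit false
set_option linter.all false
set_option maxRecDepth 100000

namespace Cfsg.Agent.J2Uniq

open Subgroup

universe v

variable {G : Type v} [Group G] {z : G} {ρ : ℕ → G} {s : G}

/-- The points. -/
abbrev Pt (z : G) : Type v := G ⧸ Subgroup.centralizer ({z} : Set G)

/-- The point of a term. -/
def pt (z : G) (ρ : ℕ → G) (P : ℕ → Pt z) (x i : ℕ) : Pt z := ρ x • P i

/-- A fact holds. -/
def Holds (z : G) (ρ : ℕ → G) (s : G) (P : ℕ → Pt z) (f : Fact) : Prop :=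
  if f.edge then s • pt z ρ P f.a f.i = pt z ρ P f.b f.j else pt z ρ P f.a f.i = pt z ρ P f.b f.j

/-- The value of a letter. -/
def letterG (ρ : ℕ → G) (s : G) : Letter → G
  | .code g => ρ g
  | .s => s
  | .si => s⁻¹

/-- The value of a word, whose first letter acts first. -/
def wordG (ρ : ℕ → G) (s : G) : List Letter → G
  | [] => 1
  | l :: L => wordG ρ s L * letterG ρ s l

theorem wordG_append : ∀ L M : List Letter, wordG ρ s (L ++ M) = wordG ρ s M * wordG ρ s L
  | [], M => by simp [wordG]
  | l :: L, M => by rw [List.cons_append, wordG, wordG_append L M, wordG, mul_assoc]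

namespace Frame

variable (F : Frame z ρ s)

include F

theorem inv_eq (a : ℕ) : ρ (inv a) = (ρ a)⁻¹ := by
  have h : inv a = inv (a % 1920) := by
    unfold inv
    rw [show qp (a % 1920) = qp a by unfold qp; omega, show pp (a % 1920) = pp a by unfold pp; omega]
  rw [h, ← F.mod_eq a]
  exact (inv_eq_of_mul_eq_one_right (by rw [← F.mul_eq, inv_ok _ (Nat.mod_lt a (by norm_num)), F.zero])).symm

theorem sconj_inv {r : ℕ} (hr : inCU r = true) : s⁻¹ * ρ r = ρ (phinv r) * s⁻¹ := by
  rw [← inCU_mod] at hr
  obtain ⟨-, -, -, h1, h2, -⟩ := cu_ok _ (Nat.mod_lt r (by norm_num)) hr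
  have e := F.sconj _ h1
  rw [h2, F.mod_eq, show phinv (r % 1920) = phinv r by unfold phinv; rw [Nat.mod_mod]] at e
  rw [inv_mul_eq_iff_eq_mul, ← mul_assoc, e, mul_inv_cancel_right]

theorem pt_mul (P : ℕ → Pt z) (x a i : ℕ) : pt z ρ P (mul x a) i = ρ x • pt z ρ P a i := by
  rw [pt, pt, F.mul_eq, mul_smul]

theorem pt_div (P : ℕ → Pt z) (x a i : ℕ) : pt z ρ P x i = ρ (mul x (inv a)) • pt z ρ P a i := by
  rw [pt, pt, F.mul_eq, F.inv_eq, smul_smul, inv_mul_cancel_right]

theorem letter_flip (l : Letter) : letterG ρ s l.flip = (letterG ρ s l)⁻¹ := by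
  cases l with
  | code g => exact F.inv_eq g
  | s => rfl
  | si => exact (inv_inv s).symm

theorem word_flip : ∀ L : List Letter, wordG ρ s (flipWord L) = (wordG ρ s L)⁻¹
  | [] => by simp [flipWord, wordG]
  | l :: L => by
    rw [show flipWord (l :: L) = flipWord L ++ [l.flip] by simp [flipWord], wordG_append, word_flip L]
    simp only [wordG, one_mul]
    rw [F.letter_flip, mul_inv_rev]

theorem eqStep_sound (P : ℕ → Pt z) {f : Fact} (hf : Holds z ρ s P f) {back : Bool} {x i : ℕ} {p : ℕ × ℕ}
    (h : eqStep f back x i = some p) : pt z ρ P p.1 p.2 = pt z ρ P x i := by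
  unfold eqStep at h
  unfold Holds at hf
  split at h
  · exact absurd h (by simp)
  · rename_i he
    rw [if_neg he] at hf
    split at h
    · split at h
      · rename_i hij
        cases h
        rw [← Nat.eq_of_beq_eq_true hij, F.pt_mul, hf, ← F.pt_div]
      · exact absurd h (by simp)
    · split at h
      · rename_i hij
        cases h
        rw [← Nat.eq_of_beq_eq_true hij, F.pt_mul, ← hf, ← F.pt_div]
      · exact absurd h (by simp)

theorem fwdStep_sound (P : ℕ → Pt z) {f : Fact} (hf : Holds z ρ s P f) {x i : ℕ} {p : ℕ × ℕ}
    (h : fwdStep f x i = some p) : pt z ρ P p.1 p.2 = s • pt z ρ P x i := by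
  unfold fwdStep at h
  unfold Holds at hf
  split at h
  · rename_i hc
    simp only [Bool.and_eq_true] at hc
    obtain ⟨⟨he, hij⟩, hr⟩ := hc
    rw [if_pos he] at hf
    cases h
    rw [← Nat.eq_of_beq_eq_true hij, F.pt_mul, ← hf, F.pt_div P x f.a, smul_smul, smul_smul, ← F.sconj _ hr]
  · exact absurd h (by simp)

theorem bwdStep_sound (P : ℕ → Pt z) {f : Fact} (hf : Holds z ρ s P f) {x i : ℕ} {p : ℕ × ℕ}
    (h : bwdStep f x i = some p) : pt z ρ P p.1 p.2 = s⁻¹ • pt z ρ P x i := by
  unfold bwdStep at h
  unfold Holds at hf
  split at h
  · rename_i hc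
    simp only [Bool.and_eq_true] at hc
    obtain ⟨⟨he, hij⟩, hr⟩ := hc
    rw [if_pos he] at hf
    cases h
    rw [← Nat.eq_of_beq_eq_true hij, F.pt_mul, F.pt_div P x f.b, smul_smul, F.sconj_inv hr, mul_smul, ← hf,
      inv_smul_smul]
  · exact absurd h (by simp)

/-- All facts of a list hold. -/
theorem getFact_holds (P : ℕ → Pt z) {Fs : List Fact} (h : ∀ f ∈ Fs, Holds z ρ s P f) (k : ℕ) :
    Holds z ρ s P (getFact Fs k) := by
  unfold getFact
  by_cases hk : k < Fs.length
  · rw [List.getD_eq_getElem _ _ hk]; exact h _ (List.getElem_mem _)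
  · rw [List.getD_eq_default _ _ (by omega)]
    simp [Holds]

theorem walk_sound (P : ℕ → Pt z) {Fs : List Fact} (hF : ∀ f ∈ Fs, Holds z ρ s P f) :
    ∀ (ms : List Move) (L : List Letter) (x i : ℕ) {p : ℕ × ℕ}, walk Fs ms L x i = some p →
      pt z ρ P p.1 p.2 = wordG ρ s L • pt z ρ P x i := by
  intro ms
  induction ms with
  | nil =>
    intro L x i p h
    cases L with
    | nil => simp [walk] at h; subst h; simp [wordG]
    | cons l L => simp [walk] at h
  | cons m ms ih =>
    intro L x i p h
    cases m with
    | code =>
      cases L with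
      | nil => simp [walk] at h
      | cons l L =>
        cases l with
        | code g =>
          simp only [walk] at h
          rw [ih L _ i h, F.pt_mul, wordG, mul_smul]
          rfl
        | s => simp [walk] at h
        | si => simp [walk] at h
    | eqn k back =>
      simp only [walk] at h
      cases hq : eqStep (getFact Fs k) back x i with
      | none => rw [hq] at h; simp at h
      | some q =>
        rw [hq] at h
        rw [ih L q.1 q.2 h, F.eqStep_sound P (F.getFact_holds P hF k) hq]
    | edge k =>
      cases L with
      | nil => simp [walk] at h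
      | cons l L =>
        cases l with
        | code g => simp [walk] at h
        | s =>
          simp only [walk] at h
          cases hq : fwdStep (getFact Fs k) x i with
          | none => rw [hq] at h; simp at h
          | some q =>
            rw [hq] at h
            rw [ih L q.1 q.2 h, F.fwdStep_sound P (F.getFact_holds P hF k) hq, wordG, mul_smul]
            rfl
        | si =>
          simp only [walk] at h
          cases hq : bwdStep (getFact Fs k) x i with
          | none => rw [hq] at h; simp at h
          | some q =>
            rw [hq] at h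
            rw [ih L q.1 q.2 h, F.bwdStep_sound P (F.getFact_holds P hF k) hq, wordG, mul_smul]
            rfl

theorem derive_sound (P : ℕ → Pt z) {rels : List (List Letter)} (hrels : ∀ L ∈ rels, wordG ρ s L = 1) {n : ℕ}
    {Fs : List Fact} (hF : ∀ f ∈ Fs, Holds z ρ s P f) {c : Cmd} {f : Fact} (h : derive rels n Fs c = some f) :
    Holds z ρ s P f := by
  unfold derive at h
  split at h
  · simp at h
  have hL : wordG ρ s (rels.getD c.rel []) = 1 := by
    by_cases hk : c.rel < rels.length
    · rw [List.getD_eq_getElem _ _ hk]; exact hrels _ (List.getElem_mem _)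
    · rw [List.getD_eq_default _ _ (by omega)]; rfl
  set L := rels.getD c.rel [] with hLdef
  clear_value L
  simp only at h
  cases hA : walk Fs c.fwd (L.take c.pos) c.x c.i with
  | none => rw [hA] at h; simp at h
  | some A =>
    rw [hA] at h
    have eA := F.walk_sound P hF _ _ _ _ hA
    have hsplit : wordG ρ s (L.drop c.pos) * wordG ρ s (L.take c.pos) = 1 := by
      rw [← wordG_append, List.take_append_drop, hL]
    simp only at h
    split at h
    · cases hB : walk Fs c.bwd (flipWord (L.drop (c.pos + 1))) c.x c.i with
      | none => rw [hB] at h; simp at h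
      | some B =>
        rw [hB] at h
        have eB := F.walk_sound P hF _ _ _ _ hB
        rw [F.word_flip] at eB
        simp only at h
        cases hD : L.drop c.pos with
        | nil => rw [hD] at h; simp at h
        | cons l rest =>
          have hrest : L.drop (c.pos + 1) = rest := by rw [← List.tail_drop, hD]; rfl
          rw [hrest] at eB
          rw [hD, wordG, mul_assoc] at hsplit
          have e1 : pt z ρ P B.1 B.2 = letterG ρ s l • pt z ρ P A.1 A.2 := by
            rw [eB, eA, smul_smul, inv_eq_of_mul_eq_one_right hsplit]
          rw [hD] at h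
          cases l with
          | code g => simp at h
          | s =>
            simp only [Option.some.injEq] at h
            subst h
            simp only [Holds, if_true]
            exact e1.symm
          | si =>
            simp only [Option.some.injEq] at h
            subst h
            simp only [Holds, if_true]
            rw [e1]
            exact smul_inv_smul s _
    · cases hB : walk Fs c.bwd (flipWord (L.drop c.pos)) c.x c.i with
      | none => rw [hB] at h; simp at h
      | some B =>
        rw [hB] at h
        have eB := F.walk_sound P hF _ _ _ _ hB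
        rw [F.word_flip, inv_eq_of_mul_eq_one_right hsplit] at eB
        simp only [Option.some.injEq] at h
        subst h
        simp only [Holds, Bool.false_eq_true, if_false]
        rw [eA, eB]

theorem deriveAll_sound (P : ℕ → Pt z) {rels : List (List Letter)} (hrels : ∀ L ∈ rels, wordG ρ s L = 1) {n : ℕ} :
    ∀ (cs : List Cmd) (Fs : List Fact), (∀ f ∈ Fs, Holds z ρ s P f) → ∀ {R : List Fact},
      deriveAll rels n cs Fs = some R → ∀ f ∈ R, Holds z ρ s P f := by
  intro cs
  induction cs with
  | nil => intro Fs hF R h; simp [deriveAll] at h; subst h; exact hF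
  | cons c cs ih =>
    intro Fs hF R h
    simp only [deriveAll] at h
    cases hd : derive rels n Fs c with
    | none => rw [hd] at h; simp at h
    | some g =>
      rw [hd] at h
      refine ih _ (fun f hf => ?_) h
      rcases List.mem_append.1 hf with hf | hf
      · exact hF f hf
      · rw [List.mem_singleton.1 hf]; exact F.derive_sound P hrels hF hd

/-- The nodes of a list of definitions. -/
theorem defFacts_sound : ∀ (ds : List Def) (n : ℕ) (P : ℕ → Pt z) {D : List Fact}, defFacts ds n = some D →
    ∃ P' : ℕ → Pt z, (∀ i < n, P' i = P i) ∧ ∀ f ∈ D, Holds z ρ s P' f := by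
  intro ds
  induction ds with
  | nil => intro n P D h; simp [defFacts] at h; subst h; exact ⟨P, fun _ _ => rfl, by simp⟩
  | cons d ds ih =>
    intro n P D h
    simp only [defFacts] at h
    split at h
    · rename_i hlt
      have hlt' : d.i < n := of_decide_eq_true hlt
      cases hd : defFacts ds (n + 1) with
      | none => rw [hd] at h; simp at h
      | some R =>
        rw [hd] at h
        simp only [Option.some.injEq] at h
        subst h
        let v : Pt z := (if d.back then s⁻¹ else s) • pt z ρ P d.x d.i
        obtain ⟨P', hP', hR⟩ := ih (n + 1) (Function.update P n v) hd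
        have e1 : P' n = v := by rw [hP' n (by omega), Function.update_self]
        have e2 : ∀ i < n, P' i = P i := fun i hi => by
          rw [hP' i (by omega), Function.update_of_ne (by omega)]
        refine ⟨P', e2, ?_⟩
        intro f hf
        rcases List.mem_cons.1 hf with rfl | hf
        · have ea : pt z ρ P' d.x d.i = pt z ρ P d.x d.i := by rw [pt, pt, e2 _ hlt']
          have eb : pt z ρ P' 0 n = v := by rw [pt, e1, F.zero, one_smul]
          cases hb : d.back
          · simp only [Holds, Bool.false_eq_true, if_false, if_true]
            rw [ea, eb]; simp [v, hb]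
          · simp only [Holds, if_true]
            rw [ea, eb]; simp [v, hb]
        · exact hR f hf
    · simp at h

end Frame

end Cfsg.Agent.J2Uniq
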