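import Mathlib
import Cfsg.Agent.Lib.J2Uniq.Sound
import Cfsg.Agent.Lib.J2Uniq.CertChecks
import Cfsg.Agent.Lib.J2Uniq.GenWords
import Cfsg.Agent.Lib.IcoLeech.Out

/-!
A group of Hall–Janko type is isomorphic to `J2`.
-/

set_option autoImplicit false
set_option linter.all false
set_option maxRecDepth 100000

namespace Cfsg.Agent.J2Uniq

open Subgroup Cfsg.Spor

universe v

/-- A group of order fifteen has an element of order fifteen. -/
theorem exists_order_fifteen {Y : Type*} [Group Y] [Finite Y] (h : Nat.card Y = 15) : ∃ y : Y, orderOf y = 15 := by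
  haveI : _root_.Fact (Nat.Prime 3) := ⟨by norm_num⟩
  haveI : _root_.Fact (Nat.Prime 5) := ⟨by norm_num⟩
  obtain ⟨a, ha⟩ := exists_prime_orderOf_dvd_card' (G := Y) 3 (by rw [h]; norm_num)
  obtain ⟨b, hb⟩ := exists_prime_orderOf_dvd_card' (G := Y) 5 (by rw [h]; norm_num)
  have hb5 : b ^ 5 = 1 := by rw [← hb, pow_orderOf_eq_one]
  have hcard : Nat.card (zpowers b) = 5 := by rw [Nat.card_zpowers, hb]
  have hidx : (zpowers b).index = 3 := by
    have := (zpowers b).card_mul_index
    rw [hcard, h] at this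
    omega
  haveI : (zpowers b).Normal :=
    Subgroup.normal_of_index_eq_minFac_card (by rw [hidx, h]; norm_num)
  obtain ⟨k, hk⟩ : ∃ k : ℕ, b ^ k = a * b * a⁻¹ := by
    have : a * b * a⁻¹ ∈ zpowers b := Subgroup.Normal.conj_mem inferInstance b (mem_zpowers b) a
    obtain ⟨m, hm⟩ := (mem_powers_iff_mem_zpowers (x := b)).2 this
    exact ⟨m, hm⟩
  have hk3 : b ^ (k * k * k) = b := by
    have h1 : ∀ m : ℕ, a * b ^ m * a⁻¹ = b ^ (k * m) := fun m => by rw [← conj_pow, ← hk, ← pow_mul]
    have ha3 : a ^ 3 = 1 := by rw [← ha, pow_orderOf_eq_one]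
    calc b ^ (k * k * k) = a * (a * (a * b * a⁻¹) * a⁻¹) * a⁻¹ := by rw [← hk, h1, h1, mul_assoc]
      _ = a ^ 3 * b * (a ^ 3)⁻¹ := by rw [pow_succ, pow_succ, pow_one]; group
      _ = b := by rw [ha3, one_mul, inv_one, mul_one]
  have hmod : k * k * k % 5 = 1 := by
    have := (pow_inj_mod (x := b) (n := k * k * k) (m := 1)).1 (by rw [hk3, pow_one])
    rw [hb] at this
    simpa using this
  have hk1 : k % 5 = 1 := by
    have h2 : (k % 5) * (k % 5) * (k % 5) % 5 = 1 := by
      rw [← hmod]; simp [Nat.mul_mod]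
    have : k % 5 < 5 := Nat.mod_lt _ (by norm_num)
    interval_cases hm : k % 5 <;> simp_all
  have hcomm : Commute a b := by
    have e : a * b * a⁻¹ = b := by
      rw [← hk, ← pow_mod_orderOf, hb, hk1, pow_one]
    exact mul_inv_eq_iff_eq_mul.1 e
  exact ⟨a * b, by rw [hcomm.orderOf_mul_eq_mul_orderOf_of_coprime (by rw [ha, hb]; norm_num), ha, hb]⟩

/-- The three generators as codes. -/
def genCode (k : ℕ) : ℕ := [ec, 416, 928].getD k 0

/-- A word for a code. -/
def codeWord (r : ℕ) : List ℕ :=
  (qbits (qp r)).flatMap (fun i => Data.letterWords.getD i []) ++ Data.permWords.getD (pp r) []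

theorem codeWord_ok : ∀ r < 1920, ev genCode (codeWord r) = r ∧ ∀ k ∈ codeWord r, k < 3 := by decide +kernel

theorem moved_ok : ∀ r < 1920, r ≠ 0 → r ≠ zc →
    ∃ c ∈ [0, 416, 928, mul 928 928, mul 416 928, mul 928 416, mul 416 (mul 928 928)], inCU (cj c r) = false := by
  decide +kernel

theorem moved_one : ∃ c ∈ [416], inCU (cj c 1) = false ∧ c < 1920 := by decide +kernel

theorem perm_words : ∀ k < 4, ∀ j < 315, perm k j = IcoLeech.wact (CData.words.getD k []) j := by decide +kernel

namespace Frame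

variable {G : Type v} [Group G] {z : G} {ρ : ℕ → G} {s : G} (F : Frame z ρ s)

include F

theorem ev_prod (im : ℕ → ℕ) : ∀ w : List ℕ, ρ (ev im w) = (w.map fun k => ρ (im k)).prod
  | [] => by simp [ev, F.zero]
  | k :: w => by rw [List.map_cons, List.prod_cons, ← ev_prod im w, ← F.mul_eq]; rfl

theorem cj_eq (g a : ℕ) : ρ (cj g a) = ρ g * ρ a * (ρ g)⁻¹ := by rw [cj, F.mul_eq, F.mul_eq, F.inv_eq]

theorem inj' {a b : ℕ} (ha : a < 1920) (hb : b < 1920) (e : ρ a = ρ b) : a = b :=
  inv_unique a ha b hb (F.inj _ (mul_lt _ _) (by rw [F.mul_eq, e, F.inv_eq, mul_inv_cancel]))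

theorem zne : s * z * s⁻¹ = ρ 1 ∧ ρ 1 ≠ z := by
  have h : inCU zc = true ∧ phi zc = 1 := by decide +kernel
  refine ⟨?_, fun e => ?_⟩
  · rw [mul_inv_eq_iff_eq_mul, ← F.zc_eq, F.sconj _ h.1, h.2]
  · exact absurd (F.inj' (by norm_num) (by norm_num [zc]) (e.trans F.zc_eq.symm)) (by norm_num [zc])

theorem s_notMem : s ∉ Subgroup.centralizer ({z} : Set G) := fun e => by
  have e1 := mem_centralizer_singleton_iff.1 e
  exact F.zne.2 (by rw [← F.zne.1, e1, mul_inv_cancel_right])

/-- The base point. -/
theorem base_smul_eq {g : G} :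
    g • (QuotientGroup.mk (1 : G) : Pt z) = QuotientGroup.mk 1 ↔ g ∈ Subgroup.centralizer ({z} : Set G) := by
  show (QuotientGroup.mk (g * 1) : Pt z) = QuotientGroup.mk 1 ↔ _
  rw [mul_one, QuotientGroup.eq, mul_one, Subgroup.inv_mem_iff]

variable [Finite G]

theorem card_centralizer : Nat.card (Subgroup.centralizer ({z} : Set G)) = 1920 := by
  have hb : Function.Bijective fun a : Fin 1920 =>
      (⟨ρ a, F.mem a⟩ : Subgroup.centralizer ({z} : Set G)) := by
    refine ⟨fun a b e => Fin.ext (F.inj' a.2 b.2 (congrArg Subtype.val e)), fun g => ?_⟩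
    obtain ⟨a, ha, e⟩ := F.surj g g.2
    exact ⟨⟨a, ha⟩, Subtype.ext e⟩
  rw [← Nat.card_eq_of_bijective _ hb, Nat.card_eq_fintype_card, Fintype.card_fin]

/-- Every point is fixed by an involution of the centralizer of `z`. -/
theorem exists_fix (hidx : Nat.card (Pt z) = 315) (p : Pt z) : ∃ h ∈ Data.invs, ρ h • p = p := by
  set C := Subgroup.centralizer ({z} : Set G)
  set S := MulAction.stabilizer C p with hS
  have hCS : S.index * Nat.card S = 1920 := by
    rw [mul_comm, Subgroup.card_mul_index, F.card_centralizer]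
  have horb : S.index ≤ 315 := by
    rw [hS, MulAction.index_stabilizer, ← hidx]
    exact Set.ncard_le_card _
  have hdvd : Nat.card S ∣ 1920 := ⟨S.index, by rw [mul_comm]; exact hCS.symm⟩
  have h7 : 7 ≤ Nat.card S := by nlinarith
  have h2 : 2 ∣ Nat.card S := by
    by_contra h2
    have h15 : Nat.card S ∣ 15 := by
      have hco : Nat.Coprime (Nat.card S) 128 := (Nat.Coprime.pow_right 7 ((Nat.coprime_comm.1 ((Nat.Prime.coprime_iff_not_dvd Nat.prime_two).2 h2)))) 
      exact hco.dvd_of_dvd_mul_left (by norm_num; exact hdvd)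
    have hle := Nat.le_of_dvd (by norm_num) h15
    have hS15 : Nat.card S = 15 := by
      obtain ⟨m, hm⟩ := h15
      have : m ≤ 2 := by nlinarith
      interval_cases m <;> omega
    obtain ⟨y, hy⟩ := exists_order_fifteen hS15
    obtain ⟨a, ha, e⟩ := F.surj (((y : S) : C) : G) ((y : S) : C).2
    have hpow : ∀ n, ρ ((mul a)^[n] 0) = ((y : C) : G) ^ n := by
      intro n
      induction n with
      | zero => simp [F.zero]
      | succ n ih => rw [Function.iterate_succ_apply', F.mul_eq, ih, e, pow_succ']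
    have hord : orderOf (((y : S) : C) : G) = 15 := by rw [Subgroup.orderOf_coe, Subgroup.orderOf_coe, hy]
    have hlt : ∀ n, (mul a)^[n] 0 < 1920 := fun n => by
      cases n with
      | zero => norm_num
      | succ n => rw [Function.iterate_succ_apply']; exact mul_lt _ _
    have h0 : (mul a)^[15] 0 = 0 := F.inj _ (hlt _) (by rw [hpow, ← hord, pow_orderOf_eq_one])
    rcases fifteen_ok a ha h0 with h3 | h5
    · have := orderOf_dvd_of_pow_eq_one (x := (((y : S) : C) : G)) (n := 3) (by rw [← hpow, h3, F.zero])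
      rw [hord] at this
      norm_num at this
    · have := orderOf_dvd_of_pow_eq_one (x := (((y : S) : C) : G)) (n := 5) (by rw [← hpow, h5, F.zero])
      rw [hord] at this
      norm_num at this
  haveI : _root_.Fact (Nat.Prime 2) := ⟨Nat.prime_two⟩
  obtain ⟨y, hy⟩ := exists_prime_orderOf_dvd_card' (G := S) 2 h2
  obtain ⟨a, ha, e⟩ := F.surj (((y : S) : C) : G) ((y : S) : C).2
  have hord : orderOf (((y : S) : C) : G) = 2 := by rw [Subgroup.orderOf_coe, Subgroup.orderOf_coe, hy]
  have h0 : mul a a = 0 := F.inj _ (mul_lt _ _) (by rw [F.mul_eq, e, ← pow_two, ← hord, pow_orderOf_eq_one])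
  refine ⟨a, (invs_ok a ha h0).resolve_left fun h1 => ?_, ?_⟩
  · rw [h1, F.zero] at e
    rw [← e, orderOf_one] at hord
    omega
  · rw [e]
    exact MulAction.mem_stabilizer_iff.1 y.2

/-- The value of the special word. -/
theorem rels_true (h : ℕ) (hh : mul h h = 0)
    (hfix : ρ h • (wordG ρ s gWord • (QuotientGroup.mk (1 : G) : Pt z)) = wordG ρ s gWord • QuotientGroup.mk (1 : G)) :
    ∀ L ∈ relsOf h, wordG ρ s L = 1 := by
  set g := wordG ρ s gWord with hg
  have hmem : g⁻¹ * ρ h * g ∈ Subgroup.centralizer ({z} : Set G) := by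
    rw [← base_smul_eq F, mul_smul, mul_smul, hfix, inv_smul_smul]
  intro L hL
  simp only [relsOf, List.mem_cons, List.mem_nil_iff, or_false] at hL
  rcases hL with rfl | rfl | rfl | rfl | rfl | rfl
  · simp [wordG, letterG, F.s3, mul_assoc]
  · simp only [wordG, letterG, one_mul]
    rw [F.inv_eq, show (ρ cc)⁻¹ * ρ ec * s * ρ ec * s = (ρ cc)⁻¹ * (ρ ec * s * ρ ec * s) by group, F.twist,
      inv_mul_cancel]
  · have hw : wordG ρ s ([.code h] ++ flipWord gWord ++ [.code zc] ++ gWord) = g * z * g⁻¹ * ρ h := by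
      rw [wordG_append, wordG_append, wordG_append, F.word_flip, ← hg]
      simp only [wordG, letterG, one_mul, F.zc_eq]
      group
    rw [wordG_append, hw]
    have hh1 : ρ h * ρ h = 1 := by rw [← F.mul_eq, hh, F.zero]
    have hzz : z * z = 1 := by
      rw [← F.zc_eq, ← F.mul_eq, sg_vals.2.2.2.2.2.1, F.zero]
    have hc : z * (g⁻¹ * ρ h * g) = g⁻¹ * ρ h * g * z := (mem_centralizer_singleton_iff.1 hmem).symm
    calc g * z * g⁻¹ * ρ h * (g * z * g⁻¹ * ρ h) = g * (z * (g⁻¹ * ρ h * g)) * z * g⁻¹ * ρ h := by group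
      _ = ρ h * g * (z * z) * g⁻¹ * ρ h := by rw [hc]; group
      _ = 1 := by rw [hzz, mul_one, mul_inv_cancel_right, hh1]
  · simp [wordG, letterG]
  · simp [wordG, letterG]
  · rfl

/-- The facts of a certificate hold. -/
theorem facts_sound (c : Cert) (h : ℕ) (hh : mul h h = 0)
    (hfix : ρ h • (wordG ρ s gWord • (QuotientGroup.mk (1 : G) : Pt z)) = wordG ρ s gWord • QuotientGroup.mk (1 : G))
    {R : List Fact} (hR : c.facts h = some R) :
    ∃ P : ℕ → Pt z, P 0 = QuotientGroup.mk 1 ∧ ∀ f ∈ R, Holds z ρ s P f := by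
  unfold Cert.facts at hR
  cases hD : defFacts c.defs 1 with
  | none => rw [hD] at hR; simp at hR
  | some D =>
    rw [hD] at hR
    simp only at hR
    obtain ⟨P, hP, hDs⟩ := F.defFacts_sound c.defs 1 (fun _ => (QuotientGroup.mk (1 : G) : Pt z)) hD
    have hP0 : P 0 = QuotientGroup.mk 1 := hP 0 (by norm_num)
    have h0 : ∀ f ∈ initFacts ++ D, Holds z ρ s P f := by
      intro f hf
      rcases List.mem_append.1 hf with hf | hf
      · simp only [initFacts, List.mem_cons, List.mem_nil_iff, or_false] at hf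
        rcases hf with rfl | rfl | rfl <;>
        · simp only [Holds, Bool.false_eq_true, if_false, pt, hP0, F.zero, one_smul]
          exact (base_smul_eq F).2 (F.mem _)
      · exact hDs f hf
    cases hw : walk (initFacts ++ D) c.fix gWord 0 0 with
    | none => rw [hw] at hR; simp at hR
    | some w =>
      rw [hw] at hR
      simp only at hR
      have ew := F.walk_sound P h0 _ _ _ _ hw
      rw [pt, pt, F.zero, one_smul, hP0] at ew
      refine ⟨P, hP0, F.deriveAll_sound P (F.rels_true h hh hfix) c.cmds _ (fun f hf => ?_) hR⟩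
      rcases List.mem_append.1 hf with hf | hf
      · exact h0 f hf
      · rw [List.mem_singleton.1 hf]
        simp only [Holds, Bool.false_eq_true, if_false]
        rw [F.pt_mul, pt, ew, hfix]

theorem no_collapse (c : Cert) (ms : List Move) (h : ℕ) (hh : mul h h = 0)
    (hfix : ρ h • (wordG ρ s gWord • (QuotientGroup.mk (1 : G) : Pt z)) = wordG ρ s gWord • QuotientGroup.mk (1 : G))
    (hc : c.collapse h ms = true) : False := by
  unfold Cert.collapse at hc
  cases hR : c.facts h with
  | none => rw [hR] at hc; simp at hc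
  | some R =>
    rw [hR] at hc
    simp only at hc
    obtain ⟨P, hP0, hF⟩ := F.facts_sound c h hh hfix hR
    cases hw : walk R ms [.s] 0 0 with
    | none => rw [hw] at hc; simp at hc
    | some w =>
      rw [hw] at hc
      simp only at hc
      have ew := F.walk_sound P hF _ _ _ _ hw
      rw [Nat.eq_of_beq_eq_true hc, pt, pt, hP0, F.zero, one_smul, (base_smul_eq F).2 (F.mem _)] at ew
      refine F.s_notMem ((base_smul_eq F).1 ?_)
      simpa [wordG, letterG] using ew.symm

/-- The generators. -/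
def gen (ρ : ℕ → G) (s : G) (k : ℕ) : G := letterG ρ s (genLetter k)

theorem gens_top (htrans : ∀ p : Pt z, ∃ w : List ℕ, (∀ k ∈ w, k < 4) ∧
    (w.map (gen ρ s)).prod • (QuotientGroup.mk (1 : G) : Pt z) = p) (g : G) :
    g ∈ Subgroup.closure (gen ρ s '' {k | k < 4}) := by
  set H := Subgroup.closure (gen ρ s '' {k | k < 4})
  have hC : ∀ a, ρ a ∈ H := fun a => by
    rw [← F.mod_eq a, ← (codeWord_ok _ (Nat.mod_lt a (by norm_num))).1, F.ev_prod]
    refine list_prod_mem fun x hx => ?_
    obtain ⟨k, hk, rfl⟩ := List.mem_map.1 hx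
    have hk3 := (codeWord_ok _ (Nat.mod_lt a (by norm_num))).2 k hk
    refine Subgroup.subset_closure ⟨k, show k < 4 by omega, ?_⟩
    interval_cases k <;> rfl
  obtain ⟨w, hw, e⟩ := htrans (QuotientGroup.mk g)
  have hwH : (w.map (gen ρ s)).prod ∈ H := list_prod_mem fun x hx => by
    obtain ⟨k, hk, rfl⟩ := List.mem_map.1 hx
    exact Subgroup.subset_closure ⟨k, hw k hk, rfl⟩
  have hmem : (w.map (gen ρ s)).prod⁻¹ * g ∈ Subgroup.centralizer ({z} : Set G) := by
    have e' : (QuotientGroup.mk ((w.map (gen ρ s)).prod * 1) : Pt z) = QuotientGroup.mk g := e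
    rwa [mul_one, QuotientGroup.eq] at e'
  obtain ⟨a, -, ea⟩ := F.surj _ hmem
  have := mul_mem hwH (hC a)
  rwa [ea, mul_inv_cancel_left] at this

theorem core_trivial {g : G} (hg : ∀ p : Pt z, g • p = p) : g = 1 := by
  obtain ⟨r, hr, rfl⟩ := F.surj g ((base_smul_eq F).1 (hg _))
  have key : ∀ a, (∀ p : Pt z, ρ a • p = p) → inCU a = true := by
    intro a ha
    have h1 : s⁻¹ * ρ a * s ∈ Subgroup.centralizer ({z} : Set G) := by
      rw [← base_smul_eq F, mul_smul, mul_smul, ha, inv_smul_smul]
    have h2 : ρ a * ρ 1 = ρ 1 * ρ a := by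
      rw [← F.zne.1]
      have := mem_centralizer_singleton_iff.1 h1
      calc ρ a * (s * z * s⁻¹) = s * (s⁻¹ * ρ a * s * z) * s⁻¹ := by group
        _ = _ := by rw [this]; group
    rw [← F.mul_eq, ← F.mul_eq] at h2
    rw [inCU, F.inj' (mul_lt _ _) (mul_lt _ _) h2]
    exact Nat.beq_refl _
  have hconj : ∀ a, (∀ p : Pt z, ρ a • p = p) → ∀ c, inCU (cj c a) = true := fun a ha c => key _ fun p => by
    rw [F.cj_eq, mul_smul, mul_smul, ha, smul_inv_smul]
  by_contra hne
  by_cases hz : r = zc
  · obtain ⟨c, -, hc, -⟩ := moved_one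
    refine absurd (hconj 1 (fun p => ?_) c) (by rw [hc]; simp)
    have hz' : ∀ q : Pt z, z • q = q := fun q => by
      have := hg q
      rwa [hz, F.zc_eq] at this
    rw [← F.zne.1, mul_smul, mul_smul, hz', smul_inv_smul]
  · obtain ⟨c, -, hc⟩ := moved_ok r hr (fun e => hne (by rw [e, F.zero])) hz
    exact absurd (hconj r hg c) (by rw [hc]; simp)

theorem equiv_of_table (hidx : Nat.card (Pt z) = 315) (hG : Nat.card G = 604800) (c : Cert) (h : ℕ)
    (terms : List (ℕ × ℕ)) (walks : List (List Move)) (hh : mul h h = 0)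
    (hfix : ρ h • (wordG ρ s gWord • (QuotientGroup.mk (1 : G) : Pt z)) = wordG ρ s gWord • QuotientGroup.mk (1 : G))
    (hT : c.table h terms perm walks = true) : Nonempty (G ≃* J2) := by
  classical
  unfold Cert.table at hT
  cases hR : c.facts h with
  | none => rw [hR] at hT; simp at hT
  | some R =>
    rw [hR] at hT
    simp only [Bool.and_eq_true] at hT
    obtain ⟨⟨⟨⟨⟨-, hlen⟩, ht1⟩, ht2⟩, -⟩, hW⟩ := hT
    obtain ⟨P, hP0, hF⟩ := F.facts_sound c h hh hfix hR
    have hwalks : ∀ (ws : List (List Move)) (n : ℕ), walksOk R terms perm ws n = true → ∀ i < ws.length,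
        gen ρ s ((n + i) % 4) • pt z ρ P (terms.getD ((n + i) / 4) (0, 0)).1 (terms.getD ((n + i) / 4) (0, 0)).2 =
          pt z ρ P (terms.getD (perm ((n + i) % 4) ((n + i) / 4)) (0, 0)).1
            (terms.getD (perm ((n + i) % 4) ((n + i) / 4)) (0, 0)).2 := by
      intro ws
      induction ws with
      | nil => intro n _ i hi; simp at hi
      | cons ms ws ih =>
        intro n hn i hi
        simp only [walksOk, Bool.and_eq_true] at hn
        cases i with
        | zero =>
          rw [add_zero]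
          obtain ⟨hn1, -⟩ := hn
          cases hw : walk R ms [genLetter (n % 4)] (terms.getD (n / 4) (0, 0)).1 (terms.getD (n / 4) (0, 0)).2 with
          | none => rw [hw] at hn1; simp at hn1
          | some w =>
            rw [hw] at hn1
            simp only [Bool.and_eq_true] at hn1
            have ew := F.walk_sound P hF _ _ _ _ hw
            rw [Nat.eq_of_beq_eq_true hn1.1, Nat.eq_of_beq_eq_true hn1.2] at ew
            rw [ew, show wordG ρ s [genLetter (n % 4)] = gen ρ s (n % 4) by simp [wordG, gen]]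
        | succ i =>
          rw [show n + (i + 1) = n + 1 + i by omega]
          exact ih (n + 1) hn.2 i (by simpa using hi)
    let ψ : ℕ → Pt z := fun j => pt z ρ P (terms.getD j (0, 0)).1 (terms.getD j (0, 0)).2
    have hψ : ∀ k < 4, ∀ j < 315, gen ρ s k • ψ j = ψ (perm k j) := by
      intro k hk j hj
      have := hwalks walks 0 hW (4 * j + k) (by rw [Nat.eq_of_beq_eq_true hlen]; omega)
      rw [zero_add, show (4 * j + k) % 4 = k by omega, show (4 * j + k) / 4 = j by omega] at this
      exact this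
    have hlt : ∀ k < 4, ∀ j < 315, perm k j < 315 := fun k hk j hj => (base_ok j hj).2.2.2.2 k hk
    have hpact : ∀ w : List ℕ, (∀ k ∈ w, k < 4) → ∀ j < 315,
        pact w j < 315 ∧ (w.map (gen ρ s)).prod • ψ j = ψ (pact w j) := by
      intro w
      induction w with
      | nil => intro _ j hj; simp [pact, hj]
      | cons k w ih =>
        intro hw j hj
        obtain ⟨h1, h2⟩ := ih (fun a ha => hw a (List.mem_cons_of_mem _ ha)) j hj
        refine ⟨hlt k (hw k List.mem_cons_self) _ h1, ?_⟩
        rw [List.map_cons, List.prod_cons, mul_smul, h2, hψ k (hw k List.mem_cons_self) _ h1, pact]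
    have hψ0 : ψ 0 = QuotientGroup.mk 1 := by
      show pt z ρ P _ _ = _
      rw [Nat.eq_of_beq_eq_true ht1, Nat.eq_of_beq_eq_true ht2, pt, hP0, F.zero, one_smul]
    -- the generators in the model
    let π : ℕ → Equiv.Perm (Fin 315) := fun k => IcoLeech.rho (IcoLeech.wJ (CData.words.getD k []))
    have hπ : ∀ k < 4, ∀ i : Fin 315, ((π k i : Fin 315) : ℕ) = perm k i := fun k hk i => by
      rw [perm_words k hk i i.2]; exact IcoLeech.rho_apply _ i
    have hpinj : ∀ w : List ℕ, (∀ k ∈ w, k < 4) → ∀ i : Fin 315,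
        (((w.map π).prod i : Fin 315) : ℕ) = pact w i := by
      intro w
      induction w with
      | nil => intro _ i; simp [pact]
      | cons k w ih =>
        intro hw i
        rw [List.map_cons, List.prod_cons, Equiv.Perm.mul_apply, hπ k (hw k List.mem_cons_self),
          ih (fun a ha => hw a (List.mem_cons_of_mem _ ha)), pact]
    have hsep : ∀ j < 315, j ≠ 0 → ψ 0 ≠ ψ j := by
      intro j hj hj0 e
      obtain ⟨hch, hk⟩ := chains_ok (j - 1) (by omega)
      rw [show j - 1 + 1 = j by omega] at hch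
      have key : ∀ (L : List (List ℕ × Bool)) (a b : ℕ), (∀ p ∈ L, ∀ k ∈ p.1, k < 4) →
          chainEnd j L a = some b → ψ a = ψ b := by
        intro L
        induction L with
        | nil => intro a b _ h; simp [chainEnd] at h; rw [h]
        | cons p L ih =>
          obtain ⟨w, bb⟩ := p
          intro a b hL h
          have hw := hL _ List.mem_cons_self
          have heq : ψ (pact w j) = ψ (pact w 0) := by
            rw [← (hpact w hw j hj).2, ← (hpact w hw 0 (by norm_num)).2, e]
          have hL' := fun p hp => hL p (List.mem_cons_of_mem _ hp)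
          simp only [chainEnd] at h
          split at h <;> split at h
          · rename_i hb; rw [← Nat.eq_of_beq_eq_true hb, heq]; exact ih _ _ hL' h
          · simp at h
          · rename_i hb; rw [← Nat.eq_of_beq_eq_true hb, ← heq]; exact ih _ _ hL' h
          · simp at h
      have e1 := key _ 0 _ hk hch
      rw [← hψ 3 (by norm_num) 0 (by norm_num), hψ0] at e1
      exact F.s_notMem ((base_smul_eq F).1 e1.symm)
    have hinj : Function.Injective fun i : Fin 315 => ψ i := by
      intro i j e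
      obtain ⟨-, hb2, -, hb4, -⟩ := base_ok i i.2
      have e' : ψ (pact (CData.toBase.getD i []) i) = ψ (pact (CData.toBase.getD i []) j) := by
        rw [← (hpact _ hb4 i i.2).2, ← (hpact _ hb4 j j.2).2]; exact congrArg _ e
      rw [hb2] at e'
      have h0 : pact (CData.toBase.getD i []) j = 0 := by
        by_contra hne
        exact hsep _ (hpact _ hb4 j j.2).1 hne e'
      refine (List.map π (CData.toBase.getD i [])).prod.injective (Fin.ext ?_)
      rw [hpinj _ hb4, hpinj _ hb4, hb2, h0]
    haveI : Finite (Pt z) := Nat.finite_of_card_ne_zero (by rw [hidx]; norm_num)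
    let e : Fin 315 ≃ Pt z := Equiv.ofBijective _ ((Nat.bijective_iff_injective_and_card _).2
      ⟨hinj, by rw [hidx, Nat.card_eq_fintype_card, Fintype.card_fin]⟩)
    let Φ : G →* Equiv.Perm (Fin 315) := (e.symm.permCongrHom.toMonoidHom).comp (MulAction.toPermHom G (Pt z))
    have hΦ : ∀ k < 4, Φ (gen ρ s k) = π k := by
      intro k hk
      refine Equiv.ext fun i => ?_
      show e.symm (gen ρ s k • e i) = π k i
      rw [Equiv.symm_apply_eq]
      show gen ρ s k • ψ i = ψ (π k i : Fin 315)
      rw [hψ k hk i i.2, hπ k hk]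
    have hΦinj : Function.Injective Φ := by
      refine (injective_iff_map_eq_one Φ).2 fun g hg => F.core_trivial fun p => ?_
      have := congrArg (fun σ : Equiv.Perm (Fin 315) => σ (e.symm p)) hg
      simp only [Φ, Equiv.Perm.one_apply] at this
      have h2 : e.symm (g • e (e.symm p)) = e.symm p := this
      rw [Equiv.apply_symm_apply] at h2
      exact e.symm.injective h2
    have hle : Φ.range ≤ IcoLeech.rho.range := by
      rintro _ ⟨g, rfl⟩
      have hg := F.gens_top (fun p => ?_) g
      · refine Subgroup.closure_le (K := IcoLeech.rho.range.comap Φ) |>.2 ?_ hg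
        rintro _ ⟨k, hk, rfl⟩
        exact ⟨_, (hΦ k hk).symm⟩
      · obtain ⟨i, rfl⟩ := e.surjective p
        obtain ⟨hb1, -, hb3, -⟩ := base_ok i i.2
        refine ⟨_, hb3, ?_⟩
        rw [← hψ0, (hpact _ hb3 0 (by norm_num)).2, hb1]
        rfl
    haveI := IcoLeech.finite_J2
    have hcard : Nat.card Φ.range = Nat.card IcoLeech.rho.range := by
      rw [← Nat.card_congr (MonoidHom.ofInjective hΦinj).toEquiv,
        ← Nat.card_congr IcoLeech.rhoEquiv.toEquiv, hG, IcoLeech.card_J2]
    have heq : Φ.range = IcoLeech.rho.range := eq_of_le_of_card_ge hle hcard.ge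
    exact ⟨(MonoidHom.ofInjective hΦinj).trans ((MulEquiv.subgroupCongr heq).trans IcoLeech.rhoEquiv.symm)⟩

theorem iso (hidx : Nat.card (Pt z) = 315) (hG : Nat.card G = 604800) : Nonempty (G ≃* J2) := by
  obtain ⟨h, hh, hfix⟩ := F.exists_fix hidx (wordG ρ s gWord • (QuotientGroup.mk (1 : G) : Pt z))
  have hh0 : mul h h = 0 := by
    have : ∀ a ∈ Data.invs, mul a a = 0 := by decide +kernel
    exact this h hh
  rcases cases_ok h hh with hc | rfl | rfl | rfl
  · obtain ⟨⟨h', c, ms⟩, hx, rfl⟩ := List.mem_map.1 hc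
    have hok : c.collapse h' ms = true := by
      unfold smalls at hx
      simp only [List.mem_append] at hx
      rcases hx with ((hx | hx) | hx) | hx
      · exact List.all_eq_true.1 collapse0 _ hx
      · exact List.all_eq_true.1 collapse1 _ hx
      · exact List.all_eq_true.1 collapse2 _ hx
      · exact List.all_eq_true.1 collapse3 _ hx
    exact (F.no_collapse c ms h' hh0 hfix hok).elim
  · exact F.equiv_of_table hidx hG _ _ _ _ hh0 hfix table0
  · exact F.equiv_of_table hidx hG _ _ _ _ hh0 hfix table1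
  · exact F.equiv_of_table hidx hG _ _ _ _ hh0 hfix table2

end Frame

/-- The uniqueness of the Hall–Janko group. -/
theorem isoJ2 {G : Type v} [Group G] [Finite G] {z : G} {Q K : Subgroup (Subgroup.centralizer ({z} : Set G))}
    (H : JankoTwo.Hyp z Q K) : Nonempty (G ≃* J2) := by
  obtain ⟨t, V, B, U, S, -⟩ := JankoTwo.exists_second H
  obtain ⟨hG, -⟩ := H.order S
  obtain ⟨ρ₀, s₀, B₀⟩ := exists_base H
  obtain ⟨ρ, s, F⟩ := B₀.exists_frame
  refine F.iso ?_ hG
  have h := (Subgroup.centralizer ({z} : Set G)).card_mul_index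
  rw [H.card_cz, hG] at h
  rw [show Nat.card (Pt z) = (Subgroup.centralizer ({z} : Set G)).index from rfl]
  omega

end Cfsg.Agent.J2Uniq
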